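import Cfsg.Agent.Schur.Criteria

set_option autoImplicit false

namespace Cfsg.Lib.Schur

universe u v w

variable {α : Type u} {Q : Type v} [Group Q] {π : FreeGroup α →* Q}

/-- A divisible abelian group receives extensions of homomorphisms defined on subgroups
meeting the derived subgroup trivially. -/
theorem exists_extend {K : Type w} [CommGroup K] [DivisibleBy (Additive K) ℤ]
    {C : Subgroup (E π)} (hCc : C ⊓ commutator (E π) = ⊥) (f : C →* K) :
    ∃ μ : E π →* K, ∀ c : C, μ c = f c := by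
  let j : C →* Multiplicative (α →₀ ℤ) := (ab π).comp C.subtype
  have hj : Function.Injective j := by
    rw [← MonoidHom.ker_eq_bot_iff, eq_bot_iff]
    intro c hc
    have h : (c : E π) ∈ C ⊓ commutator (E π) := ⟨c.2, by
      show (c : E π) ∈ commutator (E π)
      rw [← ker_ab]; exact hc⟩
    rw [hCc, Subgroup.mem_bot] at h
    exact Subgroup.mem_bot.mpr (Subtype.ext h)
  let : CommGroup C :=
    { (inferInstance : Group C) with
      mul_comm := fun a b => hj (by rw [map_mul, map_mul, mul_comm]) }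
  obtain ⟨h, hh⟩ := (Module.Baer.of_divisible (Additive K)).extension_property_addMonoidHom
    (MonoidHom.toAdditiveLeft j) hj (MonoidHom.toAdditive f)
  exact ⟨(AddMonoidHom.toMultiplicativeLeft.symm.symm
    (h.comp (AddMonoidHom.id (α →₀ ℤ)))).comp (ab π), fun c => DFunLike.congr_fun hh (Additive.ofMul c)⟩

/-- Lifting a homomorphism through a central extension, on the universal central extension. -/
theorem exists_lift_over {Γ : Type w} {H : Type*} [Group Γ] [Group H] (σ : Γ →* H)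
    (hs : Function.Surjective σ) (hc : σ.ker ≤ Subgroup.center Γ) (γ : Q →* H) :
    ∃ φ : E π →* Γ, σ.comp φ = γ.comp (proj π) := by
  classical
  let f : FreeGroup α →* Γ := FreeGroup.lift (fun a => (hs (γ (π (FreeGroup.of a)))).choose)
  have hf : σ.comp f = γ.comp π := FreeGroup.ext_hom _ _ fun a => by
    simpa [f] using (hs (γ (π (FreeGroup.of a)))).choose_spec
  have hle : relComm π ≤ f.ker := by
    rw [Subgroup.commutator_le]
    intro x hx y _
    rw [MonoidHom.mem_ker, map_commutatorElement, commutatorElement_eq_one_iff_mul_comm]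
    exact (Subgroup.mem_center_iff.mp (hc (show f x ∈ σ.ker by
      rw [MonoidHom.mem_ker, ← MonoidHom.comp_apply, hf, MonoidHom.comp_apply,
        show π x = 1 from hx, map_one])) (f y)).symm
  refine ⟨QuotientGroup.lift _ f hle, MonoidHom.ext fun a => ?_⟩
  obtain ⟨x, rfl⟩ := QuotientGroup.mk'_surjective (relComm π) a
  exact DFunLike.congr_fun hf x

/-- The centre of `GL n ℂ` is divisible. -/
@[reducible] noncomputable def divisibleCenter (n : ℕ) :
    DivisibleBy (Additive (Subgroup.center (GL (Fin n) ℂ))) ℤ :=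
  let expU : ℂ →+ Additive ℂˣ :=
    { toFun := fun z => Additive.ofMul (Units.mk0 (Complex.exp z) (Complex.exp_ne_zero z))
      map_zero' := by simp
      map_add' := fun a b => by
        rw [← ofMul_mul]; exact congrArg Additive.ofMul (Units.ext (Complex.exp_add a b)) }
  let sc : ℂˣ →* Subgroup.center (GL (Fin n) ℂ) :=
    (Matrix.GeneralLinearGroup.scalar (Fin n)).codRestrict _ fun a => by
      rw [Matrix.GeneralLinearGroup.center_eq_range_scalar]; exact ⟨a, rfl⟩
  let f : ℂ →+ Additive (Subgroup.center (GL (Fin n) ℂ)) := (MonoidHom.toAdditive sc).comp expU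
  have hf : Function.Surjective f := fun x => by
    obtain ⟨a, ha⟩ : ((Additive.toMul x : Subgroup.center (GL (Fin n) ℂ)) : GL (Fin n) ℂ) ∈
        (Matrix.GeneralLinearGroup.scalar (Fin n)).range := by
      rw [← Matrix.GeneralLinearGroup.center_eq_range_scalar]; exact (Additive.toMul x).2
    refine ⟨Complex.log a, ?_⟩
    have e : expU (Complex.log a) = Additive.ofMul a :=
      congrArg Additive.ofMul (Units.ext (Complex.exp_log a.ne_zero))
    show MonoidHom.toAdditive sc (expU (Complex.log a)) = x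
    rw [e]
    exact congrArg Additive.ofMul (Subtype.ext ha : sc a = Additive.toMul x)
  let : DivisibleBy ℂ ℤ :=
    { div := fun z k => z / (k : ℂ)
      div_zero := fun z => by simp
      div_cancel := fun {k} z hk => by
        show k • (z / (k : ℂ)) = z
        rw [zsmul_eq_mul, mul_div_cancel₀]; exact_mod_cast hk }
  hf.divisibleBy f fun a k => map_zsmul f k a

/-- Projective representations lift to a cover. -/
theorem lift_of_injOn {Γ : Type w} [Group Γ] {σ : Γ →* Q} (hσ : Cfsg.IsStemExtension σ)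
    (hπ : Function.Surjective π) {ψ : E π →* Γ} (hψ : σ.comp ψ = proj π)
    (hinj : ψ.ker ⊓ commutator (E π) = ⊥) (n : ℕ)
    (γ : Q →* (GL (Fin n) ℂ ⧸ Subgroup.center (GL (Fin n) ℂ))) :
    ∃ ρ : Γ →* GL (Fin n) ℂ,
      (QuotientGroup.mk' (Subgroup.center (GL (Fin n) ℂ))).comp ρ = γ.comp σ := by
  have := divisibleCenter n
  have hs := lift_surjective hσ hψ hπ
  obtain ⟨φ, hφ⟩ := exists_lift_over (π := π) (QuotientGroup.mk' (Subgroup.center (GL (Fin n) ℂ)))
    (QuotientGroup.mk'_surjective _) (by rw [QuotientGroup.ker_mk']) γ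
  have hC : ∀ c : ψ.ker, φ c ∈ Subgroup.center (GL (Fin n) ℂ) := fun c => by
    rw [← QuotientGroup.eq_one_iff]
    have h := DFunLike.congr_fun hφ (c : E π)
    refine h.trans ?_
    show γ (proj π c) = 1
    rw [← hψ, MonoidHom.comp_apply, show ψ c = 1 from c.2, map_one, map_one]
  let : CommGroup (Subgroup.center (GL (Fin n) ℂ)) :=
    { (inferInstance : Group (Subgroup.center (GL (Fin n) ℂ))) with
      mul_comm := mul_comm_of_le_center le_rfl }
  obtain ⟨μ, hμ⟩ := exists_extend hinj ((φ.comp ψ.ker.subtype).codRestrict _ hC)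
  let φ' : E π →* GL (Fin n) ℂ := MonoidHom.mk' (fun x => φ x * (μ x : GL (Fin n) ℂ)⁻¹) (by
    intro a b
    have h := Subgroup.mem_center_iff.mp (Subgroup.inv_mem _ (μ a).2)
    have h' := Subgroup.mem_center_iff.mp (Subgroup.inv_mem _ (μ b).2)
    rw [map_mul, map_mul, Subgroup.coe_mul, mul_inv_rev]
    calc φ a * φ b * ((μ b : GL (Fin n) ℂ)⁻¹ * (μ a : GL (Fin n) ℂ)⁻¹)
        = φ a * (φ b * (μ b : GL (Fin n) ℂ)⁻¹ * (μ a : GL (Fin n) ℂ)⁻¹) := by group
      _ = φ a * ((μ a : GL (Fin n) ℂ)⁻¹ * (φ b * (μ b : GL (Fin n) ℂ)⁻¹)) := by rw [h]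
      _ = _ := by group)
  have hle : ψ.ker ≤ φ'.ker := fun c hc => by
    have := congrArg Subtype.val (hμ ⟨c, hc⟩)
    show φ c * (μ c : GL (Fin n) ℂ)⁻¹ = 1
    rw [this]; exact mul_inv_cancel _
  refine ⟨ψ.liftOfSurjective hs ⟨φ', hle⟩, ?_⟩
  refine (MonoidHom.cancel_right hs).mp ?_
  refine MonoidHom.ext fun x => ?_
  simp only [MonoidHom.comp_apply]
  rw [MonoidHom.liftOfRightInverse_comp_apply, ← MonoidHom.comp_apply σ, hψ]
  show QuotientGroup.mk' _ (φ x * (μ x : GL (Fin n) ℂ)⁻¹) = _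
  rw [map_mul, map_inv, show QuotientGroup.mk' (Subgroup.center (GL (Fin n) ℂ)) (μ x : GL (Fin n) ℂ) = 1
    from (QuotientGroup.eq_one_iff _).mpr (μ x).2, inv_one, mul_one]
  exact DFunLike.congr_fun hφ x

/-- A stem extension with kernel of the size of the multiplier is a cover. -/
theorem ker_inf_commutator_eq_bot {Γ : Type w} [Group Γ] {σ : Γ →* Q} [Finite Q]
    (hσ : Cfsg.IsStemExtension σ) (hπ : Function.Surjective π) {ψ : E π →* Γ}
    (hψ : σ.comp ψ = proj π) (hk : Nonempty (σ.ker ≃* M π)) :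
    ψ.ker ⊓ commutator (E π) = ⊥ := by
  obtain ⟨e⟩ := hk
  have := finite_M π hπ
  have : Function.Injective (toKer ψ hψ) :=
    (show Function.Injective (e ∘ toKer ψ hψ) from Finite.injective_iff_surjective.mpr
      (e.surjective.comp (toKer_surjective hσ ψ hψ hπ))).of_comp
  rw [eq_bot_iff]
  rintro x ⟨h1, h2⟩
  have hp : proj π x = 1 := by rw [← hψ, MonoidHom.comp_apply, show ψ x = 1 from h1, map_one]
  have := this (a₁ := ⟨x, hp, h2⟩) (a₂ := 1) (Subtype.ext (by rw [toKer_apply]; simpa using h1))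
  exact Subgroup.mem_bot.mpr (congrArg Subtype.val this)

/-- Projective representations of `Q` lift to every group with trivial multiplier over it. -/
theorem lift_of_trivial {Q : Type v} [Group Q] [Finite Q] (h : Cfsg.HasCyclicSchurMultiplier Q 1)
    (n : ℕ) (γ : Q →* (GL (Fin n) ℂ ⧸ Subgroup.center (GL (Fin n) ℂ))) :
    ∃ ρ : Q →* GL (Fin n) ℂ,
      (QuotientGroup.mk' (Subgroup.center (GL (Fin n) ℂ))).comp ρ = γ := by
  have hπ := canon_surjective Q
  obtain ⟨e⟩ := (hasSchurMultiplier_iff hπ).mp h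
  have := subsingleton_zmod_one
  have : Subsingleton (M (canon Q)) := e.symm.toEquiv.subsingleton
  have hid : Cfsg.IsStemExtension (MonoidHom.id Q) :=
    ⟨Function.surjective_id, by simp, by simp⟩
  obtain ⟨ρ, hρ⟩ := lift_of_injOn hid hπ (ψ := proj (canon Q)) rfl (by
    rw [eq_bot_iff]
    intro x hx
    exact Subgroup.mem_bot.mpr (congrArg Subtype.val (Subsingleton.elim (⟨x, hx⟩ : M (canon Q)) 1))) n γ
  exact ⟨ρ, hρ⟩

/-- The monomial representation induced by a character of a central kernel. -/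
theorem exists_monomial {Δ : Type w} {Q : Type v} [Group Δ] [Group Q] [Finite Q] (τ : Δ →* Q)
    (hs : Function.Surjective τ) (hc : τ.ker ≤ Subgroup.center Δ) (χ : τ.ker →* ℂˣ) :
    ∃ (N : ℕ) (ρ : Δ →* GL (Fin N) ℂ), 0 < N ∧
      ∀ k : τ.ker, ρ k = Matrix.GeneralLinearGroup.scalar (Fin N) (χ k) := by
  classical
  have := Fintype.ofFinite Q
  choose s hsec using hs
  have hmem : ∀ g q, (s q)⁻¹ * g * s ((τ g)⁻¹ * q) ∈ τ.ker := fun g q => by
    simp [MonoidHom.mem_ker, hsec]
  let c : Δ → Q → ℂ := fun g q => (χ ⟨_, hmem g q⟩ : ℂˣ)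
  let R : Δ →* Module.End ℂ (Q → ℂ) :=
    { toFun := fun g =>
        { toFun := fun f q => c g q * f ((τ g)⁻¹ * q)
          map_add' := fun f f' => funext fun q => mul_add _ _ _
          map_smul' := fun a f => funext fun q => by simp [mul_left_comm] }
      map_one' := LinearMap.ext fun f => funext fun q => by
        have : (⟨_, hmem 1 q⟩ : τ.ker) = 1 := Subtype.ext (by simp)
        show c 1 q * f ((τ 1)⁻¹ * q) = f q
        simp only [c, this]
        simp
      map_mul' := fun g h => LinearMap.ext fun f => funext fun q => by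
        have hq : (τ (g * h))⁻¹ * q = (τ h)⁻¹ * ((τ g)⁻¹ * q) := by simp [mul_assoc]
        have : (⟨_, hmem (g * h) q⟩ : τ.ker) = ⟨_, hmem g q⟩ * ⟨_, hmem h ((τ g)⁻¹ * q)⟩ := by
          refine Subtype.ext ?_
          simp only [Subgroup.coe_mul, hq]
          group
        show c (g * h) q * f _ = c g q * (c h ((τ g)⁻¹ * q) * f _)
        have e' : c (g * h) q = c g q * c h ((τ g)⁻¹ * q) :=
          (congrArg (fun k => ((χ k : ℂˣ) : ℂ)) this).trans
            ((congrArg Units.val (map_mul χ _ _)).trans (Units.val_mul _ _))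
        rw [← mul_assoc, hq, e'] }
  let b := (Pi.basisFun ℂ Q).reindex (Fintype.equivFin Q)
  let Φ : Module.End ℂ (Q → ℂ) →* Matrix (Fin (Fintype.card Q)) (Fin (Fintype.card Q)) ℂ :=
    (LinearMap.toMatrixAlgEquiv b).toMulEquiv.toMonoidHom
  refine ⟨Fintype.card Q, (Units.map Φ).comp R.toHomUnits, Fintype.card_pos, fun k => ?_⟩
  refine Units.ext ?_
  show Φ (R k) = Matrix.scalar _ ((χ k : ℂˣ) : ℂ)
  have : R k = ((χ k : ℂˣ) : ℂ) • (1 : Module.End ℂ (Q → ℂ)) := LinearMap.ext fun f => funext fun q => by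
    have hk : τ (k : Δ) = 1 := k.2
    have e : (⟨_, hmem k q⟩ : τ.ker) = k := Subtype.ext (by
      simp only [hk, inv_one, one_mul]
      rw [mul_assoc, ← Subgroup.mem_center_iff.mp (hc k.2) (s q)]; group)
    show c k q * f ((τ (k : Δ))⁻¹ * q) = _
    have ec : c k q = ((χ k : ℂˣ) : ℂ) := by simp only [c, e]
    simp [ec, hk]
  rw [this]
  show LinearMap.toMatrixAlgEquiv b _ = _
  rw [map_smul, map_one, Matrix.smul_one_eq_diagonal]
  simp

/-- If every projective representation lifts to a stem extension, it is a cover. -/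
theorem exists_surj_of_lift {Q : Type v} [Group Q] [Finite Q] {Γ : Type w} [Group Γ]
    {σ : Γ →* Q} (hσ : Cfsg.IsStemExtension σ)
    (hlift : ∀ (n : ℕ) (γ : Q →* (GL (Fin n) ℂ ⧸ Subgroup.center (GL (Fin n) ℂ))),
      ∃ ρ : Γ →* GL (Fin n) ℂ,
        (QuotientGroup.mk' (Subgroup.center (GL (Fin n) ℂ))).comp ρ = γ.comp σ) :
    Nonempty (σ.ker ≃* M (canon Q)) := by
  have hπ := canon_surjective Q
  obtain ⟨ψ, hψ⟩ := exists_lift (canon Q) σ hσ.1 hσ.2.1
  obtain ⟨Δ, _, _, τ, hτ, hk⟩ := exists_cover (canon Q) hπ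
  obtain ⟨ψ', hψ'⟩ := exists_lift (canon Q) τ hτ.1 hτ.2.1
  have hinj' := ker_inf_commutator_eq_bot hτ hπ hψ' hk
  refine ⟨(MulEquiv.ofBijective (toKer ψ hψ) ⟨?_, toKer_surjective hσ ψ hψ hπ⟩).symm⟩
  rw [← MonoidHom.ker_eq_bot_iff, eq_bot_iff]
  intro x hx
  by_contra hne
  have hx' : toKer ψ' hψ' x ≠ 1 := fun h => hne (by
    have h1 : (x : E (canon Q)) ∈ ψ'.ker ⊓ commutator (E (canon Q)) :=
      ⟨congrArg Subtype.val h, x.2.2⟩
    rw [hinj', Subgroup.mem_bot] at h1
    exact Subgroup.mem_bot.mpr (Subtype.ext h1))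
  let : CommGroup τ.ker :=
    { (inferInstance : Group τ.ker) with mul_comm := mul_comm_of_le_center hτ.2.1 }
  obtain ⟨χ, hχ⟩ := CommGroup.exists_apply_ne_one_of_hasEnoughRootsOfUnity τ.ker ℂ hx'
  obtain ⟨N, R, hN, hR⟩ := exists_monomial τ hτ.1 hτ.2.1 χ
  let mk := QuotientGroup.mk' (Subgroup.center (GL (Fin N) ℂ))
  have hle : τ.ker ≤ (mk.comp R).ker := fun k hk => by
    rw [MonoidHom.mem_ker, MonoidHom.comp_apply, hR ⟨k, hk⟩]
    refine (QuotientGroup.eq_one_iff _).mpr ?_
    rw [Matrix.GeneralLinearGroup.center_eq_range_scalar]; exact ⟨_, rfl⟩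
  obtain ⟨ρ, hρ⟩ := hlift N (τ.liftOfSurjective hτ.1 ⟨mk.comp R, hle⟩)
  have hcen : ∀ e, (R (ψ' e))⁻¹ * ρ (ψ e) ∈ Subgroup.center (GL (Fin N) ℂ) := fun e => by
    rw [← QuotientGroup.eq_one_iff]
    show mk ((R (ψ' e))⁻¹ * ρ (ψ e)) = 1
    have h1 := DFunLike.congr_fun hρ (ψ e)
    simp only [MonoidHom.comp_apply] at h1
    rw [← MonoidHom.comp_apply σ ψ, hψ, ← hψ', MonoidHom.comp_apply,
      MonoidHom.liftOfRightInverse_comp_apply] at h1
    rw [map_mul, map_inv, show mk (ρ (ψ e)) = mk (R (ψ' e)) from h1, inv_mul_cancel]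
  let : CommGroup (Subgroup.center (GL (Fin N) ℂ)) :=
    { (inferInstance : Group (Subgroup.center (GL (Fin N) ℂ))) with
      mul_comm := mul_comm_of_le_center le_rfl }
  let μ : E (canon Q) →* Subgroup.center (GL (Fin N) ℂ) :=
    MonoidHom.mk' (fun e => ⟨_, hcen e⟩) fun a b => Subtype.ext (by
      simp only [map_mul, mul_inv_rev, Subgroup.coe_mul]
      rw [mul_assoc, ← mul_assoc (R (ψ' a))⁻¹ (ρ (ψ a)), ← mul_assoc,
        Subgroup.mem_center_iff.mp (hcen a) (R (ψ' b))⁻¹, mul_assoc])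
  have h1 := congrArg Subtype.val (MonoidHom.mem_ker.mp
    (Abelianization.commutator_subset_ker μ x.2.2))
  have hx1 : ψ (x : E (canon Q)) = 1 := congrArg Subtype.val hx
  have h2 : (R (ψ' x))⁻¹ * ρ (ψ x) = 1 := h1
  rw [hx1, map_one, mul_one, inv_eq_one, ← toKer_apply ψ' hψ', hR] at h2
  apply hχ
  have h3 := congrArg (fun g : GL (Fin N) ℂ =>
    (g : Matrix (Fin N) (Fin N) ℂ) ⟨0, hN⟩ ⟨0, hN⟩) h2
  simp [Matrix.scalar_apply, Matrix.diagonal_apply_eq, Matrix.one_apply_eq] at h3
  exact h3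

end Cfsg.Lib.Schur
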