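import Cfsg.Agent.Schur.Projective

set_option autoImplicit false

namespace Cfsg.Lib.Schur

universe u v

variable {Q : Type u} [Group Q] [Finite Q]

theorem exists_lift_data {Γ : Type v} [Group Γ] {σ : Γ →* Q} (hσ : Cfsg.IsStemExtension σ)
    (hk : Nonempty (σ.ker ≃* M (canon Q))) :
    ∃ ψ : E (canon Q) →* Γ, σ.comp ψ = proj (canon Q) ∧ Function.Surjective ψ ∧
      ψ.ker ⊓ commutator (E (canon Q)) = ⊥ := by
  obtain ⟨ψ, hψ⟩ := exists_lift (canon Q) σ hσ.1 hσ.2.1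
  exact ⟨ψ, hψ, lift_surjective hσ hψ (canon_surjective Q),
    ker_inf_commutator_eq_bot hσ (canon_surjective Q) hψ hk⟩

theorem ker_le_ker_proj {Γ : Type v} [Group Γ] {σ : Γ →* Q} {ψ : E (canon Q) →* Γ}
    (hψ : σ.comp ψ = proj (canon Q)) : ψ.ker ≤ (proj (canon Q)).ker := fun x hx => by
  rw [MonoidHom.mem_ker, ← hψ, MonoidHom.comp_apply, show ψ x = 1 from hx, map_one]

/-- Covers are unique when the orders of `Q/Q'` and of the multiplier are coprime. -/
theorem cover_unique (hcop : Nat.Coprime (Nat.card (Abelianization Q)) (Nat.card (M (canon Q))))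
    {Γ₁ Γ₂ : Type u} [Group Γ₁] [Group Γ₂] [Finite Γ₁] [Finite Γ₂] {σ₁ : Γ₁ →* Q} {σ₂ : Γ₂ →* Q}
    (h₁ : Cfsg.IsStemExtension σ₁) (h₂ : Cfsg.IsStemExtension σ₂)
    (k₁ : Nonempty (σ₁.ker ≃* M (canon Q))) (k₂ : Nonempty (σ₂.ker ≃* M (canon Q))) :
    ∃ e : Γ₁ ≃* Γ₂, σ₂.comp e.toMonoidHom = σ₁ := by
  have hπ := canon_surjective Q
  obtain ⟨ψ₁, hψ₁, hs₁, hi₁⟩ := exists_lift_data h₁ k₁
  obtain ⟨ψ₂, hψ₂, -, -⟩ := exists_lift_data h₂ k₂
  set d := Nat.card (Abelianization Q) with hddef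
  -- powers by `d` land in the complement
  have hpow : ∀ e, ∃ c ∈ ψ₁.ker, ab (canon Q) c = ab (canon Q) e ^ d := by
    intro e
    have h : proj (canon Q) (e ^ d) ∈ commutator Q := by
      rw [← Abelianization.ker_of, MonoidHom.mem_ker, map_pow, map_pow, hddef, pow_card_eq_one']
    obtain ⟨w, hw, hwe⟩ : proj (canon Q) (e ^ d) ∈ (commutator (E (canon Q))).map (proj (canon Q)) := by
      rw [commutator_def, Subgroup.map_commutator,
        Subgroup.map_top_of_surjective _ (proj_surjective _ hπ), ← commutator_def]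
      exact h
    have hr : proj (canon Q) (e ^ d * w⁻¹) = 1 := by rw [map_mul, map_inv, hwe, mul_inv_cancel]
    obtain ⟨m, hm⟩ := toKer_surjective h₁ ψ₁ hψ₁ hπ ⟨ψ₁ (e ^ d * w⁻¹), by
      rw [MonoidHom.mem_ker, ← MonoidHom.comp_apply, hψ₁, hr]⟩
    have hm' : ψ₁ m = ψ₁ (e ^ d * w⁻¹) := congrArg Subtype.val hm
    refine ⟨e ^ d * w⁻¹ * (m : E (canon Q))⁻¹, ?_, ?_⟩
    · rw [MonoidHom.mem_ker, map_mul, map_inv, hm', mul_inv_cancel]
    · have e1 : ab (canon Q) w = 1 := by rw [← MonoidHom.mem_ker, ker_ab]; exact hw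
      have e2 : ab (canon Q) (m : E (canon Q)) = 1 := by rw [← MonoidHom.mem_ker, ker_ab]; exact m.2.2
      rw [map_mul, map_mul, map_inv, map_inv, e1, e2, inv_one, mul_one, mul_one, map_pow]
  choose c hc hcab using hpow
  have hinj : ∀ x ∈ ψ₁.ker, ∀ y ∈ ψ₁.ker, ab (canon Q) x = ab (canon Q) y → x = y := by
    intro x hx y hy h
    have : x * y⁻¹ ∈ ψ₁.ker ⊓ commutator (E (canon Q)) := by
      refine ⟨Subgroup.mul_mem _ hx (Subgroup.inv_mem _ hy), ?_⟩
      show x * y⁻¹ ∈ commutator (E (canon Q))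
      rw [← ker_ab, MonoidHom.mem_ker, map_mul, map_inv, h, mul_inv_cancel]
    rw [hi₁, Subgroup.mem_bot, mul_inv_eq_one] at this
    exact this
  let : CommGroup σ₂.ker :=
    { (inferInstance : Group σ₂.ker) with mul_comm := mul_comm_of_le_center h₂.2.1 }
  let cHom : E (canon Q) →* ψ₁.ker := MonoidHom.mk' (fun e => ⟨c e, hc e⟩) fun a b => Subtype.ext
    (hinj _ (hc _) _ (mul_mem (hc a) (hc b)) (by rw [hcab, map_mul, mul_pow, Subgroup.coe_mul, map_mul, hcab, hcab]))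
  let h₀ : ψ₁.ker →* σ₂.ker := (ψ₂.comp ψ₁.ker.subtype).codRestrict _ fun x => by
    show σ₂ (ψ₂ x) = 1
    rw [← MonoidHom.comp_apply σ₂, hψ₂]
    exact ker_le_ker_proj hψ₁ x.2
  have := finite_M (canon Q) hπ
  have hbd : Function.Bijective (powMonoidHom d : σ₂.ker →* σ₂.ker) := by
    obtain ⟨e⟩ := k₂
    exact (powCoprime (by rw [Nat.card_congr e.toEquiv]; exact hcop.symm)).bijective
  let P := MulEquiv.ofBijective _ hbd
  let μ : E (canon Q) →* σ₂.ker := P.symm.toMonoidHom.comp ((h₀.comp cHom)⁻¹)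
  let φ : E (canon Q) →* Γ₂ := MonoidHom.mk' (fun e => ψ₂ e * (μ e : Γ₂)) fun a b => by
    rw [map_mul, map_mul, Subgroup.coe_mul]
    have h := Subgroup.mem_center_iff.mp (h₂.2.1 (μ a).2) (ψ₂ b)
    calc ψ₂ a * ψ₂ b * ((μ a : Γ₂) * μ b) = ψ₂ a * (ψ₂ b * (μ a : Γ₂)) * μ b := by group
      _ = ψ₂ a * ((μ a : Γ₂) * ψ₂ b) * μ b := by rw [h]
      _ = _ := by group
  have hφσ : σ₂.comp φ = proj (canon Q) := MonoidHom.ext fun e => by
    show σ₂ (ψ₂ e * (μ e : Γ₂)) = _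
    rw [map_mul, show σ₂ (μ e : Γ₂) = 1 from (μ e).2, mul_one, ← MonoidHom.comp_apply, hψ₂]
  have hle : ψ₁.ker ≤ φ.ker := by
    intro x hx
    have hcx : cHom x = (⟨x, hx⟩ : ψ₁.ker) ^ d :=
      Subtype.ext (hinj _ (hc _) _ ((⟨x, hx⟩ : ψ₁.ker) ^ d).2 (by
        rw [hcab, SubmonoidClass.coe_pow, map_pow]))
    have hμ : μ x = (h₀ ⟨x, hx⟩)⁻¹ := by
      show P.symm ((h₀ (cHom x))⁻¹) = _
      rw [hcx, map_pow, ← inv_pow, MulEquiv.symm_apply_eq]
      rfl
    show ψ₂ x * (μ x : Γ₂) = 1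
    rw [hμ, Subgroup.coe_inv]
    exact mul_inv_cancel _
  let f : Γ₁ →* Γ₂ := ψ₁.liftOfSurjective hs₁ ⟨φ, hle⟩
  have hf : ∀ x, f (ψ₁ x) = φ x := fun x => MonoidHom.liftOfRightInverse_comp_apply _ _ _ _ _
  have hcomp : σ₂.comp f = σ₁ := by
    refine (MonoidHom.cancel_right hs₁).mp (MonoidHom.ext fun x => ?_)
    show σ₂ (f (ψ₁ x)) = σ₁ (ψ₁ x)
    rw [hf, ← MonoidHom.comp_apply, hφσ, ← hψ₁, MonoidHom.comp_apply]
  have hfs : Function.Surjective f := fun y => by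
    obtain ⟨x, rfl⟩ := lift_surjective h₂ hφσ hπ y
    exact ⟨ψ₁ x, hf x⟩
  have hcard : Nat.card Γ₁ = Nat.card Γ₂ := by
    obtain ⟨e₁⟩ := k₁
    obtain ⟨e₂⟩ := k₂
    rw [← Subgroup.card_mul_index σ₁.ker, ← Subgroup.card_mul_index σ₂.ker, Subgroup.index_ker,
      Subgroup.index_ker, MonoidHom.range_eq_top.mpr h₁.1, MonoidHom.range_eq_top.mpr h₂.1,
      Nat.card_congr e₁.toEquiv, Nat.card_congr e₂.toEquiv]
  have hbij : Function.Bijective f := (Nat.bijective_iff_surjective_and_card f).mpr ⟨hfs, hcard⟩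
  exact ⟨MulEquiv.ofBijective f hbij, hcomp⟩

set_option maxHeartbeats 2000000 in
/-- If the orders of `Q/Q'` and of the multiplier share a prime, there are two covers not
isomorphic over `Q`. -/
theorem exists_two_covers
    (hcop : ¬ Nat.Coprime (Nat.card (Abelianization Q)) (Nat.card (M (canon Q)))) :
    ∃ (Γ₁ Γ₂ : Type u) (_ : Group Γ₁) (_ : Finite Γ₁) (_ : Group Γ₂) (_ : Finite Γ₂)
      (σ₁ : Γ₁ →* Q) (σ₂ : Γ₂ →* Q), Cfsg.IsStemExtension σ₁ ∧ Cfsg.IsStemExtension σ₂ ∧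
      Nonempty (σ₁.ker ≃* M (canon Q)) ∧ Nonempty (σ₂.ker ≃* M (canon Q)) ∧
      ¬ ∃ e : Γ₁ ≃* Γ₂, σ₂.comp e.toMonoidHom = σ₁ := by
  classical
  have hπ := canon_surjective Q
  have := finite_M (canon Q) hπ
  obtain ⟨p, hp, hpQ, hpM⟩ := Nat.Prime.not_coprime_iff_dvd.mp hcop
  have : Fact p.Prime := ⟨hp⟩
  obtain ⟨C, hC1, hC2, hC3, -⟩ := exists_compl (π := canon Q)
    (1 : (proj (canon Q)).ker →* PUnit.{1}) (fun x => ⟨1, Subgroup.one_mem _, rfl⟩)
  -- an element of order `p` in the abelianization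
  obtain ⟨ā, hā⟩ := exists_prime_orderOf_dvd_card' p hpQ
  obtain ⟨q, hq⟩ : ∃ q : Q, Abelianization.of q = ā := Quotient.exists_rep ā
  obtain ⟨e, he⟩ := proj_surjective (canon Q) hπ q
  have hpmem : proj (canon Q) (e ^ p) ∈ commutator Q := by
    rw [← Abelianization.ker_of, MonoidHom.mem_ker, map_pow, map_pow, he, hq, ← hā,
      pow_orderOf_eq_one]
  obtain ⟨w, hw, hwe⟩ : proj (canon Q) (e ^ p) ∈ (commutator (E (canon Q))).map (proj (canon Q)) := by
    rw [commutator_def, Subgroup.map_commutator,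
      Subgroup.map_top_of_surjective _ (proj_surjective _ hπ), ← commutator_def]
    exact hpmem
  have hr : e ^ p * w⁻¹ ∈ (proj (canon Q)).ker := by
    rw [MonoidHom.mem_ker, map_mul, map_inv, hwe, mul_inv_cancel]
  have hCn : C.Normal := normal_of_le_center (hC1.trans (ker_proj_le_center _))
  rw [← hC3] at hr
  rw [← SetLike.mem_coe, Subgroup.normal_mul] at hr
  obtain ⟨c, hc, m, hm, hcm⟩ := hr
  replace hcm : c * m = e ^ p * w⁻¹ := hcm
  have habc : ab (canon Q) c = ab (canon Q) e ^ p := by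
    have e1 : ab (canon Q) w = 1 := by rw [← MonoidHom.mem_ker, ker_ab]; exact hw
    have e2 : ab (canon Q) m = 1 := by rw [← MonoidHom.mem_ker, ker_ab]; exact hm.2
    have := congrArg (ab (canon Q)) hcm
    rwa [map_mul, map_mul, e2, map_inv, e1, inv_one, mul_one, mul_one, map_pow] at this
  -- the exponent sums of `C`
  let : CommGroup C :=
    { (inferInstance : Group C) with
      mul_comm := mul_comm_of_le_center (hC1.trans (ker_proj_le_center _)) }
  let jC : Additive C →ₗ[ℤ] (Q →₀ ℤ) :=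
    (MonoidHom.toAdditiveLeft ((ab (canon Q)).comp C.subtype)).toIntLinearMap
  have hjC : Function.Injective jC := by
    refine (injective_iff_map_eq_zero jC).mpr fun x hx => ?_
    have h : (Additive.toMul x : C).1 ∈ C ⊓ commutator (E (canon Q)) := by
      refine ⟨(Additive.toMul x : C).2, ?_⟩
      show _ ∈ commutator (E (canon Q))
      rw [← ker_ab, MonoidHom.mem_ker]
      exact Multiplicative.toAdd.injective hx
    rw [hC2, Subgroup.mem_bot] at h
    exact Additive.toMul.injective (Subtype.ext h)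
  let L := LinearMap.range jC
  let eL : Additive C ≃ₗ[ℤ] L := LinearEquiv.ofInjective jC hjC
  let b := Module.Free.chooseBasis ℤ L
  have hnotp : ∀ y : L, (p : ℤ) • y ≠ eL (Additive.ofMul ⟨c, hc⟩) := by
    intro y hy
    have h1 : (p : ℤ) • (y : Q →₀ ℤ) = (p : ℤ) • Multiplicative.toAdd (ab (canon Q) e) := by
      rw [← Submodule.coe_smul, hy]
      show Multiplicative.toAdd (ab (canon Q) c) = _
      rw [habc, toAdd_pow, natCast_zsmul]
    have h2 := smul_right_injective (Q →₀ ℤ) (by exact_mod_cast hp.ne_zero : (p : ℤ) ≠ 0) h1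
    obtain ⟨x, hx⟩ := y.2
    have h3 : (Additive.toMul x : C).1⁻¹ * e ∈ commutator (E (canon Q)) := by
      rw [← ker_ab, MonoidHom.mem_ker, map_mul, map_inv]
      refine Multiplicative.toAdd.injective ?_
      rw [toAdd_mul, toAdd_inv, toAdd_one, ← h2, ← hx, neg_add_eq_zero]
      rfl
    have h4 : Abelianization.of (proj (canon Q) e) = 1 := by
      have h5 : proj (canon Q) ((Additive.toMul x : C).1⁻¹ * e) ∈ commutator Q := by
        have h6 : (commutator (E (canon Q))).map (proj (canon Q)) ≤ commutator Q := by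
          rw [commutator_def, commutator_def, Subgroup.map_commutator]
          exact Subgroup.commutator_mono le_top le_top
        exact h6 (Subgroup.mem_map_of_mem _ h3)
      rwa [map_mul, map_inv, show proj (canon Q) (Additive.toMul x : C).1 = 1 from
        hC1 (Additive.toMul x : C).2, inv_one, one_mul, ← Abelianization.ker_of] at h5
    rw [he, hq] at h4
    rw [h4, orderOf_one] at hā
    exact hp.ne_one hā.symm
  obtain ⟨i, hi⟩ : ∃ i, ¬ (p : ℤ) ∣ b.repr (eL (Additive.ofMul ⟨c, hc⟩)) i := by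
    by_contra hall
    push Not at hall
    choose f hf using hall
    refine hnotp (∑ i, f i • b i) ?_
    rw [Finset.smul_sum]
    conv_rhs => rw [← b.sum_repr (eL (Additive.ofMul ⟨c, hc⟩))]
    exact Finset.sum_congr rfl fun i _ => by rw [smul_smul, hf i]
  -- an element of the multiplier that is not a `p`th power
  obtain ⟨m₀, hm₀⟩ : ∃ m₀ : M (canon Q), ∀ z, z ^ p ≠ m₀ := by
    by_contra hall
    push Not at hall
    obtain ⟨z, hz⟩ := exists_prime_orderOf_dvd_card' p hpM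
    have hinj : Function.Injective (fun z : M (canon Q) => z ^ p) :=
      Finite.injective_iff_surjective.mpr hall
    have : z = 1 := hinj (show z ^ p = 1 ^ p by rw [← hz, pow_orderOf_eq_one, one_pow])
    rw [this, orderOf_one] at hz
    exact hp.ne_one hz.symm
  let hM : C →* M (canon Q) :=
    (zpowersHom (M (canon Q)) m₀).comp
      (AddMonoidHom.toMultiplicativeRight
        ((b.coord i).toAddMonoidHom.comp eL.toLinearMap.toAddMonoidHom))
  have hhc : ∀ z, z ^ p ≠ hM ⟨c, hc⟩ := by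
    intro z hz
    have hz' : z ^ p = m₀ ^ (b.repr (eL (Additive.ofMul ⟨c, hc⟩)) i) := hz
    obtain ⟨s, t, hst⟩ := ((Nat.prime_iff_prime_int.mp hp).irreducible.coprime_iff_not_dvd).mpr hi
    refine hm₀ (m₀ ^ s * z ^ t) ?_
    rw [mul_pow, ← zpow_natCast (m₀ ^ s), ← zpow_mul, ← zpow_natCast (z ^ t), ← zpow_mul,
      mul_comm t, zpow_mul z, zpow_natCast, hz', ← zpow_mul, mul_comm _ t, ← zpow_add, hst, zpow_one]
  -- the twisted complement
  let tw : C →* E (canon Q) := MonoidHom.mk' (fun x => (x : E (canon Q)) * (hM x : E (canon Q)))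
    fun x y => by
      rw [map_mul, Subgroup.coe_mul, Subgroup.coe_mul]
      have h := Subgroup.mem_center_iff.mp (M_le_center (canon Q) (hM x).2) (y : E (canon Q))
      calc (x : E (canon Q)) * y * ((hM x : E (canon Q)) * hM y)
          = x * (y * (hM x : E (canon Q))) * hM y := by group
        _ = x * ((hM x : E (canon Q)) * y) * hM y := by rw [h]
        _ = _ := by group
  have hD1 : tw.range ≤ (proj (canon Q)).ker := by
    rintro _ ⟨x, rfl⟩
    exact Subgroup.mul_mem _ (hC1 x.2) (M_le_ker _ (hM x).2)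
  have hD2 : tw.range ⊓ commutator (E (canon Q)) = ⊥ := by
    rw [eq_bot_iff]
    rintro _ ⟨⟨x, rfl⟩, hx⟩
    have hx' : (x : E (canon Q)) ∈ C ⊓ commutator (E (canon Q)) := by
      refine ⟨x.2, ?_⟩
      have hx2 : (x : E (canon Q)) * (hM x : E (canon Q)) ∈ commutator (E (canon Q)) := hx
      show (x : E (canon Q)) ∈ commutator (E (canon Q))
      rwa [Subgroup.mul_mem_cancel_right _ (M_le_commutator _ (hM x).2)] at hx2
    rw [hC2, Subgroup.mem_bot] at hx'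
    rw [Subgroup.mem_bot, show x = 1 from Subtype.ext hx', map_one]
  have hD3 : tw.range ⊔ M (canon Q) = (proj (canon Q)).ker := by
    refine le_antisymm (sup_le hD1 (M_le_ker _)) ?_
    rw [← hC3]
    refine sup_le (fun x hx => ?_) le_sup_right
    have : x = tw ⟨x, hx⟩ * (hM ⟨x, hx⟩ : E (canon Q))⁻¹ := (mul_inv_cancel_right _ _).symm
    rw [this]
    exact Subgroup.mul_mem _ (Subgroup.mem_sup_left ⟨_, rfl⟩)
      (Subgroup.mem_sup_right (Subgroup.inv_mem _ (hM ⟨x, hx⟩).2))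
  obtain ⟨Γ₁, g₁, f₁, σ₁, ψ₁, hσ₁, -, hψ₁, hk₁, e₁⟩ := exists_cover_of_compl _ hπ hC1 hC2 hC3
  obtain ⟨Γ₂, g₂, f₂, σ₂, ψ₂, hσ₂, hs₂, hψ₂, hk₂, e₂⟩ := exists_cover_of_compl _ hπ hD1 hD2 hD3
  refine ⟨Γ₁, Γ₂, g₁, f₁, g₂, f₂, σ₁, σ₂, hσ₁, hσ₂, e₁, e₂, ?_⟩
  rintro ⟨f, hf⟩
  let φ : E (canon Q) →* Γ₂ := f.toMonoidHom.comp ψ₁
  have hφ : σ₂.comp φ = proj (canon Q) := by
    rw [← MonoidHom.comp_assoc, hf, hψ₁]
  let : CommGroup σ₂.ker :=
    { (inferInstance : Group σ₂.ker) with mul_comm := mul_comm_of_le_center hσ₂.2.1 }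
  have hμmem : ∀ x, (φ x)⁻¹ * ψ₂ x ∈ σ₂.ker := fun x => by
    rw [MonoidHom.mem_ker, map_mul, map_inv, ← MonoidHom.comp_apply, ← MonoidHom.comp_apply, hφ, hψ₂,
      inv_mul_cancel]
  let μ : E (canon Q) →* σ₂.ker := MonoidHom.mk' (fun x => ⟨_, hμmem x⟩) fun x y => Subtype.ext (by
    show (φ (x * y))⁻¹ * ψ₂ (x * y) = (φ x)⁻¹ * ψ₂ x * ((φ y)⁻¹ * ψ₂ y)
    have h := Subgroup.mem_center_iff.mp (hσ₂.2.1 (hμmem x)) ((φ y)⁻¹)
    rw [map_mul, map_mul, mul_inv_rev]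
    calc (φ y)⁻¹ * (φ x)⁻¹ * (ψ₂ x * ψ₂ y) = (φ y)⁻¹ * ((φ x)⁻¹ * ψ₂ x) * ψ₂ y := by group
      _ = (φ x)⁻¹ * ψ₂ x * (φ y)⁻¹ * ψ₂ y := by rw [h]
      _ = _ := by group)
  have hψ₁c : φ c = 1 := by
    show f (ψ₁ c) = 1
    rw [show ψ₁ c = 1 from (by rw [← MonoidHom.mem_ker, hk₁]; exact hc), map_one]
  have hψ₂c : ψ₂ c * ψ₂ (hM ⟨c, hc⟩ : E (canon Q)) = 1 := by
    rw [← map_mul, ← MonoidHom.mem_ker, hk₂]
    exact ⟨⟨c, hc⟩, rfl⟩
  have hμc : μ c = μ e ^ p := by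
    have h1 : (e ^ p)⁻¹ * c ∈ commutator (E (canon Q)) := by
      rw [← ker_ab, MonoidHom.mem_ker, map_mul, map_inv, map_pow, habc, inv_mul_cancel]
    have h2 : μ ((e ^ p)⁻¹ * c) = 1 := Abelianization.commutator_subset_ker μ h1
    rw [map_mul, map_inv, map_pow, inv_mul_eq_one] at h2
    exact h2.symm
  have hinj : Function.Injective (toKer ψ₂ hψ₂) := by
    obtain ⟨ee⟩ := e₂
    exact (show Function.Injective (ee ∘ toKer ψ₂ hψ₂) from Finite.injective_iff_surjective.mpr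
      (ee.surjective.comp (toKer_surjective hσ₂ ψ₂ hψ₂ hπ))).of_comp
  have h3 : toKer ψ₂ hψ₂ (hM ⟨c, hc⟩) = (μ e ^ p)⁻¹ := by
    rw [← hμc]
    refine Subtype.ext ?_
    rw [toKer_apply, Subgroup.coe_inv]
    show _ = ((φ c)⁻¹ * ψ₂ c)⁻¹
    rw [hψ₁c, inv_one, one_mul]
    exact eq_inv_of_mul_eq_one_right hψ₂c
  obtain ⟨z, hz⟩ := toKer_surjective hσ₂ ψ₂ hψ₂ hπ (μ e)⁻¹
  refine hhc z (hinj ?_)
  rw [map_pow, hz, h3, inv_pow]

end Cfsg.Lib.Schur
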