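import Mathlib
import Cfsg.Prelude.Def_KGroupFacts

/-!
The fibre product of two stem extensions with coprime kernels.
-/

set_option autoImplicit false
set_option linter.style.haveILetI false
set_option linter.unusedSectionVars false

namespace Cfsg.Lib.Schur

universe u v w

/-- The fibre product of two stem extensions with coprime kernels is a stem extension of the base and of both
factors. -/
theorem exists_fibre_stem {Γ₁ : Type u} {Γ₂ : Type v} {Q : Type w} [Group Γ₁] [Group Γ₂] [Group Q]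
    [Finite Γ₁] [Finite Γ₂] (σ₁ : Γ₁ →* Q) (σ₂ : Γ₂ →* Q) (h₁ : Cfsg.IsStemExtension σ₁)
    (h₂ : Cfsg.IsStemExtension σ₂) (hcop : Nat.Coprime (Nat.card σ₁.ker) (Nat.card σ₂.ker)) :
    ∃ (Δ : Subgroup (Γ₁ × Γ₂)) (π : ↥Δ →* Γ₁), Cfsg.IsStemExtension π ∧
      Cfsg.IsStemExtension (σ₁.comp π) ∧ Nat.card π.ker = Nat.card σ₂.ker ∧
      Nat.card (σ₁.comp π).ker = Nat.card σ₁.ker * Nat.card σ₂.ker := by
  obtain ⟨hs₁, hc₁, hd₁⟩ := h₁
  obtain ⟨hs₂, hc₂, hd₂⟩ := h₂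
  obtain ⟨Δ, hΔ⟩ : ∃ Δ : Subgroup (Γ₁ × Γ₂),
      Δ = (σ₁.comp (MonoidHom.fst Γ₁ Γ₂)).eqLocus (σ₂.comp (MonoidHom.snd Γ₁ Γ₂)) := ⟨_, rfl⟩
  have mem : ∀ p, p ∈ Δ ↔ σ₁ p.1 = σ₂ p.2 := fun p => by subst hΔ; exact Iff.rfl
  obtain ⟨π, hπ⟩ : ∃ π : ↥Δ →* Γ₁, π = (MonoidHom.fst Γ₁ Γ₂).comp Δ.subtype := ⟨_, rfl⟩
  obtain ⟨π', hπ'⟩ : ∃ π : ↥Δ →* Γ₂, π = (MonoidHom.snd Γ₁ Γ₂).comp Δ.subtype := ⟨_, rfl⟩
  have hπa : ∀ x : Δ, π x = (x : Γ₁ × Γ₂).1 := fun x => by subst hπ; rfl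
  have hπa' : ∀ x : Δ, π' x = (x : Γ₁ × Γ₂).2 := fun x => by subst hπ'; rfl
  have hsπ : Function.Surjective π := fun a => by
    obtain ⟨b, hb⟩ := hs₂ (σ₁ a)
    exact ⟨⟨(a, b), (mem _).mpr hb.symm⟩, hπa _⟩
  have hsπ' : Function.Surjective π' := fun b => by
    obtain ⟨a, ha⟩ := hs₁ (σ₂ b)
    exact ⟨⟨(a, b), (mem _).mpr ha⟩, hπa' _⟩
  have hcen : (σ₁.comp π).ker ≤ Subgroup.center Δ := by
    rintro ⟨⟨a, b⟩, hab⟩ hk
    rw [MonoidHom.mem_ker, MonoidHom.comp_apply, hπa] at hk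
    have hb : σ₂ b = 1 := ((mem _).mp hab).symm.trans hk
    rw [Subgroup.mem_center_iff]
    rintro ⟨⟨c, d⟩, hcd⟩
    exact Subtype.ext (Prod.ext (Subgroup.mem_center_iff.mp (hc₁ hk) c)
      (Subgroup.mem_center_iff.mp (hc₂ hb) d))
  have keπ : π.ker ≤ (σ₁.comp π).ker := fun x hx => by
    rw [MonoidHom.mem_ker] at hx ⊢
    rw [MonoidHom.comp_apply, hx, map_one]
  -- both kernels lie in the commutator subgroup
  have key : ∀ x : Δ, σ₁ (x : Γ₁ × Γ₂).1 = 1 → x ∈ commutator Δ := by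
    rintro ⟨⟨a, b⟩, hab⟩ hk
    have hk : σ₁ a = 1 := hk
    have hb : σ₂ b = 1 := ((mem _).mp hab).symm.trans hk
    have ha1 : (⟨(a, 1), (mem _).mpr (by simpa using hk)⟩ : Δ) ∈ commutator Δ := by
      have hm : a ∈ (commutator Δ).map π := by
        rw [commutator_def, Subgroup.map_commutator, Subgroup.map_top_of_surjective π hsπ, ← commutator_def]
        exact hd₁ hk
      obtain ⟨⟨⟨a', c⟩, hac⟩, hd, hda⟩ := hm
      rw [hπa] at hda
      have hda : a' = a := hda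
      subst hda
      have hc' : σ₂ c = 1 := ((mem _).mp hac).symm.trans hk
      have hcm : c ^ Nat.card σ₂.ker = 1 :=
        congrArg Subtype.val (pow_card_eq_one' (x := (⟨c, hc'⟩ : σ₂.ker)))
      have ham : a' ^ Nat.card σ₁.ker = 1 :=
        congrArg Subtype.val (pow_card_eq_one' (x := (⟨a', hk⟩ : σ₁.ker)))
      obtain ⟨m, hm⟩ := exists_pow_eq_self_of_coprime (x := a')
        ((Nat.Coprime.coprime_dvd_left (orderOf_dvd_of_pow_eq_one ham) hcop).symm)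
      have := (commutator Δ).pow_mem ((commutator Δ).pow_mem hd (Nat.card σ₂.ker)) m
      convert this using 1
      apply Subtype.ext
      apply Prod.ext
      · simp only [SubmonoidClass.coe_pow, Prod.pow_fst, hm]
      · simp only [SubmonoidClass.coe_pow, Prod.pow_snd, hcm, one_pow]
    have hb1 : (⟨(1, b), (mem _).mpr (by simpa using hb.symm)⟩ : Δ) ∈ commutator Δ := by
      have hm : b ∈ (commutator Δ).map π' := by
        rw [commutator_def, Subgroup.map_commutator, Subgroup.map_top_of_surjective π' hsπ', ← commutator_def]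
        exact hd₂ hb
      obtain ⟨⟨⟨c, b'⟩, hcb⟩, hd, hdb⟩ := hm
      rw [hπa'] at hdb
      have hdb : b' = b := hdb
      subst hdb
      have hc' : σ₁ c = 1 := ((mem _).mp hcb).trans hb
      have hcm : c ^ Nat.card σ₁.ker = 1 :=
        congrArg Subtype.val (pow_card_eq_one' (x := (⟨c, hc'⟩ : σ₁.ker)))
      have hbm : b' ^ Nat.card σ₂.ker = 1 :=
        congrArg Subtype.val (pow_card_eq_one' (x := (⟨b', hb⟩ : σ₂.ker)))
      obtain ⟨m, hm⟩ := exists_pow_eq_self_of_coprime (x := b')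
        ((Nat.Coprime.coprime_dvd_left (orderOf_dvd_of_pow_eq_one hbm) hcop.symm).symm)
      have := (commutator Δ).pow_mem ((commutator Δ).pow_mem hd (Nat.card σ₁.ker)) m
      convert this using 1
      apply Subtype.ext
      apply Prod.ext
      · simp only [SubmonoidClass.coe_pow, Prod.pow_fst, hcm, one_pow]
      · simp only [SubmonoidClass.coe_pow, Prod.pow_snd, hm]
    have := (commutator Δ).mul_mem ha1 hb1
    convert this using 1
    exact Subtype.ext (Prod.ext (mul_one a).symm (one_mul b).symm)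
  have hcom : (σ₁.comp π).ker ≤ commutator Δ := fun x hx => key x (by
    rw [MonoidHom.mem_ker, MonoidHom.comp_apply, hπa] at hx; exact hx)
  refine ⟨Δ, π, ⟨hsπ, keπ.trans hcen, keπ.trans hcom⟩, ⟨hs₁.comp hsπ, hcen, hcom⟩, ?_, ?_⟩
  · refine Nat.card_eq_of_bijective (fun x : π.ker => (⟨((x : Δ) : Γ₁ × Γ₂).2, ?_⟩ : σ₂.ker)) ⟨?_, ?_⟩
    · have h := x.2
      rw [MonoidHom.mem_ker, hπa] at h
      rw [MonoidHom.mem_ker, ← (mem _).mp (x : Δ).2, h, map_one]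
    · intro x y e
      have e' : ((x : Δ) : Γ₁ × Γ₂).2 = ((y : Δ) : Γ₁ × Γ₂).2 := congrArg Subtype.val e
      have hx := x.2
      have hy := y.2
      rw [MonoidHom.mem_ker, hπa] at hx hy
      exact Subtype.ext (Subtype.ext (Prod.ext (hx.trans hy.symm) e'))
    · rintro ⟨b, hb⟩
      exact ⟨⟨⟨(1, b), (mem _).mpr (by simpa using (MonoidHom.mem_ker.mp hb).symm)⟩,
        by rw [MonoidHom.mem_ker, hπa]⟩, rfl⟩
  · rw [← Nat.card_prod]
    refine Nat.card_eq_of_bijective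
      (fun x : (σ₁.comp π).ker => ((⟨((x : Δ) : Γ₁ × Γ₂).1, ?_⟩ : σ₁.ker), (⟨((x : Δ) : Γ₁ × Γ₂).2, ?_⟩ : σ₂.ker)))
      ⟨?_, ?_⟩
    · have h := x.2
      rwa [MonoidHom.mem_ker, MonoidHom.comp_apply, hπa] at h
    · have h := x.2
      rw [MonoidHom.mem_ker, MonoidHom.comp_apply, hπa] at h
      rw [MonoidHom.mem_ker, ← (mem _).mp (x : Δ).2, h]
    · intro x y e
      exact Subtype.ext (Subtype.ext (Prod.ext (congrArg (fun p => (p.1 : Γ₁)) e)
        (congrArg (fun p => (p.2 : Γ₂)) e)))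
    · rintro ⟨⟨a, ha⟩, ⟨b, hb⟩⟩
      exact ⟨⟨⟨(a, b), (mem _).mpr ((MonoidHom.mem_ker.mp ha).trans (MonoidHom.mem_ker.mp hb).symm)⟩,
        by rw [MonoidHom.mem_ker, MonoidHom.comp_apply, hπa]; exact ha⟩, rfl⟩

end Cfsg.Lib.Schur
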