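import Cfsg.Agent.Schur.Criteria
import Mathlib.GroupTheory.Transfer

/-!
Triviality of the kernel of a stem extension, prime by prime, by transfer to a Sylow subgroup.
-/

set_option autoImplicit false

namespace Cfsg.Lib.Schur

open scoped commutatorElement

universe u v

variable {Γ : Type u} {Q : Type v} [Group Γ] [Group Q] [Finite Γ] {σ : Γ →* Q} {p : ℕ} [hp : Fact p.Prime]

/-- A central `p`-element of the kernel of a stem extension is a product of commutators of any Sylow subgroup. -/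
theorem mem_commutator_sylow (hσ : Cfsg.IsStemExtension σ) {z : Γ} (hz : z ∈ σ.ker) (hzp : z ^ p = 1)
    (S : Sylow p Γ) : z ∈ ⁅(S : Subgroup Γ), (S : Subgroup Γ)⁆ := by
  have hc : ∀ g, g * z = z * g := Subgroup.mem_center_iff.mp (hσ.2.1 hz)
  have hzS : z ∈ (S : Subgroup Γ) := by
    have hP : IsPGroup p (Subgroup.zpowers z) := fun x => by
      obtain ⟨k, hk⟩ := Subgroup.mem_zpowers_iff.mp x.2
      refine ⟨1, Subtype.ext ?_⟩
      rw [pow_one, Subgroup.coe_pow, ← hk, ← zpow_natCast, zpow_comm, zpow_natCast, hzp, one_zpow,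
        Subgroup.coe_one]
    obtain ⟨T, hT⟩ := hP.exists_le_sylow
    obtain ⟨g, hg⟩ := MulAction.exists_smul_eq Γ T S
    rw [← hg]
    exact ⟨z, hT (Subgroup.mem_zpowers z), by
      show g * z * g⁻¹ = z
      rw [hc, mul_inv_cancel_right]⟩
  let φ : (S : Subgroup Γ) →* Abelianization (S : Subgroup Γ) := Abelianization.of
  have key : ∀ (k : ℕ) (g₀ : Γ), g₀⁻¹ * z ^ k * g₀ ∈ (S : Subgroup Γ) → g₀⁻¹ * z ^ k * g₀ = z ^ k := by
    intro k g₀ _
    rw [mul_assoc, ← ((show Commute g₀ z from hc g₀).pow_right k).eq, inv_mul_cancel_left]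
  have hV := MonoidHom.transfer_eq_pow φ z key
  have h1 : MonoidHom.transfer φ z = 1 :=
    Abelianization.commutator_subset_ker (MonoidHom.transfer φ) (hσ.2.2 hz)
  rw [h1, eq_comm, ← MonoidHom.mem_ker] at hV
  rw [show φ.ker = commutator (S : Subgroup Γ) from Abelianization.ker_of (S : Subgroup Γ)] at hV
  have hpow : z ^ (S : Subgroup Γ).index ∈ ⁅(S : Subgroup Γ), (S : Subgroup Γ)⁆ := by
    rw [← Subgroup.map_subtype_commutator]
    exact ⟨_, hV, rfl⟩
  have hcop : Nat.Coprime (S : Subgroup Γ).index p :=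
    Nat.Coprime.symm (hp.out.coprime_iff_not_dvd.mpr S.not_dvd_index)
  obtain ⟨m, hm⟩ := exists_pow_eq_self_of_coprime (x := z)
    (Nat.Coprime.of_dvd_right (orderOf_dvd_of_pow_eq_one hzp) hcop)
  rw [← hm]
  exact pow_mem hpow m

/-- The kernel is trivial when no Sylow commutator subgroup meets it. -/
theorem ker_eq_bot_of_sylow {Γ : Type u} {Q : Type v} [Group Γ] [Group Q] [Finite Γ] {σ : Γ →* Q}
    (hσ : Cfsg.IsStemExtension σ)
    (h : ∀ p : ℕ, Fact p.Prime → ∃ S : Sylow p Γ, ∀ z ∈ σ.ker, z ∈ ⁅(S : Subgroup Γ), (S : Subgroup Γ)⁆ → z = 1) :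
    σ.ker = ⊥ := by
  by_contra hne
  have hcard : Nat.card σ.ker ≠ 1 := fun e => hne (Subgroup.card_eq_one.mp e)
  obtain ⟨p, hp, hdvd⟩ := Nat.exists_prime_and_dvd hcard
  haveI : Fact p.Prime := ⟨hp⟩
  obtain ⟨z, hz⟩ := exists_prime_orderOf_dvd_card' p hdvd
  have hzp : (z : Γ) ^ p = 1 := by
    rw [← Subgroup.coe_pow, ← hz, pow_orderOf_eq_one, Subgroup.coe_one]
  obtain ⟨S, hS⟩ := h p ⟨hp⟩
  have h1 := hS z z.2 (mem_commutator_sylow hσ z.2 hzp S)
  rw [show z = 1 from Subtype.ext h1, orderOf_one] at hz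
  exact hp.one_lt.ne hz

/-- A Sylow subgroup whose image lies in a given subgroup of full `p`-part. -/
theorem exists_sylow_map_le [Finite Q] (hs : Function.Surjective σ) (P : Subgroup Q)
    (hP : Nat.card P = p ^ (Nat.card Q).factorization p) :
    ∃ S : Sylow p Γ, (S : Subgroup Γ).map σ ≤ P := by
  let P' : Sylow p Q := Sylow.ofCard P hP
  obtain ⟨S, hS⟩ := Sylow.mapSurjective_surjective hs p P'
  exact ⟨S, le_of_eq (congrArg (fun T : Sylow p Q => (T : Subgroup Q)) hS)⟩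

omit [Finite Γ] in
/-- The preimage of a subgroup generated by images. -/
theorem le_closure_union_ker {H : Subgroup Γ} {T : Set Γ} (h : H.map σ ≤ Subgroup.closure (σ '' T)) :
    H ≤ Subgroup.closure (T ∪ (σ.ker : Set Γ)) := by
  rw [← MonoidHom.map_closure, Subgroup.map_le_iff_le_comap, Subgroup.comap_map_eq] at h
  rw [Subgroup.closure_union, Subgroup.closure_eq]
  exact h

/-- Commutators lie in a subgroup normalised by generators commuting modulo it. -/
theorem commutator_closure_le {T : Set Γ} {N : Subgroup Γ} (hn : ∀ t ∈ T, ∀ d ∈ N, t * d * t⁻¹ ∈ N)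
    (hc : ∀ t ∈ T, ∀ u ∈ T, ⁅t, u⁆ ∈ N) : ⁅Subgroup.closure T, Subgroup.closure T⁆ ≤ N := by
  set H := Subgroup.closure T
  have hH : H ≤ Subgroup.normalizer (N : Set Γ) := by
    rw [Subgroup.closure_le]
    intro t ht
    have hset : N.map (MulAut.conj t).toMonoidHom = N :=
      Subgroup.eq_of_le_of_card_ge (by rintro _ ⟨d, hd, rfl⟩; exact hn t ht d hd)
        (le_of_eq (Nat.card_congr (N.equivMapOfInjective _ (MulAut.conj t).injective).toEquiv))
    refine Subgroup.mem_normalizer_iff.mpr fun d => ⟨hn t ht d, fun hd => ?_⟩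
    rw [← hset] at hd
    obtain ⟨e, he, hee⟩ := hd
    exact (MulAut.conj t).injective hee ▸ he
  rw [Subgroup.commutator_le]
  intro x hx y hy
  have gen : ∀ u ∈ T, ∀ x ∈ H, ⁅x, u⁆ ∈ N := by
    intro u hu x hx
    induction hx using Subgroup.closure_induction with
    | mem t ht => exact hc t ht u hu
    | one => rw [commutatorElement_one_left]; exact one_mem _
    | mul a b ha _ iha ihb =>
      rw [show ⁅a * b, u⁆ = a * ⁅b, u⁆ * a⁻¹ * ⁅a, u⁆ by simp only [commutatorElement_def]; group]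
      exact mul_mem ((Subgroup.mem_normalizer_iff.mp (hH ha) _).mp ihb) iha
    | inv a ha iha =>
      rw [show ⁅a⁻¹, u⁆ = a⁻¹ * ⁅a, u⁆⁻¹ * a⁻¹⁻¹ by simp only [commutatorElement_def]; group]
      exact (Subgroup.mem_normalizer_iff.mp (hH (inv_mem ha)) _).mp (inv_mem iha)
  induction hy using Subgroup.closure_induction with
  | mem t ht => exact gen t ht x hx
  | one => rw [commutatorElement_one_right]; exact one_mem _
  | mul a b ha _ iha ihb =>
    rw [show ⁅x, a * b⁆ = ⁅x, a⁆ * (a * ⁅x, b⁆ * a⁻¹) by simp only [commutatorElement_def]; group]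
    exact mul_mem iha ((Subgroup.mem_normalizer_iff.mp (hH ha) _).mp ihb)
  | inv a ha iha =>
    rw [show ⁅x, a⁻¹⁆ = a⁻¹ * ⁅x, a⁆⁻¹ * a⁻¹⁻¹ by simp only [commutatorElement_def]; group]
    exact (Subgroup.mem_normalizer_iff.mp (hH (inv_mem ha)) _).mp (inv_mem iha)

/-- An abelian preimage. -/
theorem eq_one_of_commuting (hc : σ.ker ≤ Subgroup.center Γ) {H : Subgroup Γ} {T : Set Γ}
    (hH : H.map σ ≤ Subgroup.closure (σ '' T)) (hT : ∀ t ∈ T, ∀ u ∈ T, t * u = u * t) {z : Γ}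
    (hz : z ∈ ⁅H, H⁆) : z = 1 := by
  refine (Subgroup.eq_bot_iff_forall _).mp ?_ z hz
  refine eq_bot_iff.mpr ((Subgroup.commutator_mono (le_closure_union_ker hH) (le_closure_union_ker hH)).trans
    (commutator_closure_le (fun t _ d hd => ?_) fun t ht u hu => ?_))
  · rw [Subgroup.mem_bot.mp hd, mul_one, mul_inv_cancel]; exact one_mem _
  · rw [Subgroup.mem_bot, commutatorElement_eq_one_iff_mul_comm]
    rcases ht with ht | ht
    · rcases hu with hu | hu
      · exact hT t ht u hu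
      · exact Subgroup.mem_center_iff.mp (hc hu) t
    · exact (Subgroup.mem_center_iff.mp (hc ht) u).symm

/-- Primes dividing the order at most once never divide the kernel. -/
theorem exists_sylow_cyclic [Finite Q] (hσ : Cfsg.IsStemExtension σ) (h : ¬ p ^ 2 ∣ Nat.card Q) :
    ∃ S : Sylow p Γ, ∀ z ∈ σ.ker, z ∈ ⁅(S : Subgroup Γ), (S : Subgroup Γ)⁆ → z = 1 := by
  let P : Sylow p Q := default
  have hle : (Nat.card Q).factorization p ≤ 1 := by
    by_contra h'
    exact h ((hp.out.pow_dvd_iff_le_factorization Nat.card_pos.ne').mpr (by omega))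
  obtain ⟨x, hx⟩ : ∃ x, (P : Subgroup Q) ≤ Subgroup.zpowers x := by
    rcases Nat.le_one_iff_eq_zero_or_eq_one.mp hle with e | e
    · refine ⟨1, le_of_eq_of_le ?_ bot_le⟩
      exact Subgroup.card_eq_one.mp (by rw [P.card_eq_multiplicity, e, pow_zero])
    · haveI : IsCyclic (P : Subgroup Q) := isCyclic_of_prime_card (by rw [P.card_eq_multiplicity, e, pow_one])
      obtain ⟨g, hg⟩ := IsCyclic.exists_generator (α := (P : Subgroup Q))
      refine ⟨g, fun y hy => ?_⟩
      obtain ⟨k, hk⟩ := Subgroup.mem_zpowers_iff.mp (hg ⟨y, hy⟩)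
      exact Subgroup.mem_zpowers_iff.mpr ⟨k, congrArg Subtype.val hk⟩
  obtain ⟨S, hS⟩ := exists_sylow_map_le hσ.1 (P : Subgroup Q) P.card_eq_multiplicity
  obtain ⟨X, rfl⟩ := hσ.1 x
  refine ⟨S, fun z _ hzS => eq_one_of_commuting hσ.2.1 (T := {X}) ?_ (by simp) hzS⟩
  rw [Set.image_singleton, ← Subgroup.zpowers_eq_closure]
  exact hS.trans hx

omit [Finite Γ] hp in
/-- Commutators of lifts depend only on the images. -/
theorem commutator_lift_pow (hc : σ.ker ≤ Subgroup.center Γ) {x y : Γ} {n : ℕ} (hx : σ x ^ n = 1)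
    (hxy : ⁅σ x, σ y⁆ = 1) : ⁅x, y⁆ ^ n = 1 := by
  have hz : ∀ g, g * ⁅x, y⁆ = ⁅x, y⁆ * g :=
    Subgroup.mem_center_iff.mp (hc (show σ ⁅x, y⁆ = 1 by rw [map_commutatorElement, hxy]))
  have key : ∀ m, ⁅x ^ m, y⁆ = ⁅x, y⁆ ^ m := by
    intro m
    induction m with
    | zero => rw [pow_zero, pow_zero, commutatorElement_one_left]
    | succ m ih =>
      rw [pow_succ' x m, show ⁅x * x ^ m, y⁆ = x * ⁅x ^ m, y⁆ * x⁻¹ * ⁅x, y⁆ by
        simp only [commutatorElement_def]; group, ih,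
        ((show Commute x ⁅x, y⁆ from hz x).pow_right m).eq, mul_inv_cancel_right, ← pow_succ]
  rw [← key n, commutatorElement_eq_one_iff_mul_comm]
  exact (Subgroup.mem_center_iff.mp (hc (show σ (x ^ n) = 1 by rw [map_pow, hx])) y).symm

/-- An elementary abelian Sylow subgroup of rank two with an element interchanging its generators. -/
theorem exists_sylow_swap [Finite Q] (hσ : Cfsg.IsStemExtension σ) (hp2 : p ≠ 2) (a b n : Q)
    (hcard : Nat.card (Subgroup.closure {a, b}) = p ^ (Nat.card Q).factorization p)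
    (ha : a ^ p = 1) (hab : a * b = b * a) (h1 : n * a * n⁻¹ = b) (h2 : n * b * n⁻¹ = a) :
    ∃ S : Sylow p Γ, ∀ z ∈ σ.ker, z ∈ ⁅(S : Subgroup Γ), (S : Subgroup Γ)⁆ → z = 1 := by
  obtain ⟨S, hS⟩ := exists_sylow_map_le hσ.1 _ hcard
  obtain ⟨A, rfl⟩ := hσ.1 a
  obtain ⟨N, rfl⟩ := hσ.1 n
  set B := N * A * N⁻¹ with hB
  have hσB : σ B = b := by rw [hB, map_mul, map_mul, map_inv, h1]
  have hcen : ∀ w, σ w = 1 → ∀ g, g * w = w * g := fun w hw => Subgroup.mem_center_iff.mp (hσ.2.1 hw)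
  have hcom : ⁅σ A, σ B⁆ = 1 := by rw [hσB, commutatorElement_eq_one_iff_mul_comm, hab]
  set c := ⁅A, B⁆ with hc
  have hc1 : σ c = 1 := by rw [hc, map_commutatorElement, hcom]
  have hA' : ∃ w, σ w = 1 ∧ N * B * N⁻¹ = A * w :=
    ⟨A⁻¹ * (N * B * N⁻¹), by rw [map_mul, map_mul, map_mul, map_inv, map_inv, hσB, h2, inv_mul_cancel], by group⟩
  obtain ⟨w, hw, hNB⟩ := hA'
  have hswap : c = c⁻¹ := by
    calc c = N * c * N⁻¹ := by rw [hcen c hc1 N, mul_inv_cancel_right]
      _ = ⁅N * A * N⁻¹, N * B * N⁻¹⁆ := by rw [hc]; simp only [commutatorElement_def]; group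
      _ = ⁅B, A * w⁆ := by rw [hNB]
      _ = ⁅B, A⁆ := by
        simp only [commutatorElement_def, mul_inv_rev]
        rw [show B * (A * w) * B⁻¹ * (w⁻¹ * A⁻¹) = B * A * (w * B⁻¹) * w⁻¹ * A⁻¹ by group, ← hcen w hw B⁻¹]
        group
      _ = c⁻¹ := by rw [hc]; simp only [commutatorElement_def]; group
  have hc2 : c ^ 2 = 1 := by
    rw [sq]; conv_lhs => arg 2; rw [hswap]
    exact mul_inv_cancel c
  have hcp : c ^ p = 1 := commutator_lift_pow hσ.2.1 ha hcom
  have hc0 : c = 1 := by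
    have hg : Nat.gcd 2 p = 1 := (Nat.coprime_primes Nat.prime_two hp.out).mpr hp2.symm
    have := pow_gcd_eq_one.mpr ⟨hc2, hcp⟩
    rwa [hg, pow_one] at this
  refine ⟨S, fun z _ hzS => eq_one_of_commuting hσ.2.1 (T := {A, B}) ?_ ?_ hzS⟩
  · rw [Set.image_pair, hσB]; exact hS
  · rintro t (rfl | rfl) u (rfl | rfl)
    · rfl
    · exact commutatorElement_eq_one_iff_mul_comm.mp hc0
    · exact (commutatorElement_eq_one_iff_mul_comm.mp hc0).symm
    · rfl

/-- A semidihedral Sylow subgroup of order sixteen. -/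
theorem exists_sylow_semidihedral [Finite Q] (hσ : Cfsg.IsStemExtension σ) (a b : Q)
    (hcard : Nat.card (Subgroup.closure {a, b}) = p ^ (Nat.card Q).factorization p)
    (ha : orderOf a = 8) (hb : b ^ 2 = 1) (hba : b * a * b⁻¹ = a ^ 3) :
    ∃ S : Sylow p Γ, ∀ z ∈ σ.ker, z ∈ ⁅(S : Subgroup Γ), (S : Subgroup Γ)⁆ → z = 1 := by
  obtain ⟨S, hS⟩ := exists_sylow_map_le hσ.1 _ hcard
  obtain ⟨A, rfl⟩ := hσ.1 a
  obtain ⟨B, rfl⟩ := hσ.1 b
  have hcen : ∀ w, σ w = 1 → ∀ g, g * w = w * g := fun w hw => Subgroup.mem_center_iff.mp (hσ.2.1 hw)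
  obtain ⟨w, hw, hBA⟩ : ∃ w, σ w = 1 ∧ B * A * B⁻¹ = A ^ 3 * w :=
    ⟨(A ^ 3)⁻¹ * (B * A * B⁻¹), by
      rw [map_mul, map_inv, map_pow, map_mul, map_mul, map_inv, hba, inv_mul_cancel], by group⟩
  have hwc : Commute A w := hcen w hw A
  have hwB : B * w * B⁻¹ = w := by rw [hcen w hw B, mul_inv_cancel_right]
  have hB2 : σ (B * B) = 1 := by rw [map_mul, ← sq, hb]
  -- conjugating twice
  have h8 : A ^ 8 * w ^ 4 = 1 := by
    have e : A = (A ^ 3 * w) ^ 3 * w := by
      calc A = B * B * A * (B * B)⁻¹ := by rw [← hcen _ hB2 A, mul_inv_cancel_right]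
        _ = B * (B * A * B⁻¹) * B⁻¹ := by group
        _ = B * (A ^ 3 * w) * B⁻¹ := by rw [hBA]
        _ = (B * A * B⁻¹) ^ 3 * (B * w * B⁻¹) := by rw [conj_pow]; group
        _ = (A ^ 3 * w) ^ 3 * w := by rw [hBA, hwB]
    rw [(hwc.pow_left 3).mul_pow, ← pow_mul, mul_assoc, ← pow_succ] at e
    calc A ^ 8 * w ^ 4 = A⁻¹ * (A ^ (3 * 3) * w ^ (3 + 1)) := by
          rw [show A ^ (3 * 3) = A * A ^ 8 by rw [← pow_succ']]; group
      _ = 1 := by rw [← e, inv_mul_cancel]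
  set d := A ^ 2 * w with hd
  have hd4 : d ^ 4 = 1 := by rw [hd, (hwc.pow_left 2).mul_pow, ← pow_mul]; exact h8
  have hBd : B * d * B⁻¹ = d ^ 3 := by
    rw [hd, show B * (A ^ 2 * w) * B⁻¹ = (B * A * B⁻¹) ^ 2 * (B * w * B⁻¹) by rw [conj_pow]; group, hBA, hwB,
      (hwc.pow_left 3).mul_pow, (hwc.pow_left 2).mul_pow, ← pow_mul, ← pow_mul, mul_assoc, ← pow_succ]
  have hAd : A * d * A⁻¹ = d := by
    rw [hd, ← mul_assoc A, ← pow_succ', mul_assoc (A ^ (2 + 1)), ← (hwc.inv_left).eq, ← mul_assoc]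
    group
  have hBAc : ⁅B, A⁆ = d := by
    rw [commutatorElement_def, hBA, mul_assoc, ← (hwc.inv_left).eq, ← mul_assoc, hd]
    group
  refine ⟨S, fun z hz hzS => ?_⟩
  have hzd : z ∈ Subgroup.zpowers d := by
    refine (Subgroup.commutator_mono (le_closure_union_ker (σ := σ) (H := (S : Subgroup Γ)) (T := {A, B}) ?_)
      (le_closure_union_ker (σ := σ) (H := (S : Subgroup Γ)) (T := {A, B}) ?_)).trans (commutator_closure_le ?_ ?_) hzS
    · rw [Set.image_pair]; exact hS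
    · rw [Set.image_pair]; exact hS
    · intro t ht e he
      obtain ⟨k, rfl⟩ := Subgroup.mem_zpowers_iff.mp he
      rcases ht with (rfl | rfl) | ht
      · rw [← conj_zpow, hAd]; exact zpow_mem (Subgroup.mem_zpowers d) k
      · rw [← conj_zpow, hBd]; exact zpow_mem (pow_mem (Subgroup.mem_zpowers d) 3) k
      · rw [← hcen t ht, mul_inv_cancel_right]; exact zpow_mem (Subgroup.mem_zpowers d) k
    · rintro t ht u hu
      have hker : ∀ x ∈ (σ.ker : Set Γ), ∀ g : Γ, ⁅x, g⁆ = 1 ∧ ⁅g, x⁆ = 1 := fun x hx g =>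
        ⟨commutatorElement_eq_one_iff_mul_comm.mpr (hcen x hx g).symm,
          commutatorElement_eq_one_iff_mul_comm.mpr (hcen x hx g)⟩
      rcases ht with (rfl | rfl) | ht
      · rcases hu with (rfl | rfl) | hu
        · rw [commutatorElement_self]; exact one_mem _
        · rw [show ⁅t, u⁆ = ⁅u, t⁆⁻¹ by rw [commutatorElement_inv], hBAc]
          exact inv_mem (Subgroup.mem_zpowers d)
        · rw [(hker u hu t).2]; exact one_mem _
      · rcases hu with (rfl | rfl) | hu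
        · rw [hBAc]; exact Subgroup.mem_zpowers d
        · rw [commutatorElement_self]; exact one_mem _
        · rw [(hker u hu t).2]; exact one_mem _
      · rw [(hker t ht u).1]; exact one_mem _
  obtain ⟨k, hk⟩ := Subgroup.mem_zpowers_iff.mp hzd
  have hσd : orderOf (σ d) = 4 := by
    rw [hd, map_mul, hw, mul_one, map_pow, orderOf_pow, ha]; rfl
  have hk4 : (4 : ℤ) ∣ k := by
    have e : σ d ^ k = 1 := by rw [← map_zpow, hk]; exact hz
    have := orderOf_dvd_iff_zpow_eq_one.mpr e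
    rwa [hσd] at this
  obtain ⟨m, rfl⟩ := hk4
  rw [← hk, zpow_mul, show d ^ (4 : ℤ) = 1 by exact_mod_cast hd4, one_zpow]

end Cfsg.Lib.Schur
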