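import Mathlib
import Cfsg.Agent.Schur.SylowTransfer

/-!
Stem extensions of alternating groups: for degree different from six and seven the kernel has order
at most two (Schur).
-/

set_option autoImplicit false
set_option linter.style.haveILetI false
set_option linter.unusedSectionVars false

namespace Cfsg.Lib.Schur.Alt

open Equiv
open scoped commutatorElement

/-! ### Coset enumeration for Carmichael's presentation -/

theorem card_closure_le {K : Type*} [Group K] [Finite K] (X : ℕ → K) :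
    ∀ m : ℕ, (∀ i < m, X i ^ 3 = 1) → (∀ i < m, ∀ j < m, i ≠ j → (X i * X j) ^ 2 = 1) →
      Nat.card (Subgroup.closure (X '' Set.Iio m)) * 2 ≤ (m + 2).factorial := by
  intro m
  induction m with
  | zero =>
    intro _ _
    rw [show Set.Iio (0 : ℕ) = ∅ by ext x; simp, Set.image_empty, Subgroup.closure_empty,
      Subgroup.card_bot]
    rfl
  | succ m ih =>
    intro h3 h2
    have ih' := ih (fun i hi => h3 i (by omega)) fun i hi j hj => h2 i (by omega) j (by omega)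
    obtain ⟨H, hH⟩ : ∃ H : Subgroup K, H = Subgroup.closure (X '' Set.Iio m) := ⟨_, rfl⟩
    rw [← hH] at ih'
    obtain ⟨x, hx⟩ : ∃ x, X m = x := ⟨_, rfl⟩
    have hx3 : x * x * x = 1 := by rw [← pow_three', ← hx]; exact h3 m (by omega)
    have hmemH : ∀ j < m, X j ∈ H := fun j hj => hH ▸ Subgroup.subset_closure ⟨j, hj, rfl⟩
    have hle : H ≤ Subgroup.closure (X '' Set.Iio (m + 1)) :=
      hH ▸ Subgroup.closure_mono (Set.image_mono fun i (hi : i < m) => Nat.lt_succ_of_lt hi)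
    have hxm : x ∈ Subgroup.closure (X '' Set.Iio (m + 1)) :=
      Subgroup.subset_closure ⟨m, Nat.lt_succ_self m, hx⟩
    -- the coset representatives
    let r : Fin 3 ⊕ Fin m → K := fun s => match s with
      | Sum.inl i => x ^ (i : ℕ)
      | Sum.inr j => X j * (x * x)
    have rmem : ∀ s, r s ∈ Subgroup.closure (X '' Set.Iio (m + 1)) := by
      rintro (i | j)
      · exact pow_mem hxm _
      · exact mul_mem (hle (hmemH j j.2)) (mul_mem hxm hxm)
    let P : K → Prop := fun g => ∃ s, (r s)⁻¹ * g ∈ H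
    have P_of : ∀ g s, ∀ h ∈ H, g = r s * h → P g := fun g s h hh e =>
      ⟨s, by rw [e, inv_mul_cancel_left]; exact hh⟩
    -- commutation rules
    have rel : ∀ j < m, x * X j * x = (X j)⁻¹ ∧ X j * x * X j = x⁻¹ := by
      intro j hj
      have e := h2 m (by omega) j (by omega) (by omega)
      rw [hx, pow_two] at e
      constructor
      · exact eq_inv_of_mul_eq_one_left (by rw [← e]; group)
      · exact eq_inv_of_mul_eq_one_right (by rw [← e]; group)
    have step : ∀ k, k < m + 1 → ∀ g, P g → P (X k * g) := by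
      rintro k hk g ⟨s, hs⟩
      obtain ⟨h, hh, rfl⟩ : ∃ h ∈ H, g = r s * h := ⟨_, hs, (mul_inv_cancel_left _ g).symm⟩
      rcases Nat.lt_succ_iff_lt_or_eq.mp hk with hk | rfl
      · have hkH := hmemH k hk
        have hk3 : X k * X k * X k = 1 := by rw [← pow_three']; exact h3 k (by omega)
        have hinv : (X k)⁻¹ = X k * X k := inv_eq_of_mul_eq_one_left hk3
        obtain ⟨r1, r2⟩ := rel k hk
        have e1 : X k * x = x * x * (X k)⁻¹ := by
          calc X k * x = X k * x * X k * (X k)⁻¹ := by group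
            _ = x * x * (X k)⁻¹ := by rw [r2, inv_eq_of_mul_eq_one_left hx3]
        rcases s with i | j
        · obtain ⟨i, hi⟩ := i
          interval_cases i
          · exact P_of _ (Sum.inl 0) (X k * h) (mul_mem hkH hh) (by simp [r])
          · refine P_of _ (Sum.inl 2) ((X k)⁻¹ * h) (mul_mem (inv_mem hkH) hh) ?_
            show X k * (x ^ 1 * h) = x ^ 2 * ((X k)⁻¹ * h)
            rw [pow_one, pow_two, ← mul_assoc, e1, mul_assoc]
          · refine P_of _ (Sum.inr ⟨k, hk⟩) h hh ?_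
            show X k * (x ^ 2 * h) = X k * (x * x) * h
            rw [pow_two, mul_assoc (X k)]
        · obtain ⟨j, hj⟩ := j
          by_cases hjk : j = k
          · subst hjk
            refine P_of _ (Sum.inl 1) (X j * h) (mul_mem hkH hh) ?_
            show X j * (X j * (x * x) * h) = x ^ 1 * (X j * h)
            have e2 : X j * X j * (x * x) = x * X j := by
              rw [← hinv]
              calc (X j)⁻¹ * (x * x) = (X j)⁻¹ * x⁻¹ * (x * x * x) := by group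
                _ = (X j * (x * X j))⁻¹ * (X j * (X j)⁻¹) * X j := by rw [hx3]; group
                _ = _ := by rw [← mul_assoc (X j) x, r2]; group
            calc X j * (X j * (x * x) * h) = X j * X j * (x * x) * h := by group
              _ = _ := by rw [e2, pow_one, mul_assoc]
          · have hjH := hmemH j hj
            have ek := h2 k (by omega) j (by omega) (fun e => hjk e.symm)
            rw [pow_two] at ek
            have e2 : X k * X j = (X j)⁻¹ * (X k)⁻¹ := by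
              rw [← mul_inv_rev]
              exact eq_inv_of_mul_eq_one_left ek
            have hj3 : X j * X j * X j = 1 := by rw [← pow_three']; exact h3 j (by omega)
            obtain ⟨s1, s2⟩ := rel j hj
            have e3 : (X k)⁻¹ * (x * x) = x * X k := by
              calc (X k)⁻¹ * (x * x) = (X k)⁻¹ * x⁻¹ * (x * x * x) := by group
                _ = (X k * (x * X k))⁻¹ * (X k * (X k)⁻¹) * X k := by rw [hx3]; group
                _ = _ := by rw [← mul_assoc (X k) x, r2]; group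
            have e4 : (X j)⁻¹ * x = X j * (x * x) * (X j)⁻¹ := by
              have hxi : x⁻¹ = x * x := inv_eq_of_mul_eq_one_left hx3
              have hji : (X j)⁻¹ = X j * X j := inv_eq_of_mul_eq_one_left hj3
              calc (X j)⁻¹ * x
                  = (X j * X j * X j)⁻¹ * (X j * (X j * x * X j) * (X j)⁻¹) := by group
                _ = _ := by rw [hj3, inv_one, one_mul, s2, hxi]
            refine P_of _ (Sum.inr ⟨j, hj⟩) ((X j)⁻¹ * X k * h)
              (mul_mem (mul_mem (inv_mem hjH) hkH) hh) ?_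
            show X k * (X j * (x * x) * h) = X j * (x * x) * ((X j)⁻¹ * X k * h)
            calc X k * (X j * (x * x) * h) = X k * X j * (x * x) * h := by group
              _ = (X j)⁻¹ * ((X k)⁻¹ * (x * x)) * h := by rw [e2]; group
              _ = (X j)⁻¹ * x * (X k * h) := by rw [e3]; group
              _ = _ := by rw [e4]; group
      · subst hx
        rcases s with i | j
        · obtain ⟨i, hi⟩ := i
          interval_cases i
          · refine P_of _ (Sum.inl 1) h hh ?_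
            simp [r]
          · refine P_of _ (Sum.inl 2) h hh ?_
            simp [r, pow_two, mul_assoc]
          · refine P_of _ (Sum.inl 0) h hh ?_
            show X k * (X k ^ 2 * h) = X k ^ 0 * h
            rw [pow_zero, one_mul, ← mul_assoc, pow_two, ← mul_assoc, hx3, one_mul]
        · obtain ⟨j, hj⟩ := j
          have hjH := hmemH j hj
          obtain ⟨s1, s2⟩ := rel j hj
          have hj3 : X j * X j * X j = 1 := by rw [← pow_three']; exact h3 j (by omega)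
          refine P_of _ (Sum.inr ⟨j, hj⟩) ((X j)⁻¹ * h) (mul_mem (inv_mem hjH) hh) ?_
          show X k * (X j * (X k * X k) * h) = X j * (X k * X k) * ((X j)⁻¹ * h)
          have hji : (X j)⁻¹ = X j * X j := inv_eq_of_mul_eq_one_left hj3
          have hxi : (X k)⁻¹ = X k * X k := inv_eq_of_mul_eq_one_left hx3
          calc X k * (X j * (X k * X k) * h) = X k * X j * X k * X k * h := by group
            _ = (X j)⁻¹ * X k * h := by rw [s1]
            _ = (X j * X j * X j)⁻¹ * (X j * (X j * X k * X j) * (X j)⁻¹) * h := by group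
            _ = _ := by rw [hj3, inv_one, one_mul, s2, hxi]; group
    have all : ∀ g ∈ Subgroup.closure (X '' Set.Iio (m + 1)), P g := by
      intro g hg
      induction hg using Subgroup.closure_induction_left with
      | one => exact P_of 1 (Sum.inl 0) 1 H.one_mem (by simp [r])
      | mul_left a ha y _ hy =>
        obtain ⟨k, hk, rfl⟩ := ha
        exact step k hk y hy
      | inv_mul_cancel a ha y _ hy =>
        obtain ⟨k, hk, rfl⟩ := ha
        rw [inv_eq_of_mul_eq_one_left (show X k * X k * X k = 1 by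
          rw [← pow_three']; exact h3 k hk), mul_assoc]
        exact step k hk _ (step k hk y hy)
    have hcard : Nat.card (Subgroup.closure (X '' Set.Iio (m + 1))) ≤ (m + 3) * Nat.card H := by
      let f : (Fin 3 ⊕ Fin m) × H → Subgroup.closure (X '' Set.Iio (m + 1)) :=
        fun p => ⟨r p.1 * p.2, mul_mem (rmem p.1) (hle p.2.2)⟩
      have hf : Function.Surjective f := fun g => by
        obtain ⟨s, hs⟩ := all g g.2
        exact ⟨(s, ⟨_, hs⟩), Subtype.ext (mul_inv_cancel_left _ _)⟩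
      have := Nat.card_le_card_of_surjective f hf
      rw [Nat.card_prod, Nat.card_sum, Nat.card_fin, Nat.card_fin] at this
      rw [show m + 3 = 3 + m by omega]
      exact this
    calc Nat.card (Subgroup.closure (X '' Set.Iio (m + 1))) * 2
        ≤ (m + 3) * Nat.card H * 2 := Nat.mul_le_mul_right 2 hcard
      _ = (m + 3) * (Nat.card H * 2) := mul_assoc _ _ _
      _ ≤ (m + 3) * (m + 2).factorial := Nat.mul_le_mul_left _ ih'
      _ = (m + 1 + 2).factorial := by
          rw [show m + 1 + 2 = (m + 2) + 1 by omega, Nat.factorial_succ (m + 2)]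

/-! ### Three-cycles -/

section Cycles

variable {n : ℕ}

/-- The three-cycle `a → b → i → a`. -/
def cyc (a b i : Fin n) : Perm (Fin n) := swap a i * swap a b

theorem cyc_mem (a b i : Fin n) (hab : a ≠ b) (hai : a ≠ i) : cyc a b i ∈ alternatingGroup (Fin n) := by
  rw [Perm.mem_alternatingGroup, cyc, map_mul, Perm.sign_swap hai, Perm.sign_swap hab]
  decide

theorem cyc_apply₁ {a b i : Fin n} (hab : a ≠ b) (hbi : b ≠ i) : cyc a b i a = b := by
  rw [cyc, Perm.mul_apply, swap_apply_left, swap_apply_of_ne_of_ne hab.symm hbi]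

theorem cyc_apply₂ (a b i : Fin n) : cyc a b i b = i := by
  rw [cyc, Perm.mul_apply, swap_apply_right, swap_apply_left]

theorem cyc_apply₃ {a b i : Fin n} (hai : a ≠ i) (hbi : b ≠ i) : cyc a b i i = a := by
  rw [cyc, Perm.mul_apply, swap_apply_of_ne_of_ne hai.symm hbi.symm, swap_apply_right]

theorem cyc_apply_ne {a b i p : Fin n} (ha : p ≠ a) (hb : p ≠ b) (hi : p ≠ i) : cyc a b i p = p := by
  rw [cyc, Perm.mul_apply, swap_apply_of_ne_of_ne ha hb, swap_apply_of_ne_of_ne ha hi]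

theorem conj_cyc (π : Perm (Fin n)) (a b i : Fin n) :
    π * cyc a b i * π⁻¹ = cyc (π a) (π b) (π i) := by
  simp only [cyc, swap_apply_apply]
  group

theorem cyc_inv {a b i : Fin n} (hab : a ≠ b) (hai : a ≠ i) (hbi : b ≠ i) :
    (cyc a b i)⁻¹ = cyc b a i := by
  rw [inv_eq_iff_mul_eq_one]
  ext p
  rw [Perm.mul_apply, Perm.one_apply]
  by_cases ha : p = a
  · subst ha
    rw [cyc_apply₂, cyc_apply₃ hai hbi]
  by_cases hb : p = b
  · subst hb
    rw [cyc_apply₁ hab.symm hai, cyc_apply₁ hab hbi]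
  by_cases hi : p = i
  · subst hi
    rw [cyc_apply₃ hbi hai, cyc_apply₂]
  rw [cyc_apply_ne hb ha hi, cyc_apply_ne ha hb hi]

theorem cyc_pow_three {a b i : Fin n} (hab : a ≠ b) (hai : a ≠ i) (hbi : b ≠ i) :
    cyc a b i ^ 3 = 1 := by
  ext p
  rw [pow_three, Perm.mul_apply, Perm.mul_apply, Perm.one_apply]
  by_cases ha : p = a
  · subst ha
    rw [cyc_apply₁ hab hbi, cyc_apply₂, cyc_apply₃ hai hbi]
  by_cases hb : p = b
  · subst hb
    rw [cyc_apply₂, cyc_apply₃ hai hbi, cyc_apply₁ hab hbi]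
  by_cases hi : p = i
  · subst hi
    rw [cyc_apply₃ hai hbi, cyc_apply₁ hab hbi, cyc_apply₂]
  rw [cyc_apply_ne ha hb hi, cyc_apply_ne ha hb hi, cyc_apply_ne ha hb hi]

/-- The products `cyc a b i * cyc a b j` are involutions. -/
theorem cyc_mul_sq {a b i j : Fin n} (hab : a ≠ b) (hai : a ≠ i) (hbi : b ≠ i) (haj : a ≠ j)
    (hbj : b ≠ j) (hij : i ≠ j) : (cyc a b i * cyc a b j) ^ 2 = 1 := by
  ext p
  rw [pow_two, Perm.mul_apply, Perm.mul_apply, Perm.mul_apply, Perm.one_apply]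
  by_cases ha : p = a
  · subst ha
    rw [cyc_apply₁ hab hbj, cyc_apply₂, cyc_apply_ne hai.symm hbi.symm hij, cyc_apply₃ hai hbi]
  by_cases hb : p = b
  · subst hb
    rw [cyc_apply₂, cyc_apply_ne haj.symm hbj.symm hij.symm, cyc_apply₃ haj hbj,
      cyc_apply₁ hab hbi]
  by_cases hi : p = i
  · subst hi
    rw [cyc_apply_ne ha hb hij, cyc_apply₃ hai hbi, cyc_apply₁ hab hbj, cyc_apply₂]
  by_cases hj : p = j
  · subst hj
    rw [cyc_apply₃ haj hbj, cyc_apply₁ hab hbi, cyc_apply₂, cyc_apply_ne haj.symm hbj.symm hij.symm]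
  rw [cyc_apply_ne ha hb hj, cyc_apply_ne ha hb hi, cyc_apply_ne ha hb hj, cyc_apply_ne ha hb hi]

/-- A fixed pair of points gives generators. -/
theorem mem_of_cyc_mem {a b : Fin n} (hab : a ≠ b) {H : Subgroup (Perm (Fin n))}
    (h : ∀ i, i ≠ a → i ≠ b → cyc a b i ∈ H)
    {g : Perm (Fin n)} (hg : g ∈ alternatingGroup (Fin n)) : g ∈ H := by
  obtain ⟨S, hS⟩ : ∃ S : Set (Perm (Fin n)), S = {y | ∃ i, i ≠ a ∧ i ≠ b ∧ y = cyc a b i} := ⟨_, rfl⟩
  obtain ⟨K, hK⟩ : ∃ K : Subgroup (Perm (Fin n)), K = Subgroup.closure S := ⟨_, rfl⟩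
  have hgen : ∀ i, i ≠ a → i ≠ b → cyc a b i ∈ K := fun i h1 h2 =>
    hK ▸ Subgroup.subset_closure (hS ▸ ⟨i, h1, h2, rfl⟩)
  have hKH : K ≤ H := by
    rw [hK, Subgroup.closure_le, hS]
    rintro _ ⟨i, h1, h2, rfl⟩
    exact h i h1 h2
  have hKA : K ≤ alternatingGroup (Fin n) := by
    rw [hK, Subgroup.closure_le, hS]
    rintro _ ⟨i, h1, -, rfl⟩
    exact cyc_mem a b i hab h1.symm
  obtain ⟨t, ht⟩ : ∃ t : Perm (Fin n), t = swap a b := ⟨_, rfl⟩
  have htt : t * t = 1 := by rw [ht]; exact swap_mul_self a b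
  have ht' : t⁻¹ = t := inv_eq_of_mul_eq_one_left htt
  have hconj : ∀ x ∈ K, t * x * t⁻¹ ∈ K := by
    intro x hx
    have hle : K.map (MulAut.conj t).toMonoidHom ≤ K := by
      conv_lhs => rw [hK]
      rw [MonoidHom.map_closure, Subgroup.closure_le, hS]
      rintro _ ⟨_, ⟨i, hia, hib, rfl⟩, rfl⟩
      show t * cyc a b i * t⁻¹ ∈ K
      rw [conj_cyc, ht, swap_apply_left, swap_apply_right, swap_apply_of_ne_of_ne hia hib,
        ← cyc_inv hab hia.symm hib.symm]
      exact K.inv_mem (hgen i hia hib)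
    exact hle ⟨x, hx, rfl⟩
  -- `σ p * t` lies in `K`
  have pair : ∀ p, p ≠ a → swap a p * t ∈ K := by
    intro p hpa
    by_cases hpb : p = b
    · rw [hpb, ← ht, htt]; exact K.one_mem
    · rw [ht]; exact hgen p hpa hpb
  let Q : Perm (Fin n) → Prop := fun f => f ∈ K ∨ f * t ∈ K
  have toggle : ∀ p, p ≠ a → ∀ f, Q f → Q (swap a p * f) := by
    intro p hpa f hf
    have e : swap a p * f = swap a p * t * (t * f) := by
      rw [mul_assoc, ← mul_assoc t t, htt, one_mul]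
    rcases hf with hf | hf
    · right
      rw [e, mul_assoc]
      have h1 := hconj f hf
      rw [ht'] at h1
      exact K.mul_mem (pair p hpa) h1
    · left
      rw [e, show t * f = t * (f * t) * t⁻¹ by group]
      exact K.mul_mem (pair p hpa) (hconj _ hf)
  have all : ∀ f : Perm (Fin n), Q f := by
    intro f
    induction f using Equiv.Perm.swap_induction_on with
    | one => exact Or.inl K.one_mem
    | swap_mul f p q hpq ih =>
      by_cases hpa : p = a
      · subst hpa; exact toggle q hpq.symm f ih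
      by_cases hqa : q = a
      · subst hqa; rw [swap_comm]; exact toggle p hpq f ih
      have e : swap p q = swap a p * (swap a q * swap a p) := by
        have h1 : (swap a p) * swap a q * (swap a p)⁻¹ = swap p q := by
          rw [← swap_apply_apply, swap_apply_left, swap_apply_of_ne_of_ne hqa hpq.symm]
        rw [← h1, swap_inv, mul_assoc]
      rw [e, mul_assoc, mul_assoc]
      exact toggle p hpa _ (toggle q hqa _ (toggle p hpa f ih))
  rcases all g with h1 | h1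
  · exact hKH h1
  · exfalso
    have h2 := Perm.mem_alternatingGroup.mp (hKA h1)
    rw [map_mul, Perm.mem_alternatingGroup.mp hg, one_mul, ht, Perm.sign_swap hab] at h2
    exact absurd h2 (by decide)

end Cycles


/-! ### Lifts -/

section Lifts

variable {n : ℕ} {Γ : Type*} [Group Γ] [Finite Γ] {ρ : Γ →* Perm (Fin n)}

theorem comm_of_ker (hc : ρ.ker ≤ Subgroup.center Γ) {z : Γ} (hz : ρ z = 1) (g : Γ) : Commute g z :=
  Subgroup.mem_center_iff.mp (hc hz) g

theorem exists_lift (hr : ρ.range = alternatingGroup (Fin n)) {c : Perm (Fin n)}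
    (hcA : c ∈ alternatingGroup (Fin n)) : ∃ X, ρ X = c := by
  rw [← hr] at hcA; exact hcA

theorem swap_swap_mem {a b u v : Fin n} (hab : a ≠ b) (huv : u ≠ v) :
    swap a b * swap u v ∈ alternatingGroup (Fin n) := by
  rw [Perm.mem_alternatingGroup, map_mul, Perm.sign_swap hab, Perm.sign_swap huv]
  decide

theorem exists_two_outside (s : Finset (Fin n)) (h : s.card + 2 ≤ n) :
    ∃ u v, u ∉ s ∧ v ∉ s ∧ u ≠ v := by
  obtain ⟨u, hu, v, hv, huv⟩ := Finset.one_lt_card.mp (show 1 < (sᶜ).card by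
    rw [Finset.card_compl, Fintype.card_fin]; omega)
  exact ⟨u, v, Finset.mem_compl.mp hu, Finset.mem_compl.mp hv, huv⟩

/-- Lifts of disjoint three-cycles commute in degree at least eight. -/
theorem commute_disjoint (hc : ρ.ker ≤ Subgroup.center Γ) (hr : ρ.range = alternatingGroup (Fin n))
    (h6 : n ≠ 6) (h7 : n ≠ 7) {a b i p q r : Fin n} (hd : [a, b, i, p, q, r].Nodup) {X Y : Γ}
    (hX : ρ X = cyc a b i) (hY : ρ Y = cyc p q r) : Commute X Y := by
  have h8 : 8 ≤ n := by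
    have := hd.length_le_card
    simp only [List.length_cons, List.length_nil, Fintype.card_fin] at this
    omega
  simp only [List.nodup_cons, List.mem_cons, List.not_mem_nil, or_false, not_or, List.nodup_nil,
    and_true, not_false_eq_true] at hd
  obtain ⟨⟨hab, hai, hap, haq, har⟩, ⟨hbi, hbp, hbq, hbr⟩, ⟨hip, hiq, hir⟩, ⟨hpq, hpr⟩, hqr⟩ := hd
  obtain ⟨u, v, hu, hv, huv⟩ := exists_two_outside ({a, b, i, p, q, r} : Finset (Fin n))
    (le_trans (Nat.add_le_add_right Finset.card_le_six 2) h8)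
  simp only [Finset.mem_insert, Finset.mem_singleton, not_or] at hu hv
  obtain ⟨hua, hub, hui, hup, huq, hur⟩ := hu
  obtain ⟨hva, hvb, hvi, hvp, hvq, hvr⟩ := hv
  have hcomm : ρ X * ρ Y = ρ Y * ρ X := by
    have e : ρ X * ρ Y * (ρ X)⁻¹ = ρ Y := by
      rw [hX, hY, conj_cyc, cyc_apply_ne (Ne.symm hap) (Ne.symm hbp) (Ne.symm hip),
        cyc_apply_ne (Ne.symm haq) (Ne.symm hbq) (Ne.symm hiq), cyc_apply_ne (Ne.symm har) (Ne.symm hbr) (Ne.symm hir)]
    exact mul_inv_eq_iff_eq_mul.mp e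
  have hk : ⁅ρ X, ρ Y⁆ = 1 := commutatorElement_eq_one_iff_mul_comm.mpr hcomm
  have h3 : ⁅X, Y⁆ ^ 3 = 1 :=
    Cfsg.Lib.Schur.commutator_lift_pow hc (by rw [hX]; exact cyc_pow_three hab hai hbi) hk
  obtain ⟨W, hW⟩ := exists_lift hr (swap_swap_mem hab huv)
  have e1 : ρ (W * X * W⁻¹) = ρ X⁻¹ := by
    rw [map_mul, map_mul, map_inv, map_inv, hW, hX, conj_cyc, cyc_inv hab hai hbi]
    simp only [Perm.mul_apply]
    rw [swap_apply_of_ne_of_ne (Ne.symm hua) (Ne.symm hva), swap_apply_of_ne_of_ne (Ne.symm hub) (Ne.symm hvb),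
      swap_apply_of_ne_of_ne (Ne.symm hui) (Ne.symm hvi), swap_apply_left, swap_apply_right,
      swap_apply_of_ne_of_ne (Ne.symm hai) (Ne.symm hbi)]
  have e2 : ρ (W * Y * W⁻¹) = ρ Y := by
    rw [map_mul, map_mul, map_inv, hW, hY, conj_cyc]
    simp only [Perm.mul_apply]
    rw [swap_apply_of_ne_of_ne (Ne.symm hup) (Ne.symm hvp), swap_apply_of_ne_of_ne (Ne.symm huq) (Ne.symm hvq),
      swap_apply_of_ne_of_ne (Ne.symm hur) (Ne.symm hvr), swap_apply_of_ne_of_ne (Ne.symm hap) (Ne.symm hbp),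
      swap_apply_of_ne_of_ne (Ne.symm haq) (Ne.symm hbq), swap_apply_of_ne_of_ne (Ne.symm har) (Ne.symm hbr)]
  have hcen := comm_of_ker hc (z := ⁅X, Y⁆) (by rw [map_commutatorElement, hk])
  have hconj : ⁅X, Y⁆ = ⁅X⁻¹, Y⁆ := by
    calc ⁅X, Y⁆ = W * ⁅X, Y⁆ * W⁻¹ := by rw [(hcen W).eq, mul_inv_cancel_right]
      _ = ⁅W * X * W⁻¹, W * Y * W⁻¹⁆ := by simp only [commutatorElement_def]; group
      _ = _ := Cfsg.Lib.Schur.comm_congr ρ hc e1 e2
  rw [show ⁅X⁻¹, Y⁆ = X⁻¹ * ⁅X, Y⁆⁻¹ * X by simp only [commutatorElement_def]; group,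
    mul_assoc, ← ((hcen X).inv_right).eq, inv_mul_cancel_left, eq_inv_iff_mul_eq_one] at hconj
  rw [← commutatorElement_eq_one_iff_commute]
  rwa [pow_three, hconj, mul_one] at h3

/-- Lifts of a three-cycle commute with everything whose image commutes with it. -/
theorem commute_of_image (hc : ρ.ker ≤ Subgroup.center Γ) (hr : ρ.range = alternatingGroup (Fin n))
    (h5 : 5 ≤ n) (h6 : n ≠ 6) (h7 : n ≠ 7) {a b i : Fin n} (hab : a ≠ b) (hai : a ≠ i) (hbi : b ≠ i)
    {X g : Γ} (hX : ρ X = cyc a b i) (hg : ρ g * cyc a b i = cyc a b i * ρ g) : Commute g X := by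
  obtain ⟨C, hC⟩ : ∃ C : Subgroup Γ, C = Subgroup.centralizer {X} := ⟨_, rfl⟩
  suffices hmem : ρ g ∈ C.map ρ by
    obtain ⟨y, hy, hyg⟩ := hmem
    have hy' : Commute y X := by
      rw [hC] at hy; exact Subgroup.mem_centralizer_singleton_iff.mp hy
    have hz := comm_of_ker hc (z := y⁻¹ * g) (by rw [map_mul, map_inv, hyg, inv_mul_cancel]) X
    rw [← mul_inv_cancel_left y g]
    exact hy'.mul_left hz.symm
  obtain ⟨c, hcc⟩ : ∃ c, cyc a b i = c := ⟨_, rfl⟩
  rw [hcc] at hg hX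
  obtain ⟨π, hπ⟩ : ∃ π, ρ g = π := ⟨_, rfl⟩
  rw [hπ] at hg ⊢
  have hπA : π ∈ alternatingGroup (Fin n) := by rw [← hr, ← hπ]; exact ⟨g, rfl⟩
  have hcA : c ∈ alternatingGroup (Fin n) := hcc ▸ cyc_mem a b i hab hai
  have hcC : c ∈ C.map ρ := ⟨X, by rw [hC]; exact Subgroup.mem_centralizer_singleton_iff.mpr rfl, hX⟩
  have ca : c a = b := hcc ▸ cyc_apply₁ hab hbi
  have cb : c b = i := hcc ▸ cyc_apply₂ a b i
  have ci : c i = a := hcc ▸ cyc_apply₃ hai hbi
  -- multiply by a power of `c` to fix `a`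
  have key : ∀ σ : Perm (Fin n), σ ∈ alternatingGroup (Fin n) → σ * c = c * σ → σ a = a →
      σ ∈ C.map ρ := by
    intro σ hσA hσc hσa
    have happ : ∀ x, σ (c x) = c (σ x) := fun x => by rw [← Perm.mul_apply, hσc, Perm.mul_apply]
    have hσb : σ b = b := by rw [← ca, happ, hσa]
    have hσi : σ i = i := by rw [← cb, happ, hσb]
    let p : Fin n → Prop := fun x => x ≠ a ∧ x ≠ b ∧ x ≠ i
    obtain ⟨m, hm⟩ : ∃ m, Fintype.card {x // p x} = m := ⟨_, rfl⟩
    have hm' : m = n - 3 := by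
      rw [← hm, Fintype.card_subtype,
        show (Finset.univ.filter p) = ({a, b, i} : Finset (Fin n))ᶜ by
          ext x; simp [p]]
      rw [Finset.card_compl, Fintype.card_fin,
        Finset.card_eq_three.mpr ⟨a, b, i, hab, hai, hbi, rfl⟩]
    let e : Fin m ≃ {x // p x} := (Fintype.equivFinOfCardEq hm).symm
    let φ : Perm (Fin m) →* Perm (Fin n) := Perm.ofSubtype.comp e.permCongrHom.toMonoidHom
    have hpσ : ∀ x, p (σ x) ↔ p x := fun x => by
      simp only [p, ne_eq]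
      constructor
      · rintro ⟨h1, h2, h3⟩
        exact ⟨fun e => h1 (e ▸ hσa), fun e => h2 (e ▸ hσb), fun e => h3 (e ▸ hσi)⟩
      · rintro ⟨h1, h2, h3⟩
        exact ⟨fun e => h1 (σ.injective (e.trans hσa.symm)), fun e => h2 (σ.injective (e.trans hσb.symm)),
          fun e => h3 (σ.injective (e.trans hσi.symm))⟩
    obtain ⟨τ, hτ⟩ := e.permCongrHom.surjective (σ.subtypePerm hpσ)
    have hφτ : φ τ = σ := by
      show Perm.ofSubtype (e.permCongrHom τ) = σ
      rw [hτ]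
      refine Perm.ofSubtype_subtypePerm hpσ (fun x hx => ?_)
      exact ⟨fun e => hx (e ▸ hσa), fun e => hx (e ▸ hσb), fun e => hx (e ▸ hσi)⟩
    have hτA : τ ∈ alternatingGroup (Fin m) := by
      have h := Perm.mem_alternatingGroup.mp hσA
      rw [← hφτ] at h
      rw [Perm.mem_alternatingGroup, ← h]
      show _ = Perm.sign (Perm.ofSubtype (e.permCongrHom τ))
      rw [Perm.sign_ofSubtype]
      exact (Perm.sign_permCongr e τ).symm
    have h0 : (⟨0, by omega⟩ : Fin m) ≠ ⟨1, by omega⟩ := by simp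
    refine hφτ ▸ mem_of_cyc_mem h0 (H := (C.map ρ).comap φ) (fun k hk0 hk1 => ?_) hτA
    have hswap : ∀ x y, φ (swap x y) = swap (e x : Fin n) (e y) := fun x y => by
      show Perm.ofSubtype (e.permCongr (swap x y)) = _
      rw [show e.permCongr (swap x y) = swap (e x) (e y) from Equiv.symm_trans_swap_trans x y e,
        Perm.ofSubtype_swap_eq]
    show φ (cyc _ _ k) ∈ C.map ρ
    rw [cyc, map_mul, hswap, hswap]
    obtain ⟨P, hP⟩ : ∃ P, (e ⟨0, by omega⟩ : Fin n) = P := ⟨_, rfl⟩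
    obtain ⟨Q, hQ⟩ : ∃ Q, (e ⟨1, by omega⟩ : Fin n) = Q := ⟨_, rfl⟩
    obtain ⟨R, hR⟩ : ∃ R, (e k : Fin n) = R := ⟨_, rfl⟩
    have hPQ : P ≠ Q := fun h => h0 (e.injective (Subtype.ext (hP.trans (h.trans hQ.symm))))
    have hPR : P ≠ R := fun h => hk0 (e.injective (Subtype.ext (hR.trans (h.symm.trans hP.symm))))
    have hQR : Q ≠ R := fun h => hk1 (e.injective (Subtype.ext (hR.trans (h.symm.trans hQ.symm))))
    have pP : p P := hP ▸ (e _).2
    have pQ : p Q := hQ ▸ (e _).2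
    have pR : p R := hR ▸ (e k).2
    rw [hP, hQ, hR]
    obtain ⟨Y, hY⟩ := exists_lift hr (cyc_mem P Q R hPQ hPR)
    have hd : [a, b, i, P, Q, R].Nodup := by
      simp only [List.nodup_cons, List.mem_cons, List.not_mem_nil, or_false, not_or, List.nodup_nil,
        and_true, not_false_eq_true]
      exact ⟨⟨hab, hai, pP.1.symm, pQ.1.symm, pR.1.symm⟩, ⟨hbi, pP.2.1.symm, pQ.2.1.symm, pR.2.1.symm⟩,
        ⟨pP.2.2.symm, pQ.2.2.symm, pR.2.2.symm⟩, ⟨hPQ, hPR⟩, hQR⟩
    refine ⟨Y, ?_, hY⟩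
    rw [hC]
    exact Subgroup.mem_centralizer_singleton_iff.mpr
      (commute_disjoint hc hr h6 h7 hd (hcc ▸ hX) hY).symm
  have hcase : π a = a ∨ π a = b ∨ π a = i := by
    by_contra hcon
    simp only [not_or] at hcon
    obtain ⟨h1, h2, h3⟩ := hcon
    have e : π (c a) = c (π a) := by rw [← Perm.mul_apply, hg, Perm.mul_apply]
    rw [ca, ← hcc, cyc_apply_ne h1 h2 h3] at e
    exact hab (π.injective e).symm
  have hcomm : Commute π c := hg
  rcases hcase with h | h | h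
  · exact key π hπA hg h
  · have := key (c * (c * π)) (mul_mem hcA (mul_mem hcA hπA))
      (((Commute.refl c).mul_left ((Commute.refl c).mul_left hcomm)).eq)
      (by rw [Perm.mul_apply, Perm.mul_apply, h, cb, ci])
    have h' := mul_mem (inv_mem (mul_mem hcC hcC)) this
    rwa [show (c * c)⁻¹ * (c * (c * π)) = π by group] at h'
  · have := key (c * π) (mul_mem hcA hπA) (((Commute.refl c).mul_left hcomm).eq)
      (by rw [Perm.mul_apply, h, ci])
    have h' := mul_mem (inv_mem hcC) this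
    rwa [inv_mul_cancel_left] at h'

/-- A lift of a three-cycle of order three which is conjugate to its inverse. -/
def IsGoodLift (ρ : Γ →* Perm (Fin n)) (a b i : Fin n) (T : Γ) : Prop :=
  ρ T = cyc a b i ∧ T ^ 3 = 1 ∧ ∃ g, g * T * g⁻¹ = T⁻¹

theorem IsGoodLift.conj {a b i : Fin n} {T : Γ} (hT : IsGoodLift ρ a b i T) (g : Γ) :
    IsGoodLift ρ (ρ g a) (ρ g b) (ρ g i) (g * T * g⁻¹) := by
  obtain ⟨h1, h2, w, h3⟩ := hT
  refine ⟨by rw [map_mul, map_mul, map_inv, h1, conj_cyc], by rw [conj_pow, h2, mul_one, mul_inv_cancel],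
    g * w * g⁻¹, ?_⟩
  calc g * w * g⁻¹ * (g * T * g⁻¹) * (g * w * g⁻¹)⁻¹ = g * (w * T * w⁻¹) * g⁻¹ := by group
    _ = (g * T * g⁻¹)⁻¹ := by rw [h3]; group

theorem IsGoodLift.inv {a b i : Fin n} (hab : a ≠ b) (hai : a ≠ i) (hbi : b ≠ i) {T : Γ}
    (hT : IsGoodLift ρ a b i T) : IsGoodLift ρ b a i T⁻¹ := by
  obtain ⟨h1, h2, w, h3⟩ := hT
  refine ⟨by rw [map_inv, h1, cyc_inv hab hai hbi], by rw [inv_pow, h2, inv_one], w, ?_⟩
  calc w * T⁻¹ * w⁻¹ = (w * T * w⁻¹)⁻¹ := by group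
    _ = _ := by rw [h3]

theorem exists_goodLift (hc : ρ.ker ≤ Subgroup.center Γ) (hr : ρ.range = alternatingGroup (Fin n))
    (h5 : 5 ≤ n) {a b i : Fin n} (hab : a ≠ b) (hai : a ≠ i) (hbi : b ≠ i) :
    ∃ T, IsGoodLift ρ a b i T := by
  obtain ⟨u, v, hu, hv, huv⟩ := exists_two_outside ({a, b, i} : Finset (Fin n))
    (le_trans (Nat.add_le_add_right Finset.card_le_three 2) h5)
  simp only [Finset.mem_insert, Finset.mem_singleton, not_or] at hu hv
  obtain ⟨hua, hub, hui⟩ := hu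
  obtain ⟨hva, hvb, hvi⟩ := hv
  obtain ⟨X, hX⟩ := exists_lift hr (cyc_mem a b i hab hai)
  obtain ⟨W, hW⟩ := exists_lift hr (swap_swap_mem hab huv)
  have e1 : ρ (W * X * W⁻¹) = ρ X⁻¹ := by
    rw [map_mul, map_mul, map_inv, map_inv, hW, hX, conj_cyc, cyc_inv hab hai hbi]
    simp only [Perm.mul_apply]
    rw [swap_apply_of_ne_of_ne (Ne.symm hua) (Ne.symm hva), swap_apply_of_ne_of_ne (Ne.symm hub) (Ne.symm hvb),
      swap_apply_of_ne_of_ne (Ne.symm hui) (Ne.symm hvi), swap_apply_left, swap_apply_right,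
      swap_apply_of_ne_of_ne hai.symm hbi.symm]
  obtain ⟨z, hz⟩ : ∃ z, X * (W * X * W⁻¹) = z := ⟨_, rfl⟩
  have hzk : ρ z = 1 := by rw [← hz, map_mul, e1, map_inv, mul_inv_cancel]
  have hWX : W * X * W⁻¹ = X⁻¹ * z := eq_inv_mul_of_mul_eq hz
  obtain ⟨ζ, hζ⟩ : ∃ ζ, X ^ 3 = ζ := ⟨_, rfl⟩
  have hζk : ρ ζ = 1 := by rw [← hζ, map_pow, hX, cyc_pow_three hab hai hbi]
  have zc := comm_of_ker hc hzk
  have ζc := comm_of_ker hc hζk
  have hz3 : z ^ 3 = ζ ^ 2 := by
    have h : W * X ^ 3 * W⁻¹ = (X⁻¹ * z) ^ 3 := by rw [← hWX, conj_pow]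
    rw [((zc X).inv_left).mul_pow, hζ, (ζc W).eq, mul_inv_cancel_right, inv_pow, hζ,
      eq_inv_mul_iff_mul_eq] at h
    rw [← h, pow_two]
  obtain ⟨u', hu'⟩ : ∃ u', z * ζ⁻¹ = u' := ⟨_, rfl⟩
  have uc : ∀ g, Commute g u' := fun g => hu' ▸ (zc g).mul_right (ζc g).inv_right
  have hu'3 : u' ^ 3 = ζ⁻¹ := by
    rw [← hu', ((ζc z).inv_right).mul_pow, hz3]; group
  obtain ⟨Y, hY⟩ : ∃ Y, X * u' = Y := ⟨_, rfl⟩
  have hY3 : Y ^ 3 = 1 := by rw [← hY, (uc X).mul_pow, hζ, hu'3, mul_inv_cancel]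
  obtain ⟨z', hz'⟩ : ∃ z', Y * (W * Y * W⁻¹) = z' := ⟨_, rfl⟩
  have hu'k : ρ u' = 1 := by rw [← hu', map_mul, map_inv, hzk, hζk, inv_one, mul_one]
  have hz'k : ρ z' = 1 := by
    rw [← hz', ← hY, show W * (X * u') * W⁻¹ = W * X * W⁻¹ * (W * u' * W⁻¹) by group,
      map_mul ρ (X * u'), map_mul ρ X, map_mul ρ (W * X * W⁻¹), e1, map_mul ρ (W * u'), map_mul ρ W u',
      hu'k, map_inv, map_inv, mul_one, mul_one, mul_inv_cancel, mul_one, mul_inv_cancel]
  have z'c := comm_of_ker hc hz'k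
  have hWY : W * Y * W⁻¹ = Y⁻¹ * z' := eq_inv_mul_of_mul_eq hz'
  have hz'3 : z' ^ 3 = 1 := by
    have h : W * Y ^ 3 * W⁻¹ = (Y⁻¹ * z') ^ 3 := by rw [← hWY, conj_pow]
    rw [((z'c Y).inv_left).mul_pow, hY3, inv_pow, hY3, mul_one, mul_inv_cancel, inv_one, one_mul] at h
    exact h.symm
  refine ⟨Y * z', by rw [← hY, map_mul, map_mul, hu'k, hz'k, mul_one, mul_one, hX],
    by rw [(z'c Y).mul_pow, hY3, hz'3, one_mul], W, ?_⟩
  calc W * (Y * z') * W⁻¹ = W * Y * W⁻¹ * (W * z' * W⁻¹) := by group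
    _ = Y⁻¹ * z' * z' := by rw [hWY, (z'c W).eq, mul_inv_cancel_right]
    _ = z'⁻¹ * Y⁻¹ * z' ^ 3 := by
        rw [← ((z'c Y⁻¹).inv_right).eq, pow_three']; group
    _ = (Y * z')⁻¹ := by rw [hz'3, mul_one, mul_inv_rev]

theorem IsGoodLift.unique (hc : ρ.ker ≤ Subgroup.center Γ) (hr : ρ.range = alternatingGroup (Fin n))
    (h5 : 5 ≤ n) (h6 : n ≠ 6) (h7 : n ≠ 7) {a b i : Fin n} (hab : a ≠ b) (hai : a ≠ i) (hbi : b ≠ i)
    {T T' : Γ} (hT : IsGoodLift ρ a b i T) (hT' : IsGoodLift ρ a b i T') : T = T' := by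
  obtain ⟨h1, h2, g, h3⟩ := hT
  obtain ⟨h1', h2', g', h3'⟩ := hT'
  obtain ⟨v, hv⟩ : ∃ v, T⁻¹ * T' = v := ⟨_, rfl⟩
  have vc := comm_of_ker hc (z := v) (by rw [← hv, map_mul, map_inv, h1, h1', inv_mul_cancel])
  have hT' : T' = T * v := by rw [← hv, mul_inv_cancel_left]
  subst hT'
  have hv3 : v ^ 3 = 1 := by rwa [(vc T).mul_pow, h2, one_mul] at h2'
  have hcm : Commute (g⁻¹ * g') T := by
    refine commute_of_image hc hr h5 h6 h7 hab hai hbi h1 ?_
    have e := congrArg ρ h3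
    have e' := congrArg ρ h3'
    rw [map_mul, map_mul, map_inv, map_inv, h1] at e
    rw [map_mul, map_mul, map_inv, map_inv, h1'] at e'
    rw [← h1] at e e' ⊢
    rw [h1] at e e' ⊢
    calc ρ (g⁻¹ * g') * cyc a b i
        = (ρ g)⁻¹ * (ρ g' * cyc a b i * (ρ g')⁻¹) * ρ g' := by rw [map_mul, map_inv]; group
      _ = (ρ g)⁻¹ * (cyc a b i)⁻¹ * ρ g' := by rw [e']
      _ = (ρ g)⁻¹ * (ρ g * cyc a b i * (ρ g)⁻¹)⁻¹⁻¹ * ρ g * ((ρ g)⁻¹ * ρ g') * 1 := by rw [e]; group
      _ = _ := by rw [map_mul, map_inv]; group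
  have e1 : g' * T * g'⁻¹ = T⁻¹ := by
    calc g' * T * g'⁻¹ = g * ((g⁻¹ * g') * T) * g'⁻¹ := by group
      _ = g * (T * (g⁻¹ * g')) * g'⁻¹ := by rw [hcm.eq]
      _ = T⁻¹ := by rw [← h3]; group
  rw [show g' * (T * v) * g'⁻¹ = g' * T * g'⁻¹ * (g' * v * g'⁻¹) by group, e1, (vc g').eq,
    mul_inv_cancel_right, mul_inv_rev, ← ((vc T).inv_left.inv_right).eq] at h3'
  have h4 := mul_left_cancel h3'
  have h5' : v * v = 1 := by nth_rw 1 [h4]; exact inv_mul_cancel v
  rw [pow_three, h5', mul_one] at hv3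
  rw [hv3, mul_one]

end Lifts

/-! ### The bound -/

theorem card_ker_le {n : ℕ} (h5 : 5 ≤ n) (h6 : n ≠ 6) (h7 : n ≠ 7) {Γ : Type*} [Group Γ] [Finite Γ]
    {ρ : Γ →* Perm (Fin n)} (hc : ρ.ker ≤ Subgroup.center Γ) (hr : ρ.range = alternatingGroup (Fin n))
    (hd : ρ.ker ≤ commutator Γ) : Nat.card ρ.ker ≤ 2 := by
  classical
  obtain ⟨a, ha⟩ : ∃ a : Fin n, a = ⟨0, by omega⟩ := ⟨_, rfl⟩
  obtain ⟨b, hb⟩ : ∃ b : Fin n, b = ⟨1, by omega⟩ := ⟨_, rfl⟩
  have hab : a ≠ b := by subst ha hb; simp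
  have hex : ∀ i : Fin n, i ≠ a → i ≠ b → ∃ T, IsGoodLift ρ a b i T :=
    fun i h1 h2 => exists_goodLift hc hr h5 hab h1.symm h2.symm
  choose! T hT using hex
  have huniq : ∀ {i : Fin n} {U : Γ}, i ≠ a → i ≠ b → IsGoodLift ρ a b i U → U = T i :=
    fun h1 h2 hU => hU.unique hc hr h5 h6 h7 hab h1.symm h2.symm (hT _ h1 h2)
  let sq : Fin n → Fin n → Γ := fun i j => (T i * T j) ^ 2
  have hker : ∀ i j, i ≠ a → i ≠ b → j ≠ a → j ≠ b → i ≠ j → ρ (sq i j) = 1 := by
    intro i j hia hib hja hjb hij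
    rw [map_pow, map_mul, (hT i hia hib).1, (hT j hja hjb).1,
      cyc_mul_sq hab hia.symm hib.symm hja.symm hjb.symm hij]
  have hsymm : ∀ i j, i ≠ a → i ≠ b → j ≠ a → j ≠ b → i ≠ j → sq j i = sq i j := by
    intro i j hia hib hja hjb hij
    have hz := comm_of_ker hc (hker i j hia hib hja hjb hij) (T i)⁻¹
    calc sq j i = (T i)⁻¹ * sq i j * T i := by simp only [sq, pow_two]; group
      _ = sq i j := by rw [hz.eq, inv_mul_cancel_right]
  have hmove : ∀ i j k l, i ≠ a → i ≠ b → j ≠ a → j ≠ b → i ≠ j → k ≠ a → k ≠ b → l ≠ a → l ≠ b →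
      k ≠ l → ∀ π ∈ alternatingGroup (Fin n), π a = a → π b = b → π i = k → π j = l →
      sq i j = sq k l := by
    intro i j k l hia hib hja hjb hij hka hkb hla hlb hkl π hπ ha' hb' hi' hj'
    obtain ⟨g, hg⟩ := exists_lift hr hπ
    have c1 := (hT i hia hib).conj g
    have c2 := (hT j hja hjb).conj g
    rw [hg, ha', hb', hi'] at c1
    rw [hg, ha', hb', hj'] at c2
    have hz := comm_of_ker hc (hker i j hia hib hja hjb hij) g
    calc sq i j = g * sq i j * g⁻¹ := by rw [hz.eq, mul_inv_cancel_right]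
      _ = (g * T i * g⁻¹ * (g * T j * g⁻¹)) ^ 2 := by simp only [sq, pow_two]; group
      _ = _ := by rw [huniq hka hkb c1, huniq hla hlb c2]
  have hconst : ∀ i j k l, i ≠ a → i ≠ b → j ≠ a → j ≠ b → i ≠ j → k ≠ a → k ≠ b → l ≠ a → l ≠ b →
      k ≠ l → sq i j = sq k l := by
    intro i j k l hia hib hja hjb hij hka hkb hla hlb hkl
    obtain ⟨j', hj'⟩ : ∃ j', swap i k j = j' := ⟨_, rfl⟩
    obtain ⟨π, hπ⟩ : ∃ π, swap j' l * swap i k = π := ⟨_, rfl⟩
    have fixp : ∀ x, x ≠ i → x ≠ k → x ≠ l → x ≠ j → π x = x := by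
      intro x hxi hxk hxl hxj
      have hxj' : x ≠ j' := by
        intro e
        refine hxj ((swap i k).injective ?_)
        rw [hj', swap_apply_of_ne_of_ne hxi hxk, e]
      rw [← hπ, Perm.mul_apply, swap_apply_of_ne_of_ne hxi hxk, swap_apply_of_ne_of_ne hxj' hxl]
    have hk' : k ≠ j' := by
      intro e
      refine hij ((swap i k).injective ?_)
      rw [hj', swap_apply_left, e]
    have hπi : π i = k := by rw [← hπ, Perm.mul_apply, swap_apply_left, swap_apply_of_ne_of_ne hk' hkl]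
    have hπj : π j = l := by rw [← hπ, Perm.mul_apply, hj', swap_apply_left]
    have hπa : π a = a := fixp a hia.symm hka.symm hla.symm hja.symm
    have hπb : π b = b := fixp b hib.symm hkb.symm hlb.symm hjb.symm
    rcases Int.units_eq_one_or (Perm.sign π) with hs | hs
    · exact hmove i j k l hia hib hja hjb hij hka hkb hla hlb hkl π (Perm.mem_alternatingGroup.mpr hs)
        hπa hπb hπi hπj
    · rw [hmove i j l k hia hib hja hjb hij hla hlb hka hkb hkl.symm (swap k l * π)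
        (by rw [Perm.mem_alternatingGroup, map_mul, hs, Perm.sign_swap hkl]; decide)
        (by rw [Perm.mul_apply, hπa, swap_apply_of_ne_of_ne hka.symm hla.symm])
        (by rw [Perm.mul_apply, hπb, swap_apply_of_ne_of_ne hkb.symm hlb.symm])
        (by rw [Perm.mul_apply, hπi, swap_apply_left]) (by rw [Perm.mul_apply, hπj, swap_apply_right])]
      exact hsymm k l hka hkb hla hlb hkl
  obtain ⟨i, j, hi, hj, hij⟩ := exists_two_outside ({a, b} : Finset (Fin n))
    (le_trans (Nat.add_le_add_right Finset.card_le_two 2) (by omega))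
  simp only [Finset.mem_insert, Finset.mem_singleton, not_or] at hi hj
  obtain ⟨z, hz⟩ : ∃ z, sq i j = z := ⟨_, rfl⟩
  have hzk : ρ z = 1 := hz ▸ hker i j hi.1 hi.2 hj.1 hj.2 hij
  have hzc := comm_of_ker hc hzk
  have hz2 : z * z = 1 := by
    obtain ⟨g, hg⟩ := exists_lift hr (swap_swap_mem hab hij)
    have fa : ρ g a = b := by
      rw [hg, Perm.mul_apply, swap_apply_of_ne_of_ne (Ne.symm hi.1) (Ne.symm hj.1), swap_apply_left]
    have fb : ρ g b = a := by
      rw [hg, Perm.mul_apply, swap_apply_of_ne_of_ne (Ne.symm hi.2) (Ne.symm hj.2), swap_apply_right]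
    have fi : ρ g i = j := by
      rw [hg, Perm.mul_apply, swap_apply_left, swap_apply_of_ne_of_ne hj.1 hj.2]
    have fj : ρ g j = i := by
      rw [hg, Perm.mul_apply, swap_apply_right, swap_apply_of_ne_of_ne hi.1 hi.2]
    have c1 := ((hT i hi.1 hi.2).conj g)
    have c2 := ((hT j hj.1 hj.2).conj g)
    rw [fa, fb, fi] at c1
    rw [fa, fb, fj] at c2
    have d1 := huniq hj.1 hj.2 (c1.inv hab.symm (Ne.symm hj.2) (Ne.symm hj.1))
    have d2 := huniq hi.1 hi.2 (c2.inv hab.symm (Ne.symm hi.2) (Ne.symm hi.1))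
    have e : g * z * g⁻¹ = z⁻¹ := by
      rw [← hz]
      calc g * sq i j * g⁻¹ = (g * T i * g⁻¹ * (g * T j * g⁻¹)) ^ 2 := by
            simp only [sq, pow_two]; group
        _ = ((T j)⁻¹ * (T i)⁻¹) ^ 2 := by
            rw [inv_eq_iff_eq_inv.mp d1, inv_eq_iff_eq_inv.mp d2]
        _ = _ := by simp only [sq, pow_two]; group
    rw [(hzc g).eq, mul_inv_cancel_right] at e
    nth_rw 1 [e]; exact inv_mul_cancel z
  -- generation
  obtain ⟨R, hR⟩ : ∃ R : Subgroup Γ, R = Subgroup.closure (T '' {i | i ≠ a ∧ i ≠ b}) := ⟨_, rfl⟩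
  have hRmap : ∀ g : Γ, ∃ r ∈ R, ρ r = ρ g := by
    intro g
    have hg : ρ g ∈ alternatingGroup (Fin n) := hr ▸ ⟨g, rfl⟩
    exact mem_of_cyc_mem hab (H := R.map ρ)
      (fun k h1 h2 => ⟨T k, hR ▸ Subgroup.subset_closure ⟨k, ⟨h1, h2⟩, rfl⟩, (hT k h1 h2).1⟩) hg
  have hRtop : R = ⊤ := by
    have hcom : commutator Γ ≤ R := by
      rw [commutator_def, Subgroup.commutator_le]
      intro x _ y _
      obtain ⟨r, hr', hrx⟩ := hRmap x
      obtain ⟨s, hs', hsy⟩ := hRmap y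
      rw [Cfsg.Lib.Schur.comm_congr ρ hc hrx.symm hsy.symm, commutatorElement_def]
      exact R.mul_mem (R.mul_mem (R.mul_mem hr' hs') (R.inv_mem hr')) (R.inv_mem hs')
    refine eq_top_iff.mpr fun g _ => ?_
    obtain ⟨r, hr', hrg⟩ := hRmap g
    have : r⁻¹ * g ∈ R := hcom (hd (by rw [MonoidHom.mem_ker, map_mul, map_inv, hrg, inv_mul_cancel]))
    simpa using R.mul_mem hr' this
  -- the quotient by `z`
  obtain ⟨N, hN⟩ : ∃ N : Subgroup Γ, N = Subgroup.zpowers z := ⟨_, rfl⟩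
  haveI : N.Normal := Cfsg.Lib.Schur.normal_of_le_center
    (hN ▸ Subgroup.zpowers_le.mpr (hc hzk))
  have hNcard : Nat.card N ≤ 2 := by
    rw [hN, Nat.card_zpowers]
    exact Nat.le_of_dvd (by norm_num) (orderOf_dvd_of_pow_eq_one (by rw [pow_two, hz2]))
  let pt : ℕ → Fin n := fun k => if hk : k + 2 < n then ⟨k + 2, hk⟩ else a
  let X : ℕ → Γ ⧸ N := fun k => ((T (pt k) : Γ) : Γ ⧸ N)
  have hpt : ∀ k < n - 2, pt k ≠ a ∧ pt k ≠ b := by
    intro k hk
    simp only [pt, dif_pos (show k + 2 < n by omega), ha, hb]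
    simp [Fin.ext_iff]
  have hb1 := card_closure_le X (n - 2) (fun k hk => by
      obtain ⟨h1, h2⟩ := hpt k hk
      rw [← QuotientGroup.mk_pow, (hT _ h1 h2).2.1, QuotientGroup.mk_one])
    (fun k hk l hl hkl => by
      obtain ⟨h1, h2⟩ := hpt k hk
      obtain ⟨h3, h4⟩ := hpt l hl
      have hne : pt k ≠ pt l := by
        simp only [pt, dif_pos (show k + 2 < n by omega), dif_pos (show l + 2 < n by omega)]
        simp [Fin.ext_iff, hkl]
      rw [← QuotientGroup.mk_mul, ← QuotientGroup.mk_pow, QuotientGroup.eq_one_iff]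
      have : sq (pt k) (pt l) = z := (hconst _ _ i j h1 h2 h3 h4 hne hi.1 hi.2 hj.1 hj.2 hij).trans hz
      show sq (pt k) (pt l) ∈ N
      rw [this, hN]; exact Subgroup.mem_zpowers z)
  have htop : Subgroup.closure (X '' Set.Iio (n - 2)) = ⊤ := by
    have : R.map (QuotientGroup.mk' N) ≤ Subgroup.closure (X '' Set.Iio (n - 2)) := by
      rw [hR, MonoidHom.map_closure]
      refine Subgroup.closure_mono ?_
      rintro _ ⟨_, ⟨k, ⟨hka, hkb⟩, rfl⟩, rfl⟩
      have hk2 : 2 ≤ (k : ℕ) := by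
        rw [ha] at hka; rw [hb] at hkb
        simp [Fin.ext_iff] at hka hkb
        omega
      refine ⟨k - 2, show (k : ℕ) - 2 < n - 2 by omega, ?_⟩
      have : pt (k - 2) = k := by
        simp only [pt, dif_pos (show (k : ℕ) - 2 + 2 < n by omega)]
        ext; simp; omega
      show ((T (pt (k - 2)) : Γ) : Γ ⧸ N) = _
      rw [this]; rfl
    rw [hRtop, Subgroup.map_top_of_surjective _ (QuotientGroup.mk'_surjective N)] at this
    exact top_le_iff.mp this
  rw [htop, Subgroup.card_top, show n - 2 + 2 = n by omega] at hb1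
  have hA : 2 * Nat.card (alternatingGroup (Fin n)) = n.factorial := by
    haveI : Nontrivial (Fin n) := Fin.nontrivial_iff_two_le.mpr (by omega)
    have := two_mul_card_alternatingGroup (α := Fin n)
    rw [Fintype.card_perm, Fintype.card_fin, ← Nat.card_eq_fintype_card] at this
    exact this
  have h1 : Nat.card Γ = Nat.card (alternatingGroup (Fin n)) * Nat.card ρ.ker := by
    rw [← ρ.ker.card_mul_index, Subgroup.index_ker, hr, mul_comm]
  have h2 : Nat.card Γ = Nat.card (Γ ⧸ N) * Nat.card N := Subgroup.card_eq_card_quotient_mul_card_subgroup N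
  have h3 : Nat.card (Γ ⧸ N) * Nat.card N ≤ Nat.card (Γ ⧸ N) * 2 := Nat.mul_le_mul_left _ hNcard
  have hpos : 0 < Nat.card (alternatingGroup (Fin n)) := Nat.card_pos
  refine Nat.le_of_mul_le_mul_left ?_ hpos
  omega



/-- Degree four. -/
theorem card_ker_le_four {Γ : Type*} [Group Γ] [Finite Γ]
    {ρ : Γ →* Perm (Fin 4)} (hc : ρ.ker ≤ Subgroup.center Γ) (hr : ρ.range = alternatingGroup (Fin 4))
    (hd : ρ.ker ≤ commutator Γ) : Nat.card ρ.ker ≤ 2 := by
  obtain ⟨x, hx⟩ : ∃ x : Perm (Fin 4), x = cyc 0 1 2 := ⟨_, rfl⟩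
  obtain ⟨u, hu⟩ : ∃ u : Perm (Fin 4), u = swap 0 1 * swap 2 3 := ⟨_, rfl⟩
  obtain ⟨v, hv⟩ : ∃ v : Perm (Fin 4), v = swap 0 2 * swap 1 3 := ⟨_, rfl⟩
  have fU : u * u = 1 := by subst hu; decide
  have fUV : u * v = v * u := by subst hu hv; decide
  have fCl : ∀ g : Perm (Fin 4), (g = 1 ∨ g = u ∨ g = v ∨ g = u * v) →
      (x * g * x⁻¹ = 1 ∨ x * g * x⁻¹ = u ∨ x * g * x⁻¹ = v ∨ x * g * x⁻¹ = u * v) := by
    subst hx hu hv; decide +kernel
  have fFix : ∀ g : Perm (Fin 4), (g = 1 ∨ g = u ∨ g = v ∨ g = u * v) → x * g = g * x → g = 1 := by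
    subst hx hu hv; decide +kernel
  have fAll : ∀ g : Perm (Fin 4), Perm.sign g = 1 →
      g = 1 ∨ g = u ∨ g = v ∨ g = u * v ∨ g = x ∨ g = x * u ∨ g = x * v ∨ g = x * (u * v) ∨
      g = x * x ∨ g = x * x * u ∨ g = x * x * v ∨ g = x * x * (u * v) := by
    subst hx hu hv; decide +kernel
  have huA : u ∈ alternatingGroup (Fin 4) := hu ▸ swap_swap_mem (by decide) (by decide)
  have hvA : v ∈ alternatingGroup (Fin 4) := hv ▸ swap_swap_mem (by decide) (by decide)
  have hxA : x ∈ alternatingGroup (Fin 4) := hx ▸ cyc_mem 0 1 2 (by decide) (by decide)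
  obtain ⟨U, hU⟩ := exists_lift hr huA
  obtain ⟨V, hV⟩ := exists_lift hr hvA
  obtain ⟨X, hX⟩ := exists_lift hr hxA
  obtain ⟨ε, hε⟩ : ∃ ε, ⁅U, V⁆ = ε := ⟨_, rfl⟩
  have hεk : ρ ε = 1 := by
    rw [← hε, map_commutatorElement, commutatorElement_eq_one_iff_mul_comm, hU, hV, fUV]
  have hε2 : ε ^ 2 = 1 := hε ▸ Cfsg.Lib.Schur.commutator_lift_pow hc (by rw [hU, pow_two, fU])
    (by rw [commutatorElement_eq_one_iff_mul_comm, hU, hV, fUV])
  obtain ⟨N, hN⟩ : ∃ N : Subgroup Γ, N = Subgroup.zpowers ε := ⟨_, rfl⟩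
  haveI : N.Normal := Cfsg.Lib.Schur.normal_of_le_center
    (hN ▸ Subgroup.zpowers_le.mpr (hc hεk))
  have hNcard : Nat.card N ≤ 2 := by
    rw [hN, Nat.card_zpowers]
    exact Nat.le_of_dvd (by norm_num) (orderOf_dvd_of_pow_eq_one hε2)
  -- the preimage of the four group
  obtain ⟨K, hK⟩ : ∃ K : Subgroup Γ, K = Subgroup.closure ({U, V} ∪ (ρ.ker : Set Γ)) := ⟨_, rfl⟩
  have hKimg : ∀ k ∈ K, ρ k = 1 ∨ ρ k = u ∨ ρ k = v ∨ ρ k = u * v := by
    have f2 : ∀ g h : Perm (Fin 4), (g = 1 ∨ g = u ∨ g = v ∨ g = u * v) →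
        (h = 1 ∨ h = u ∨ h = v ∨ h = u * v) → (g * h = 1 ∨ g * h = u ∨ g * h = v ∨ g * h = u * v) := by
      subst hu hv; decide +kernel
    have f3 : ∀ g : Perm (Fin 4), (g = 1 ∨ g = u ∨ g = v ∨ g = u * v) →
        (g⁻¹ = 1 ∨ g⁻¹ = u ∨ g⁻¹ = v ∨ g⁻¹ = u * v) := by
      subst hu hv; decide +kernel
    intro k hk
    rw [hK] at hk
    induction hk using Subgroup.closure_induction with
    | mem y hy =>
      rcases hy with (rfl | rfl) | hy
      · exact Or.inr (Or.inl hU)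
      · exact Or.inr (Or.inr (Or.inl hV))
      · exact Or.inl hy
    | one => exact Or.inl (map_one ρ)
    | mul y z _ _ iy iz => rw [map_mul]; exact f2 _ _ iy iz
    | inv y _ iy => rw [map_inv]; exact f3 _ iy
  have hUK : U ∈ K := hK ▸ Subgroup.subset_closure (Or.inl (Or.inl rfl))
  have hVK : V ∈ K := hK ▸ Subgroup.subset_closure (Or.inl (Or.inr rfl))
  have hkerK : ∀ k, ρ k = 1 → k ∈ K := fun k hk => hK ▸ Subgroup.subset_closure (Or.inr hk)
  have hpre : ∀ g, (ρ g = 1 ∨ ρ g = u ∨ ρ g = v ∨ ρ g = u * v) → g ∈ K := by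
    intro g hg
    obtain ⟨k, hk, hkg⟩ : ∃ k ∈ K, ρ k = ρ g := by
      rcases hg with e | e | e | e <;> rw [e]
      · exact ⟨1, K.one_mem, map_one ρ⟩
      · exact ⟨U, hUK, hU⟩
      · exact ⟨V, hVK, hV⟩
      · exact ⟨U * V, K.mul_mem hUK hVK, by rw [map_mul, hU, hV]⟩
    simpa using K.mul_mem hk (hkerK (k⁻¹ * g) (by rw [map_mul, map_inv, hkg, inv_mul_cancel]))
  have hXK : ∀ k ∈ K, X * k * X⁻¹ ∈ K := fun k hk => hpre _ (by
    rw [map_mul, map_mul, map_inv, hX]; exact fCl _ (hKimg k hk))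
  have hKcomm : ∀ k ∈ K, ∀ l ∈ K, ⁅k, l⁆ ∈ N := by
    intro k hk l hl
    refine (Cfsg.Lib.Schur.commutator_closure_le (T := {U, V} ∪ (ρ.ker : Set Γ)) (N := N) ?_ ?_)
      (Subgroup.commutator_mem_commutator (hK ▸ hk) (hK ▸ hl))
    · exact fun t _ d hd' => (inferInstance : N.Normal).conj_mem d hd' t
    · intro t ht w hw
      have hε' : ε ∈ N := hN ▸ Subgroup.mem_zpowers ε
      rcases ht with (rfl | rfl) | ht
      · rcases hw with (rfl | rfl) | hw
        · rw [commutatorElement_self]; exact N.one_mem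
        · rw [hε]; exact hε'
        · rw [commutatorElement_eq_one_iff_commute.mpr (comm_of_ker hc hw _)]; exact N.one_mem
      · rcases hw with (rfl | rfl) | hw
        · rw [← commutatorElement_inv, hε]; exact N.inv_mem hε'
        · rw [commutatorElement_self]; exact N.one_mem
        · rw [commutatorElement_eq_one_iff_commute.mpr (comm_of_ker hc hw _)]; exact N.one_mem
      · rw [commutatorElement_eq_one_iff_commute.mpr (comm_of_ker hc ht _).symm]; exact N.one_mem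
  -- the commutators with `X`
  let Aset : Set Γ := {g | ∃ k ∈ K, ∃ m ∈ N, g = ⁅X, k⁆ * m}
  have hprod : ∀ k ∈ K, ∀ l ∈ K, ∃ m ∈ N, ⁅X, k⁆ * ⁅X, l⁆ = ⁅X, k * l⁆ * m := by
    intro k hk l hl
    refine ⟨(⁅X, k⁆ * ⁅k, ⁅X, l⁆⁆ * ⁅X, l⁆)⁻¹ * (⁅X, k⁆ * ⁅X, l⁆), ?_, ?_⟩
    · have hm : ⁅k, ⁅X, l⁆⁆ ∈ N := hKcomm k hk _ (by
        rw [commutatorElement_def]; exact K.mul_mem (hXK l hl) (K.inv_mem hl))
      rw [show (⁅X, k⁆ * ⁅k, ⁅X, l⁆⁆ * ⁅X, l⁆)⁻¹ * (⁅X, k⁆ * ⁅X, l⁆)
        = ⁅X, l⁆⁻¹ * ⁅k, ⁅X, l⁆⁆⁻¹ * ⁅X, l⁆ by group]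
      simpa using (inferInstance : N.Normal).conj_mem _ (N.inv_mem hm) ⁅X, l⁆⁻¹
    · simp only [commutatorElement_def]; group
  let A : Subgroup Γ :=
    { carrier := Aset
      one_mem' := ⟨1, K.one_mem, 1, N.one_mem, by simp⟩
      mul_mem' := by
        rintro _ _ ⟨k, hk, m, hm, rfl⟩ ⟨l, hl, m', hm', rfl⟩
        obtain ⟨r, hr', e⟩ := hprod k hk l hl
        refine ⟨k * l, K.mul_mem hk hl, r * (⁅X, l⁆⁻¹ * m * ⁅X, l⁆) * m', N.mul_mem (N.mul_mem hr'
          (by simpa using (inferInstance : N.Normal).conj_mem m hm ⁅X, l⁆⁻¹)) hm', ?_⟩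
        calc ⁅X, k⁆ * m * (⁅X, l⁆ * m') = ⁅X, k⁆ * ⁅X, l⁆ * (⁅X, l⁆⁻¹ * m * ⁅X, l⁆) * m' := by group
          _ = _ := by rw [e]; group
      inv_mem' := by
        rintro _ ⟨k, hk, m, hm, rfl⟩
        obtain ⟨r, hr', e⟩ := hprod k hk k⁻¹ (K.inv_mem hk)
        rw [mul_inv_cancel, commutatorElement_one_right, one_mul] at e
        refine ⟨k⁻¹, K.inv_mem hk, r⁻¹ * (⁅X, k⁆ * m⁻¹ * ⁅X, k⁆⁻¹),
          N.mul_mem (N.inv_mem hr') ((inferInstance : N.Normal).conj_mem _ (N.inv_mem hm) _), ?_⟩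
        rw [← e]; group }
  have hAK : ∀ g ∈ A, g ∈ K := by
    rintro _ ⟨k, hk, m, hm, rfl⟩
    refine K.mul_mem ?_ (hkerK m ?_)
    · rw [commutatorElement_def]; exact K.mul_mem (hXK k hk) (K.inv_mem hk)
    · rw [hN] at hm
      obtain ⟨i, rfl⟩ := Subgroup.mem_zpowers_iff.mp hm
      rw [map_zpow, hεk, one_zpow]
  have hNA : ∀ m ∈ N, m ∈ A := fun m hm => ⟨1, K.one_mem, m, hm, by simp⟩
  have hgen : Subgroup.closure ({X} ∪ (K : Set Γ)) = ⊤ := by
    refine eq_top_iff.mpr fun g _ => ?_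
    have hg : ρ g ∈ alternatingGroup (Fin 4) := hr ▸ ⟨g, rfl⟩
    have hXm : X ∈ Subgroup.closure ({X} ∪ (K : Set Γ)) := Subgroup.subset_closure (Or.inl rfl)
    have hKm : ∀ k ∈ K, k ∈ Subgroup.closure ({X} ∪ (K : Set Γ)) :=
      fun k hk => Subgroup.subset_closure (Or.inr hk)
    rcases fAll _ (Perm.mem_alternatingGroup.mp hg) with
      e | e | e | e | e | e | e | e | e | e | e | e
    iterate 4 exact hKm g (hpre g (by rw [e]; tauto))
    iterate 4
      have h1 := hKm (X⁻¹ * g) (hpre _ (by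
        rw [map_mul, map_inv, hX, e]; simp only [inv_mul_cancel_left, inv_mul_cancel]; tauto))
      simpa using mul_mem hXm h1
    all_goals
      have h1 := hKm ((X * X)⁻¹ * g) (hpre _ (by
        rw [map_mul, map_inv, map_mul, hX, e]; simp only [inv_mul_cancel_left, inv_mul_cancel]; tauto))
      have h2 := mul_mem (mul_mem hXm hXm) h1
      rwa [mul_inv_cancel_left] at h2
  have hcomA : commutator Γ ≤ A := by
    rw [commutator_def, ← hgen]
    refine Cfsg.Lib.Schur.commutator_closure_le (fun t ht d hd' => ?_) (fun t ht w hw => ?_)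
    · rcases ht with rfl | ht
      · obtain ⟨k, hk, m, hm, rfl⟩ := hd'
        refine ⟨t * k * t⁻¹, hXK k hk, t * m * t⁻¹, (inferInstance : N.Normal).conj_mem m hm t, ?_⟩
        simp only [commutatorElement_def]; group
      · have h1 := hKcomm t ht d (hAK d hd')
        rw [show t * d * t⁻¹ = ⁅t, d⁆ * d by rw [commutatorElement_def]; group]
        exact A.mul_mem (hNA _ h1) hd'
    · rcases ht with rfl | ht
      · rcases hw with rfl | hw
        · rw [commutatorElement_self]; exact A.one_mem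
        · exact ⟨w, hw, 1, N.one_mem, (mul_one _).symm⟩
      · rcases hw with rfl | hw
        · rw [← commutatorElement_inv]; exact A.inv_mem ⟨t, ht, 1, N.one_mem, (mul_one _).symm⟩
        · exact hNA _ (hKcomm t ht w hw)
  have hle : ρ.ker ≤ N := by
    intro g hg
    obtain ⟨k, hk, m, hm, rfl⟩ := hcomA (hd hg)
    have hm1 : ρ m = 1 := by
      rw [hN] at hm
      obtain ⟨i, rfl⟩ := Subgroup.mem_zpowers_iff.mp hm
      rw [map_zpow, hεk, one_zpow]
    rw [MonoidHom.mem_ker, map_mul, hm1, mul_one, map_commutatorElement,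
      commutatorElement_eq_one_iff_mul_comm, hX] at hg
    have hk1 := fFix _ (hKimg k hk) hg
    rw [commutatorElement_eq_one_iff_commute.mpr (comm_of_ker hc hk1 X), one_mul]
    exact hm
  exact (Nat.le_of_dvd Nat.card_pos (Subgroup.card_dvd_of_le hle)).trans hNcard

/-- Schur: the kernel of a stem extension of an alternating group. -/
theorem card_le {n : ℕ} (hn : 4 ≤ n) (h6 : n ≠ 6) (h7 : n ≠ 7) {Γ : Type*} [Group Γ] [Finite Γ]
    (Z : Subgroup Γ) [Z.Normal] (hZc : Z ≤ Subgroup.center Γ) (hZd : Z ≤ commutator Γ)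
    (e : Γ ⧸ Z ≃* alternatingGroup (Fin n)) : Nat.card Z ≤ 2 := by
  obtain ⟨ρ, hρ⟩ : ∃ ρ : Γ →* Perm (Fin n),
      ρ = ((alternatingGroup (Fin n)).subtype.comp e.toMonoidHom).comp (QuotientGroup.mk' Z) := ⟨_, rfl⟩
  have hk : ρ.ker = Z := by
    ext g
    rw [MonoidHom.mem_ker, hρ]
    show ((e (g : Γ ⧸ Z) : alternatingGroup (Fin n)) : Perm (Fin n)) = 1 ↔ _
    rw [OneMemClass.coe_eq_one, map_eq_one_iff e e.injective, QuotientGroup.eq_one_iff]
  have hr : ρ.range = alternatingGroup (Fin n) := by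
    rw [hρ]
    refine le_antisymm ?_ fun g hg => ?_
    · rintro _ ⟨g, rfl⟩; exact (e (g : Γ ⧸ Z)).2
    · obtain ⟨g', hg'⟩ := QuotientGroup.mk'_surjective Z (e.symm ⟨g, hg⟩)
      exact ⟨g', by simp only [MonoidHom.comp_apply, hg']; simp⟩
  rw [← hk] at hZc hZd ⊢
  rcases eq_or_lt_of_le hn with h | h
  · subst h; exact card_ker_le_four hZc hr hZd
  · exact card_ker_le h h6 h7 hZc hr hZd

end Cfsg.Lib.Schur.Alt
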