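import Mathlib
import Cfsg.Prelude.Def_KGroupFacts
import Cfsg.Agent.Schur.Alternating

/-!
Triple covers of the alternating groups of degree six and seven, as permutation groups on 45 points
beside the natural action (found by solving for monomial lifts of the action of degree 15).
-/

set_option autoImplicit false
set_option linter.style.haveILetI false
set_option linter.unusedSectionVars false

namespace Cfsg.Lib.Schur.Triple

open Equiv
open scoped commutatorElement

/-- The images of the points under the five generators. -/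
def table : List (List ℕ) := [
    [5,3,4,7,8,6,0,1,2,21,22,23,35,33,34,40,41,39,16,17,15,27,28,29,43,44,42,9,10,11,24,25,26,38,36,37,14,12,13,19,20,18,32,30,31],
    [23,21,22,33,34,35,40,41,39,16,17,15,11,9,10,12,13,14,3,4,5,38,36,37,30,31,32,7,8,6,43,44,42,18,19,20,2,0,1,28,29,27,26,24,25],
    [15,16,17,42,43,44,27,28,29,3,4,5,36,37,38,30,31,32,21,22,23,24,25,26,18,19,20,39,40,41,0,1,2,12,13,14,33,34,35,6,7,8,9,10,11],
    [36,37,38,9,10,11,24,25,26,42,43,44,6,7,8,18,19,20,39,40,41,0,1,2,12,13,14,33,34,35,27,28,29,30,31,32,21,22,23,15,16,17,3,4,5],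
    [30,31,32,18,19,20,12,13,14,27,28,29,24,25,26,0,1,2,33,34,35,9,10,11,6,7,8,21,22,23,15,16,17,3,4,5,39,40,41,42,43,44,36,37,38]]

/-- A generator as a function. -/
def yFun (k : ℕ) (x : Fin 45) : Fin 45 :=
  ⟨((table.getD k []).getD x x.val) % 45, Nat.mod_lt _ (by norm_num)⟩

theorem yFun_three : ∀ k : Fin 5, ∀ x : Fin 45, yFun k (yFun k (yFun k x)) = x := by decide +kernel

/-- A generator as a permutation. -/
def Y (k : Fin 5) : Perm (Fin 45) where
  toFun := yFun k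
  invFun x := yFun k (yFun k x)
  left_inv x := yFun_three k x
  right_inv x := yFun_three k x

/-- The central element. -/
def zeta : Perm (Fin 45) where
  toFun x := ⟨x.val / 3 * 3 + (x.val + 1) % 3, by omega⟩
  invFun x := ⟨x.val / 3 * 3 + (x.val + 2) % 3, by omega⟩
  left_inv x := by ext; simp only; omega
  right_inv x := by ext; simp only; omega

theorem zeta_three : zeta ^ 3 = 1 := by decide +kernel

theorem zeta_ne : zeta ≠ 1 := by decide +kernel

theorem zeta_comm : ∀ k : Fin 5, Y k * zeta = zeta * Y k := by decide +kernel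

theorem Y_rel : ∀ k l : Fin 5, k ≠ l →
    (Y k * Y l) ^ 2 = 1 ∨ (Y k * Y l) ^ 2 = zeta ∨ (Y k * Y l) ^ 2 = zeta ^ 2 := by decide +kernel

theorem Y_pow_three : ∀ k : Fin 5, Y k ^ 3 = 1 := by decide +kernel

/-- A word for the lift of the second three-cycle. -/
def wY : Perm (Fin 45) := Y 3 * Y 1 * Y 2 * Y 3 * Y 1

theorem Y_eps : ⁅Y 0, wY⁆ = zeta := by decide +kernel

/-- The first coordinate of the generators. -/
def c {n : ℕ} (hn : 6 ≤ n) (k : Fin 5) : Perm (Fin n) :=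
  Cfsg.Lib.Schur.Alt.cyc ⟨0, by omega⟩ ⟨1, by omega⟩
    (if hk : k.val + 2 < n then ⟨k.val + 2, hk⟩ else ⟨0, by omega⟩)

/-- The word in the first coordinate. -/
def wc {n : ℕ} (hn : 6 ≤ n) : Perm (Fin n) := c hn 3 * c hn 1 * c hn 2 * c hn 3 * c hn 1

theorem wc_six : ⁅c (le_refl 6) 0, wc (le_refl 6)⁆ = (1 : Perm (Fin 6)) := by decide +kernel

theorem wc_seven : ⁅c (show 6 ≤ 7 by norm_num) 0, wc (show 6 ≤ 7 by norm_num)⁆ = (1 : Perm (Fin 7)) := by
  decide +kernel

theorem exists_triple (n : ℕ) (h6 : 6 ≤ n) (h7 : n ≤ 7) :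
    ∃ (Γ : Type) (_ : Group Γ) (_ : Finite Γ) (σ : Γ →* alternatingGroup (Fin n)),
      Cfsg.IsStemExtension σ ∧ Nat.card σ.ker = 3 := by
  classical
  have hw : ⁅c h6 0, wc h6⁆ = 1 := by
    interval_cases n
    · exact wc_six
    · exact wc_seven
  let X : ℕ → Perm (Fin n) × Perm (Fin 45) := fun k =>
    if hk : k < 5 then (c h6 ⟨k, hk⟩, Y ⟨k, hk⟩) else 1
  obtain ⟨G, hG⟩ : ∃ G : Subgroup (Perm (Fin n) × Perm (Fin 45)),
      G = Subgroup.closure (X '' Set.Iio (n - 2)) := ⟨_, rfl⟩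
  have hX : ∀ k (hk : k < n - 2), X k = (c h6 ⟨k, by omega⟩, Y ⟨k, by omega⟩) := fun k hk => by
    simp only [X, dif_pos (show k < 5 by omega)]
  have hXG : ∀ k : Fin 5, (k : ℕ) < n - 2 → (c h6 k, Y k) ∈ G := fun k hk => by
    rw [hG]; exact Subgroup.subset_closure ⟨k, hk, hX k hk⟩
  obtain ⟨W, hW⟩ : ∃ W : Perm (Fin n) × Perm (Fin 45), W = (wc h6, wY) := ⟨_, rfl⟩
  have hWG : W ∈ G := by
    have e : W = (c h6 3, Y 3) * (c h6 1, Y 1) * (c h6 2, Y 2) * (c h6 3, Y 3) * (c h6 1, Y 1) := by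
      rw [hW]; rfl
    rw [e]
    repeat' apply mul_mem
    all_goals exact hXG _ (by show _ < n - 2; norm_num; omega)
  obtain ⟨z, hz⟩ : ∃ z : Perm (Fin n) × Perm (Fin 45), z = (1, zeta) := ⟨_, rfl⟩
  have hzeps : z = ⁅(c h6 0, Y 0), W⁆ := by
    rw [hz, hW, commutatorElement_def]
    refine Prod.ext ?_ ?_
    · show 1 = c h6 0 * wc h6 * (c h6 0)⁻¹ * (wc h6)⁻¹
      rw [← commutatorElement_def, hw]
    · show zeta = Y 0 * wY * (Y 0)⁻¹ * wY⁻¹
      rw [← commutatorElement_def, Y_eps]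
  have h0G : (c h6 0, Y 0) ∈ G := hXG 0 (by show (0 : ℕ) < n - 2; omega)
  have hzG : z ∈ G := by
    rw [hzeps, commutatorElement_def]
    exact G.mul_mem (G.mul_mem (G.mul_mem h0G hWG) (G.inv_mem h0G)) (G.inv_mem hWG)
  let ρ : ↥G →* Perm (Fin n) := (MonoidHom.fst _ _).comp G.subtype
  let zz : ↥G := ⟨z, hzG⟩
  have hgen : Subgroup.closure (((↑) : ↥G → _) ⁻¹' (X '' Set.Iio (n - 2))) = ⊤ := by
    subst hG; exact Subgroup.closure_closure_coe_preimage
  have hzc : ∀ g : ↥G, g * zz = zz * g := by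
    intro g
    apply Subtype.ext
    show (g : Perm (Fin n) × Perm (Fin 45)) * z = z * g
    have hle : G ≤ Subgroup.centralizer {z} := by
      rw [hG, Subgroup.closure_le]
      rintro _ ⟨k, hk, rfl⟩
      rw [SetLike.mem_coe, Subgroup.mem_centralizer_singleton_iff, hX k hk, hz]
      exact Prod.ext (by simp) (zeta_comm _)
    exact Subgroup.mem_centralizer_singleton_iff.mp (hle g.2)
  obtain ⟨N, hN⟩ : ∃ N : Subgroup ↥G, N = Subgroup.zpowers zz := ⟨_, rfl⟩
  haveI : N.Normal := Cfsg.Lib.Schur.normal_of_le_center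
    (hN ▸ Subgroup.zpowers_le.mpr (Subgroup.mem_center_iff.mpr hzc))
  have hNcard : Nat.card N = 3 := by
    rw [hN, Nat.card_zpowers, ← Subgroup.orderOf_coe]
    show orderOf z = 3
    refine orderOf_eq_prime ?_ ?_
    · rw [hz]; exact Prod.ext (one_pow 3) zeta_three
    · rw [hz]; exact fun h => zeta_ne (congrArg Prod.snd h)
  have hNker : N ≤ ρ.ker := by
    rw [hN, Subgroup.zpowers_le, MonoidHom.mem_ker]
    show z.1 = 1
    rw [hz]
  -- the image
  have hrange : ρ.range = alternatingGroup (Fin n) := by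
    refine le_antisymm ?_ ?_
    · rintro _ ⟨g, rfl⟩
      have hle : G ≤ (alternatingGroup (Fin n)).comap (MonoidHom.fst _ _) := by
        rw [hG, Subgroup.closure_le]
        rintro _ ⟨k, hk, rfl⟩
        show (X k).1 ∈ alternatingGroup (Fin n)
        have hk' : k + 2 < n := by have : k < n - 2 := hk; omega
        rw [hX k hk]
        simp only [c, dif_pos hk']
        exact Cfsg.Lib.Schur.Alt.cyc_mem _ _ _ (by simp) (by simp [Fin.ext_iff])
      exact hle g.2
    · intro g hg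
      refine Cfsg.Lib.Schur.Alt.mem_of_cyc_mem (a := (⟨0, by omega⟩ : Fin n)) (b := ⟨1, by omega⟩)
        (by simp) (fun i hia hib => ?_) hg
      have hi2 : 2 ≤ (i : ℕ) := by
        simp [Fin.ext_iff] at hia hib
        omega
      have hk5 : (i : ℕ) - 2 < 5 := by omega
      refine ⟨⟨_, hXG ⟨(i : ℕ) - 2, hk5⟩ (by show (i : ℕ) - 2 < n - 2; omega)⟩, ?_⟩
      show c h6 _ = _
      simp only [c, dif_pos (show (i : ℕ) - 2 + 2 < n by omega)]
      congr 1
      ext; simp; omega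
  -- the bound
  let X' : ℕ → ↥G ⧸ N := fun k =>
    if hk : X k ∈ G then ((⟨X k, hk⟩ : ↥G) : ↥G ⧸ N) else 1
  have hXmem : ∀ k < n - 2, X k ∈ G := fun k hk => by
    rw [hG]; exact Subgroup.subset_closure ⟨k, hk, rfl⟩
  have hX' : ∀ k (hk : k < n - 2), X' k = ((⟨X k, hXmem k hk⟩ : ↥G) : ↥G ⧸ N) := fun k hk => by
    simp only [X', dif_pos (hXmem k hk)]
  have hb := Cfsg.Lib.Schur.Alt.card_closure_le X' (n - 2) (fun k hk => by
      rw [hX' k hk, ← QuotientGroup.mk_pow, QuotientGroup.eq_one_iff]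
      suffices h1 : ((⟨X k, hXmem k hk⟩ : ↥G)) ^ 3 = 1 by rw [h1]; exact N.one_mem
      apply Subtype.ext
      show X k ^ 3 = 1
      rw [hX k hk]
      have hk' : (k : ℕ) + 2 < n := by omega
      refine Prod.ext ?_ (Y_pow_three _)
      show c h6 _ ^ 3 = 1
      simp only [c, dif_pos hk']
      exact Cfsg.Lib.Schur.Alt.cyc_pow_three (by simp) (by simp [Fin.ext_iff]) (by simp [Fin.ext_iff]))
    (fun k hk l hl hkl => by
      rw [hX' k hk, hX' l hl, ← QuotientGroup.mk_mul, ← QuotientGroup.mk_pow, QuotientGroup.eq_one_iff, hN]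
      have hk' : (k : ℕ) + 2 < n := by omega
      have hl' : (l : ℕ) + 2 < n := by omega
      have hne : (⟨k, by omega⟩ : Fin 5) ≠ ⟨l, by omega⟩ := by simp [Fin.ext_iff, hkl]
      have e1 : (c h6 ⟨k, by omega⟩ * c h6 ⟨l, by omega⟩) ^ 2 = (1 : Perm (Fin n)) := by
        simp only [c, dif_pos hk', dif_pos hl']
        exact Cfsg.Lib.Schur.Alt.cyc_mul_sq (by simp) (by simp [Fin.ext_iff]) (by simp [Fin.ext_iff])
          (by simp [Fin.ext_iff]) (by simp [Fin.ext_iff]) (by simp [Fin.ext_iff, hkl])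
      have : ∃ j : ℕ, (X k * X l) ^ 2 = z ^ j := by
        rw [hX k hk, hX l hl, hz]
        rcases Y_rel _ _ hne with e | e | e
        · exact ⟨0, by simp [Prod.ext_iff, e1, e]⟩
        · exact ⟨1, by simp [Prod.ext_iff, e1, e]⟩
        · exact ⟨2, by simp [Prod.ext_iff, e1, e]⟩
      obtain ⟨j, hj⟩ := this
      have h2 : ((⟨X k, hXmem k hk⟩ : ↥G) * ⟨X l, hXmem l hl⟩) ^ 2 = zz ^ j := Subtype.ext hj
      rw [h2]
      exact Subgroup.npow_mem_zpowers zz j)
  have htop : Subgroup.closure (X' '' Set.Iio (n - 2)) = ⊤ := by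
    rw [← top_le_iff, ← Subgroup.map_top_of_surjective _ (QuotientGroup.mk'_surjective N), ← hgen,
      MonoidHom.map_closure]
    refine Subgroup.closure_mono ?_
    rintro _ ⟨g, ⟨k, hk, hkg⟩, rfl⟩
    refine ⟨k, hk, ?_⟩
    rw [hX' k hk]
    exact congrArg (QuotientGroup.mk' N) (Subtype.ext hkg : (⟨X k, hXmem k hk⟩ : ↥G) = g)
  rw [htop, Subgroup.card_top, show n - 2 + 2 = n by omega] at hb
  have hA : 2 * Nat.card (alternatingGroup (Fin n)) = n.factorial := by
    haveI : Nontrivial (Fin n) := Fin.nontrivial_iff_two_le.mpr (by omega)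
    have := two_mul_card_alternatingGroup (α := Fin n)
    rw [Fintype.card_perm, Fintype.card_fin, ← Nat.card_eq_fintype_card] at this
    exact this
  have h1 : Nat.card ↥G = Nat.card (alternatingGroup (Fin n)) * Nat.card ρ.ker := by
    rw [← ρ.ker.card_mul_index, Subgroup.index_ker, hrange, mul_comm]
  have h2 : Nat.card ↥G = Nat.card (↥G ⧸ N) * 3 := by
    rw [Subgroup.card_eq_card_quotient_mul_card_subgroup N, hNcard]
  have hker : Nat.card ρ.ker ≤ 3 := by
    refine Nat.le_of_mul_le_mul_left ?_ (Nat.card_pos (α := alternatingGroup (Fin n)))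
    omega
  have hkerN : N = ρ.ker := Subgroup.eq_of_le_of_card_ge hNker (by rw [hNcard]; exact hker)
  let σ : ↥G →* alternatingGroup (Fin n) := ρ.codRestrict _ fun g => hrange ▸ ⟨g, rfl⟩
  have hσker : σ.ker = N := by
    rw [hkerN]
    ext g
    show σ g = 1 ↔ ρ g = 1
    exact Subtype.ext_iff
  refine ⟨↥G, inferInstance, inferInstance, σ, ⟨?_, ?_, ?_⟩, by rw [hσker, hNcard]⟩
  · rintro ⟨g, hg⟩
    rw [← hrange] at hg
    obtain ⟨x, hx⟩ := hg
    exact ⟨x, Subtype.ext hx⟩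
  · rw [hσker, hN, Subgroup.zpowers_le]
    exact Subgroup.mem_center_iff.mpr hzc
  · rw [hσker, hN, Subgroup.zpowers_le]
    have hm : ⁅(⟨_, h0G⟩ : ↥G), (⟨W, hWG⟩ : ↥G)⁆ ∈ commutator ↥G :=
      Subgroup.commutator_mem_commutator (Subgroup.mem_top _) (Subgroup.mem_top _)
    exact (Subtype.ext hzeps.symm : ⁅(⟨_, h0G⟩ : ↥G), (⟨W, hWG⟩ : ↥G)⁆ = zz) ▸ hm

end Cfsg.Lib.Schur.Triple
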