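import Cfsg.Agent.Schur.SylowTransfer
import Cfsg.Agent.Schur.FibreProduct
import Cfsg.Agent.Schur.TripleCover
import Cfsg.Agent.AltCover.Spin
import Cfsg.Agent.Classical.Misc.PSLNine
import Cfsg.Agent.Classical.SL

/-!
The Schur multipliers of the alternating groups of degree six and seven and of `SL₂(9)`.
-/

set_option autoImplicit false
set_option linter.style.haveILetI false
set_option linter.unusedSectionVars false

namespace Cfsg.Lib.Schur.SixSeven

open Equiv
open scoped commutatorElement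

universe u v

section Bound

variable {Γ : Type u} {Q : Type v} [Group Γ] [Group Q] [Finite Γ] {σ : Γ →* Q}

/-- A central `p`-element of the kernel of a stem extension is a product of commutators of any Sylow
subgroup. -/
theorem mem_commutator_sylow_pow {p : ℕ} [hp : Fact p.Prime] (hσ : Cfsg.IsStemExtension σ) {z : Γ}
    (hz : z ∈ σ.ker) {k : ℕ} (hzp : z ^ p ^ k = 1) (S : Sylow p Γ) :
    z ∈ ⁅(S : Subgroup Γ), (S : Subgroup Γ)⁆ := by
  have hc : ∀ g, g * z = z * g := Subgroup.mem_center_iff.mp (hσ.2.1 hz)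
  have hzS : z ∈ (S : Subgroup Γ) := by
    have hP : IsPGroup p (Subgroup.zpowers z) := by
      obtain ⟨j, -, hj⟩ := (Nat.dvd_prime_pow hp.out).mp (orderOf_dvd_of_pow_eq_one hzp)
      exact IsPGroup.of_card (n := j) (by rw [Nat.card_zpowers, hj])
    obtain ⟨T, hT⟩ := hP.exists_le_sylow
    obtain ⟨g, hg⟩ := MulAction.exists_smul_eq Γ T S
    rw [← hg]
    exact ⟨z, hT (Subgroup.mem_zpowers z), by
      show g * z * g⁻¹ = z
      rw [hc, mul_inv_cancel_right]⟩
  let φ : (S : Subgroup Γ) →* Abelianization (S : Subgroup Γ) := Abelianization.of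
  have key : ∀ (i : ℕ) (g₀ : Γ), g₀⁻¹ * z ^ i * g₀ ∈ (S : Subgroup Γ) → g₀⁻¹ * z ^ i * g₀ = z ^ i := by
    intro i g₀ _
    rw [mul_assoc, ← ((show Commute g₀ z from hc g₀).pow_right i).eq, inv_mul_cancel_left]
  have hV := MonoidHom.transfer_eq_pow φ z key
  have h1 : MonoidHom.transfer φ z = 1 :=
    Abelianization.commutator_subset_ker (MonoidHom.transfer φ) (hσ.2.2 hz)
  rw [h1, eq_comm, ← MonoidHom.mem_ker] at hV
  rw [show φ.ker = commutator (S : Subgroup Γ) from Abelianization.ker_of (S : Subgroup Γ)] at hV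
  have hpow : z ^ (S : Subgroup Γ).index ∈ ⁅(S : Subgroup Γ), (S : Subgroup Γ)⁆ := by
    rw [← Subgroup.map_subtype_commutator]
    exact ⟨_, hV, rfl⟩
  have hcop : Nat.Coprime (S : Subgroup Γ).index (p ^ k) :=
    Nat.Coprime.pow_right _ (Nat.Coprime.symm (hp.out.coprime_iff_not_dvd.mpr S.not_dvd_index))
  obtain ⟨m, hm⟩ := exists_pow_eq_self_of_coprime (x := z)
    (Nat.Coprime.of_dvd_right (orderOf_dvd_of_pow_eq_one hzp) hcop)
  rw [← hm]
  exact pow_mem hpow m

/-- A Sylow subgroup whose image lies in the subgroup generated by two elements. -/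
theorem exists_sylow_of_list [Finite Q] {p : ℕ} [Fact p.Prime] (hs : Function.Surjective σ) (a b : Q)
    (L : List Q) (hone : (1 : Q) ∈ L) (hmul : ∀ x ∈ L, ∀ y ∈ L, x * y ∈ L)
    (hsub : ∀ x ∈ L, x ∈ Subgroup.closure {a, b}) (hnd : L.Nodup)
    (hlen : L.length = p ^ (Nat.card Q).factorization p) :
    ∃ S : Sylow p Γ, (S : Subgroup Γ).map σ ≤ Subgroup.closure {a, b} := by
  classical
  let P : Subgroup Q :=
    { carrier := {x | x ∈ L}
      one_mem' := hone
      mul_mem' := fun hx hy => hmul _ hx _ hy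
      inv_mem' := fun {x} hx => by
        have hpow : ∀ j : ℕ, x ^ j ∈ L := fun j => by
          induction j with
          | zero => rw [pow_zero]; exact hone
          | succ j ih => rw [pow_succ]; exact hmul _ ih _ hx
        show x⁻¹ ∈ L
        have e : x⁻¹ = x ^ (orderOf x - 1) := by
          refine inv_eq_of_mul_eq_one_right ?_
          rw [← pow_succ', Nat.sub_add_cancel (orderOf_pos x), pow_orderOf_eq_one]
        rw [e]; exact hpow _ }
  have hcard : Nat.card P = p ^ (Nat.card Q).factorization p := by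
    rw [← hlen, ← List.toFinset_card_of_nodup hnd,
      ← Nat.card_congr (Equiv.subtypeEquivRight (p := fun x => x ∈ L.toFinset) (q := fun x => x ∈ P)
        (fun x => List.mem_toFinset)), Nat.card_eq_fintype_card, Fintype.card_coe]
  obtain ⟨S, hS⟩ := exists_sylow_map_le hs P hcard
  exact ⟨S, fun x hx => hsub x (hS hx)⟩

theorem three_part [Finite Q] (hσ : Cfsg.IsStemExtension σ) (a b : Q) (L : List Q) (hone : (1 : Q) ∈ L)
    (hmul : ∀ x ∈ L, ∀ y ∈ L, x * y ∈ L) (hsub : ∀ x ∈ L, x ∈ Subgroup.closure {a, b}) (hnd : L.Nodup)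
    (hlen : L.length = 3 ^ (Nat.card Q).factorization 3) (ha : a ^ 3 = 1) (hab : a * b = b * a) :
    ∃ c : Γ, c ^ 3 = 1 ∧ ∀ z ∈ σ.ker, ∀ k : ℕ, z ^ 3 ^ k = 1 → z ∈ Subgroup.zpowers c := by
  haveI : Fact (Nat.Prime 3) := ⟨Nat.prime_three⟩
  obtain ⟨S, hS⟩ := exists_sylow_of_list hσ.1 a b L hone hmul hsub hnd hlen
  obtain ⟨A, rfl⟩ := hσ.1 a
  obtain ⟨B, rfl⟩ := hσ.1 b
  have hcom : ⁅σ A, σ B⁆ = 1 := commutatorElement_eq_one_iff_mul_comm.mpr hab
  have hc := Subgroup.mem_center_iff.mp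
    (hσ.2.1 (show σ ⁅A, B⁆ = 1 by rw [map_commutatorElement, hcom]))
  refine ⟨⁅A, B⁆, Cfsg.Lib.Schur.commutator_lift_pow hσ.2.1 ha hcom, fun z hz k hzk => ?_⟩
  have hz' := mem_commutator_sylow_pow hσ hz hzk S
  rw [← Set.image_pair] at hS
  have hle := le_closure_union_ker (σ := σ) hS
  refine (Subgroup.commutator_mono hle hle).trans (commutator_closure_le (fun t _ d hd => ?_)
    fun t ht w hw => ?_) hz'
  · obtain ⟨i, rfl⟩ := Subgroup.mem_zpowers_iff.mp hd
    rw [((show Commute t ⁅A, B⁆ from hc t).zpow_right i).eq, mul_inv_cancel_right]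
    exact hd
  · have hker : ∀ x ∈ (σ.ker : Set Γ), ∀ g : Γ, Commute x g := fun x hx g =>
      (Subgroup.mem_center_iff.mp (hσ.2.1 hx) g).symm
    rcases ht with (rfl | rfl) | ht
    · rcases hw with (rfl | rfl) | hw
      · rw [commutatorElement_self]; exact one_mem _
      · exact Subgroup.mem_zpowers _
      · rw [commutatorElement_eq_one_iff_commute.mpr (hker w hw _).symm]; exact one_mem _
    · rcases hw with (rfl | rfl) | hw
      · rw [← commutatorElement_inv w t]; exact inv_mem (Subgroup.mem_zpowers _)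
      · rw [commutatorElement_self]; exact one_mem _
      · rw [commutatorElement_eq_one_iff_commute.mpr (hker w hw _).symm]; exact one_mem _
    · rw [commutatorElement_eq_one_iff_commute.mpr (hker t ht _)]; exact one_mem _

theorem two_part [Finite Q] (hσ : Cfsg.IsStemExtension σ) (a b : Q) (L : List Q) (hone : (1 : Q) ∈ L)
    (hmul : ∀ x ∈ L, ∀ y ∈ L, x * y ∈ L) (hsub : ∀ x ∈ L, x ∈ Subgroup.closure {a, b}) (hnd : L.Nodup)
    (hlen : L.length = 2 ^ (Nat.card Q).factorization 2) (ha : a ^ 4 = 1) (ha2 : a ^ 2 ≠ 1)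
    (hba : b * a * b⁻¹ = a⁻¹) :
    ∃ c : Γ, c ^ 2 = 1 ∧ ∀ z ∈ σ.ker, ∀ k : ℕ, z ^ 2 ^ k = 1 → z ∈ Subgroup.zpowers c := by
  haveI : Fact (Nat.Prime 2) := ⟨Nat.prime_two⟩
  obtain ⟨S, hS⟩ := exists_sylow_of_list hσ.1 a b L hone hmul hsub hnd hlen
  obtain ⟨A, rfl⟩ := hσ.1 a
  obtain ⟨B, rfl⟩ := hσ.1 b
  obtain ⟨C, hC⟩ : ∃ C, ⁅A, B⁆ = C := ⟨_, rfl⟩
  have hσC : σ C = σ A ^ 2 := by
    rw [← hC, map_commutatorElement, commutatorElement_def, pow_two,
      show σ A * σ B * (σ A)⁻¹ * (σ B)⁻¹ = σ A * (σ B * σ A * (σ B)⁻¹)⁻¹ by group, hba, inv_inv]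
  have hCA : Commute A C := by
    have hw := Subgroup.mem_center_iff.mp (hσ.2.1 (show σ ((A * A)⁻¹ * C) = 1 by
      rw [map_mul, map_inv, map_mul, hσC, pow_two, inv_mul_cancel]))
    rw [← mul_inv_cancel_left (A * A) C]
    exact ((Commute.refl A).mul_right (Commute.refl A)).mul_right (hw A)
  have hBC : B * C * B⁻¹ = C⁻¹ := by
    calc B * C * B⁻¹ = ⁅B * A * B⁻¹, B⁆ := by rw [← hC]; simp only [commutatorElement_def]; group
      _ = ⁅A⁻¹, B⁆ := Cfsg.Lib.Schur.comm_congr σ hσ.2.1 (by rw [map_mul, map_mul, map_inv, map_inv, hba]) rfl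
      _ = A⁻¹ * C⁻¹ * A := by rw [← hC]; simp only [commutatorElement_def]; group
      _ = C⁻¹ := by rw [mul_assoc, ← (hCA.inv_right).eq, inv_mul_cancel_left]
  have hk2 : σ (C ^ 2) = 1 := by rw [map_pow, hσC, ← pow_mul]; exact ha
  have hc2 := Subgroup.mem_center_iff.mp (hσ.2.1 hk2)
  refine ⟨C ^ 2, ?_, fun z hz k hzk => ?_⟩
  · have e : B * C ^ 2 * B⁻¹ = (C ^ 2)⁻¹ := by rw [← conj_pow, hBC, inv_pow]
    rw [hc2 B, mul_inv_cancel_right] at e
    rw [pow_two (C ^ 2)]
    nth_rw 1 [e]; exact inv_mul_cancel _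
  · have hz' := mem_commutator_sylow_pow hσ hz hzk S
    rw [← Set.image_pair] at hS
    have hle := le_closure_union_ker (σ := σ) hS
    have hker : ∀ x ∈ (σ.ker : Set Γ), ∀ g : Γ, Commute x g := fun x hx g =>
      (Subgroup.mem_center_iff.mp (hσ.2.1 hx) g).symm
    have hzC : z ∈ Subgroup.zpowers C := by
      refine (Subgroup.commutator_mono hle hle).trans (commutator_closure_le (fun t ht d hd => ?_)
        fun t ht w hw => ?_) hz'
      · obtain ⟨i, rfl⟩ := Subgroup.mem_zpowers_iff.mp hd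
        rw [← conj_zpow]
        rcases ht with (rfl | rfl) | ht
        · rw [hCA.eq, mul_inv_cancel_right]; exact hd
        · rw [hBC, inv_zpow]; exact inv_mem hd
        · rw [(hker t ht C).eq, mul_inv_cancel_right]; exact hd
      · rcases ht with (rfl | rfl) | ht
        · rcases hw with (rfl | rfl) | hw
          · rw [commutatorElement_self]; exact one_mem _
          · rw [hC]; exact Subgroup.mem_zpowers _
          · rw [commutatorElement_eq_one_iff_commute.mpr (hker w hw _).symm]; exact one_mem _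
        · rcases hw with (rfl | rfl) | hw
          · rw [← commutatorElement_inv w t, hC]; exact inv_mem (Subgroup.mem_zpowers _)
          · rw [commutatorElement_self]; exact one_mem _
          · rw [commutatorElement_eq_one_iff_commute.mpr (hker w hw _).symm]; exact one_mem _
        · rw [commutatorElement_eq_one_iff_commute.mpr (hker t ht _)]; exact one_mem _
    obtain ⟨i, rfl⟩ := Subgroup.mem_zpowers_iff.mp hzC
    have hi : (σ A ^ 2) ^ i = 1 := by rw [← hσC, ← map_zpow]; exact hz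
    have ho : orderOf (σ A ^ 2) = 2 := orderOf_eq_prime (by rw [← pow_mul]; exact ha) ha2
    obtain ⟨j, rfl⟩ := (orderOf_dvd_iff_zpow_eq_one.mpr hi)
    rw [ho, zpow_mul, zpow_natCast]
    exact Subgroup.zpow_mem_zpowers _ j

theorem card_dvd_six [Finite Q] (hσ : Cfsg.IsStemExtension σ)
    (h2 : ∃ c : Γ, c ^ 2 = 1 ∧ ∀ z ∈ σ.ker, ∀ k : ℕ, z ^ 2 ^ k = 1 → z ∈ Subgroup.zpowers c)
    (h3 : ∃ c : Γ, c ^ 3 = 1 ∧ ∀ z ∈ σ.ker, ∀ k : ℕ, z ^ 3 ^ k = 1 → z ∈ Subgroup.zpowers c)
    (hbig : ∀ p : ℕ, p.Prime → p ≠ 2 → p ≠ 3 → ¬ p ^ 2 ∣ Nat.card Q) :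
    IsCyclic σ.ker ∧ Nat.card σ.ker ∣ 6 := by
  classical
  have hone : ∀ p : ℕ, p.Prime → (∃ c : Γ, c ^ p = 1 ∧
      ∀ z ∈ σ.ker, ∀ k : ℕ, z ^ p ^ k = 1 → z ∈ Subgroup.zpowers c) →
      (Nat.card σ.ker).factorization p ≤ 1 := by
    rintro p hp ⟨c, hc, hall⟩
    haveI := Fact.mk hp
    obtain ⟨P⟩ : Nonempty (Sylow p σ.ker) := inferInstance
    have hle : (P : Subgroup σ.ker).map σ.ker.subtype ≤ Subgroup.zpowers c := by
      rintro _ ⟨x, hx, rfl⟩
      obtain ⟨k, hk⟩ := P.isPGroup' ⟨x, hx⟩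
      exact hall _ x.2 k (congrArg (fun y : (P : Subgroup σ.ker) => ((y : σ.ker) : Γ)) hk)
    have hd := (Subgroup.card_dvd_of_le hle).trans
      ((Nat.card_zpowers c).symm ▸ orderOf_dvd_of_pow_eq_one hc)
    rw [← Nat.card_congr ((P : Subgroup σ.ker).equivMapOfInjective _ σ.ker.subtype_injective).toEquiv,
      P.card_eq_multiplicity] at hd
    exact (Nat.pow_dvd_pow_iff_le_right hp.one_lt).mp (by rwa [pow_one])
  have hdvd : Nat.card σ.ker ∣ 6 := by
    rw [← Nat.factorization_le_iff_dvd Nat.card_pos.ne' (by norm_num)]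
    intro q
    by_cases hq : q.Prime
    swap
    · rw [Nat.factorization_eq_zero_of_not_prime _ hq]; exact Nat.zero_le _
    by_cases hd : q ∣ Nat.card σ.ker
    swap
    · rw [Nat.factorization_eq_zero_of_not_dvd hd]; exact Nat.zero_le _
    by_cases h2q : q = 2
    · subst h2q
      exact (hone 2 hq h2).trans (hq.factorization_pos_of_dvd (by norm_num) (by norm_num))
    by_cases h3q : q = 3
    · subst h3q
      exact (hone 3 hq h3).trans (hq.factorization_pos_of_dvd (by norm_num) (by norm_num))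
    exfalso
    haveI := Fact.mk hq
    obtain ⟨z, hz⟩ := exists_prime_orderOf_dvd_card' q hd
    have hzp : (z : Γ) ^ q = 1 := by rw [← Subgroup.coe_pow, ← hz, pow_orderOf_eq_one, Subgroup.coe_one]
    obtain ⟨S, hS⟩ := exists_sylow_cyclic hσ (hbig q hq h2q h3q)
    have h1 := hS z z.2 (mem_commutator_sylow hσ z.2 hzp S)
    rw [show z = 1 from Subtype.ext h1, orderOf_one] at hz
    exact hq.one_lt.ne hz
  refine ⟨?_, hdvd⟩
  have hcases : Nat.card σ.ker = 1 ∨ Nat.card σ.ker = 2 ∨ Nat.card σ.ker = 3 ∨ Nat.card σ.ker = 6 := by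
    have := Nat.le_of_dvd (by norm_num) hdvd
    have := Nat.card_pos (α := σ.ker)
    interval_cases (Nat.card σ.ker) <;> omega
  rcases hcases with e | e | e | e
  · haveI := (Nat.card_eq_one_iff_unique.mp e).1
    infer_instance
  · exact isCyclic_of_prime_card (hp := ⟨Nat.prime_two⟩) e
  · exact isCyclic_of_prime_card (hp := ⟨Nat.prime_three⟩) e
  · obtain ⟨x, hx⟩ := exists_prime_orderOf_dvd_card' (G := σ.ker) 2 (hp := ⟨Nat.prime_two⟩) (by rw [e]; norm_num)
    obtain ⟨y, hy⟩ := exists_prime_orderOf_dvd_card' (G := σ.ker) 3 (hp := ⟨Nat.prime_three⟩) (by rw [e]; norm_num)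
    refine isCyclic_of_orderOf_eq_card (x * y) ?_
    rw [(show Commute x y from Subtype.ext (Subgroup.mem_center_iff.mp (hσ.2.1 y.2) x)).orderOf_mul_eq_mul_orderOf_of_coprime
      (by rw [hx, hy]; norm_num), hx, hy, e]

end Bound

/-! ### Degrees six and seven -/

section Data

variable {n : ℕ} (hn : 6 ≤ n)

/-- The generators of the Sylow subgroups, as permutations. -/
def pa : Perm (Fin n) :=
  Cfsg.Lib.Schur.Alt.cyc ⟨0, by omega⟩ ⟨1, by omega⟩ ⟨2, by omega⟩ *
    (swap ⟨2, by omega⟩ ⟨3, by omega⟩ * swap ⟨4, by omega⟩ ⟨5, by omega⟩)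

/-- An involution inverting `pa`. -/
def pb : Perm (Fin n) := swap ⟨0, by omega⟩ ⟨2, by omega⟩ * swap ⟨4, by omega⟩ ⟨5, by omega⟩

theorem pa_mem : pa hn ∈ alternatingGroup (Fin n) :=
  mul_mem (Cfsg.Lib.Schur.Alt.cyc_mem _ _ _ (by simp) (by simp [Fin.ext_iff]))
    (Cfsg.Lib.Schur.Alt.swap_swap_mem (by simp [Fin.ext_iff]) (by simp [Fin.ext_iff]))

theorem pb_mem : pb hn ∈ alternatingGroup (Fin n) :=
  Cfsg.Lib.Schur.Alt.swap_swap_mem (by simp [Fin.ext_iff]) (by simp [Fin.ext_iff])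

/-- Sylow generator. -/
def ga : alternatingGroup (Fin n) := ⟨pa hn, pa_mem hn⟩

/-- Sylow generator. -/
def gb : alternatingGroup (Fin n) := ⟨pb hn, pb_mem hn⟩

/-- Sylow generator. -/
def gu : alternatingGroup (Fin n) :=
  ⟨Cfsg.Lib.Schur.Alt.cyc ⟨0, by omega⟩ ⟨1, by omega⟩ ⟨2, by omega⟩,
    Cfsg.Lib.Schur.Alt.cyc_mem _ _ _ (by simp) (by simp [Fin.ext_iff])⟩

/-- Sylow generator. -/
def gv : alternatingGroup (Fin n) :=
  ⟨Cfsg.Lib.Schur.Alt.cyc ⟨3, by omega⟩ ⟨4, by omega⟩ ⟨5, by omega⟩,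
    Cfsg.Lib.Schur.Alt.cyc_mem _ _ _ (by simp [Fin.ext_iff]) (by simp [Fin.ext_iff])⟩

/-- The dihedral Sylow subgroup. -/
def l2 : List (alternatingGroup (Fin n)) :=
  [1, ga hn, ga hn * ga hn, ga hn * (ga hn * ga hn), gb hn, gb hn * ga hn, gb hn * (ga hn * ga hn),
    gb hn * (ga hn * (ga hn * ga hn))]

/-- The Sylow 3-subgroup. -/
def l3 : List (alternatingGroup (Fin n)) :=
  [1, gu hn, gu hn * gu hn, gv hn, gu hn * gv hn, gu hn * gu hn * gv hn, gv hn * gv hn,
    gu hn * (gv hn * gv hn), gu hn * gu hn * (gv hn * gv hn)]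

/-- Everything to be checked. -/
def ok : Prop :=
  ((∀ x ∈ l2 hn, ∀ y ∈ l2 hn, x * y ∈ l2 hn) ∧ (l2 hn).Nodup ∧ ga hn ^ 4 = 1 ∧ ga hn ^ 2 ≠ 1 ∧
    gb hn * ga hn * (gb hn)⁻¹ = (ga hn)⁻¹) ∧
  (∀ x ∈ l3 hn, ∀ y ∈ l3 hn, x * y ∈ l3 hn) ∧ (l3 hn).Nodup ∧ gu hn ^ 3 = 1 ∧
    gu hn * gv hn = gv hn * gu hn

theorem l2_sub : ∀ x ∈ l2 hn, x ∈ Subgroup.closure {ga hn, gb hn} := by
  have ha : ga hn ∈ Subgroup.closure {ga hn, gb hn} := Subgroup.subset_closure (by simp)
  have hb : gb hn ∈ Subgroup.closure {ga hn, gb hn} := Subgroup.subset_closure (by simp)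
  intro x hx
  simp only [l2, List.mem_cons, List.not_mem_nil, or_false] at hx
  rcases hx with rfl | rfl | rfl | rfl | rfl | rfl | rfl | rfl
  · exact one_mem _
  all_goals repeat' apply mul_mem
  all_goals assumption

theorem l3_sub : ∀ x ∈ l3 hn, x ∈ Subgroup.closure {gu hn, gv hn} := by
  have ha : gu hn ∈ Subgroup.closure {gu hn, gv hn} := Subgroup.subset_closure (by simp)
  have hb : gv hn ∈ Subgroup.closure {gu hn, gv hn} := Subgroup.subset_closure (by simp)
  intro x hx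
  simp only [l3, List.mem_cons, List.not_mem_nil, or_false] at hx
  rcases hx with rfl | rfl | rfl | rfl | rfl | rfl | rfl | rfl | rfl
  · exact one_mem _
  all_goals repeat' apply mul_mem
  all_goals assumption

end Data

set_option maxHeartbeats 4000000 in
theorem ok_six : ok (le_refl 6) := by
  unfold ok; refine ⟨⟨?_, ?_, ?_, ?_, ?_⟩, ?_, ?_, ?_, ?_⟩ <;> decide +kernel

set_option maxHeartbeats 4000000 in
theorem ok_seven : ok (show 6 ≤ 7 by norm_num) := by
  unfold ok; refine ⟨⟨?_, ?_, ?_, ?_, ?_⟩, ?_, ?_, ?_, ?_⟩ <;> decide +kernel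

theorem bound {n : ℕ} (h6 : 6 ≤ n) (h7 : n ≤ 7) {Γ : Type u} [Group Γ] [Finite Γ]
    (σ : Γ →* alternatingGroup (Fin n)) (hσ : Cfsg.IsStemExtension σ) :
    IsCyclic σ.ker ∧ Nat.card σ.ker ∣ 6 := by
  obtain ⟨⟨m2, n2, a4, a2, ab⟩, m3, n3, u3, uv⟩ : ok h6 := by
    interval_cases n
    · exact ok_six
    · exact ok_seven
  have hcard : 2 * Nat.card (alternatingGroup (Fin n)) = n.factorial := by
    haveI : Nontrivial (Fin n) := Fin.nontrivial_iff_two_le.mpr (by omega)
    have := two_mul_card_alternatingGroup (α := Fin n)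
    rw [Fintype.card_perm, Fintype.card_fin, ← Nat.card_eq_fintype_card] at this
    exact this
  have hval : Nat.card (alternatingGroup (Fin n)) = 360 ∨ Nat.card (alternatingGroup (Fin n)) = 2520 := by
    interval_cases n <;> simp only [Nat.factorial] at hcard <;> omega
  have fac : ∀ (p v m : ℕ), p.Prime → Nat.card (alternatingGroup (Fin n)) = p ^ v * m → ¬ p ∣ m →
      (Nat.card (alternatingGroup (Fin n))).factorization p = v := fun p v m hp e hm => by
    rw [e, Nat.factorization_mul (pow_ne_zero v hp.ne_zero) (fun e0 => hm (by rw [e0]; exact dvd_zero p)),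
      Finsupp.add_apply, Nat.Prime.factorization_pow hp, Finsupp.single_eq_same,
      Nat.factorization_eq_zero_of_not_dvd hm, add_zero]
  refine card_dvd_six hσ
    (two_part hσ (ga h6) (gb h6) (l2 h6) (by simp [l2]) m2 (l2_sub h6) n2 ?_ a4 a2 ab)
    (three_part hσ (gu h6) (gv h6) (l3 h6) (by simp [l3]) m3 (l3_sub h6) n3 ?_ u3 uv) ?_
  · rcases hval with e | e
    · rw [fac 2 3 45 Nat.prime_two (by rw [e]; norm_num) (by norm_num)]; rfl
    · rw [fac 2 3 315 Nat.prime_two (by rw [e]; norm_num) (by norm_num)]; rfl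
  · rcases hval with e | e
    · rw [fac 3 2 40 Nat.prime_three (by rw [e]; norm_num) (by norm_num)]; rfl
    · rw [fac 3 2 280 Nat.prime_three (by rw [e]; norm_num) (by norm_num)]; rfl
  · intro p hp hp2 hp3 hd
    have hle := Nat.le_of_dvd Nat.card_pos hd
    have hp50 : p ≤ 50 := by rcases hval with e | e <;> rw [e] at hle <;> nlinarith
    rcases hval with e | e <;> rw [e] at hd <;> (have := hp.two_le; interval_cases p <;> first | omega | (norm_num at hp) | (norm_num at hd))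

theorem exists_six {n : ℕ} (h6 : 6 ≤ n) (h7 : n ≤ 7) :
    ∃ (Γ : Type) (_ : Group Γ) (_ : Finite Γ) (σ : Γ →* alternatingGroup (Fin n)),
      Cfsg.IsStemExtension σ ∧ Nat.card σ.ker = 6 := by
  obtain ⟨Γ₂, hG₂, hF₂, z, hz, hzo, hzd, hzn, ⟨e⟩⟩ := Cfsg.Lib.AltCover.double_cover n (by omega)
  obtain ⟨Γ₃, hG₃, hF₃, σ₃, hσ₃, hk₃⟩ := Cfsg.Lib.Schur.Triple.exists_triple n h6 h7
  let σ₂ : Γ₂ →* alternatingGroup (Fin n) := e.toMonoidHom.comp (QuotientGroup.mk' _)
  have hk : σ₂.ker = Subgroup.zpowers z := by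
    ext x
    show e (x : Γ₂ ⧸ Subgroup.zpowers z) = 1 ↔ _
    rw [map_eq_one_iff e e.injective, QuotientGroup.eq_one_iff]
  have hk₂ : Nat.card σ₂.ker = 2 := by rw [hk, Nat.card_zpowers, hzo]
  have hσ₂ : Cfsg.IsStemExtension σ₂ := ⟨e.surjective.comp (QuotientGroup.mk'_surjective _),
    hk ▸ Subgroup.zpowers_le.mpr hz, hk ▸ Subgroup.zpowers_le.mpr hzd⟩
  obtain ⟨Δ, π, -, hσ, -, hc⟩ := Cfsg.Lib.Schur.exists_fibre_stem σ₂ σ₃ hσ₂ hσ₃ (by rw [hk₂, hk₃]; norm_num)
  exact ⟨↥Δ, inferInstance, inferInstance, σ₂.comp π, hσ, by rw [hc, hk₂, hk₃]⟩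

theorem multiplier_alt {n : ℕ} (hn : n = 6 ∨ n = 7) :
    Cfsg.HasCyclicSchurMultiplier (alternatingGroup (Fin n)) 6 := by
  obtain ⟨Γ, hG, hF, σ, hσ, hc⟩ := exists_six (n := n) (by omega) (by omega)
  exact Cfsg.Lib.Schur.hasCyclicSchurMultiplier_of 6
    ⟨Γ, hG, hF, σ, hσ, (bound (by omega) (by omega) σ hσ).1, hc⟩
    fun Δ _ _ τ hτ => bound (by omega) (by omega) τ hτ

theorem multiplier_sl_two_nine {F : Type u} [Field F] [Fintype F] (hF : Fintype.card F = 9) :
    Cfsg.HasCyclicSchurMultiplier (Matrix.SpecialLinearGroup (Fin 2) F) 3 := by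
  classical
  obtain ⟨e⟩ := Cfsg.Lib.Classical.PSLNine.psl_nine hF
  let q : Matrix.SpecialLinearGroup (Fin 2) F →* alternatingGroup (Fin 6) :=
    e.toMonoidHom.comp (QuotientGroup.mk' _)
  have hk : q.ker = Subgroup.center (Matrix.SpecialLinearGroup (Fin 2) F) := by
    ext x
    show e (x : Matrix.ProjectiveSpecialLinearGroup (Fin 2) F) = 1 ↔ _
    rw [map_eq_one_iff e e.injective, QuotientGroup.eq_one_iff]
  have hqs : Function.Surjective q := e.surjective.comp (QuotientGroup.mk'_surjective _)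
  have hperf : commutator (Matrix.SpecialLinearGroup (Fin 2) F) = ⊤ := by
    obtain ⟨a, ha⟩ : ∃ a : F, a ∉ ({0, 1, -1} : Finset F) := by
      by_contra h
      simp only [not_exists, not_not] at h
      have h1 := Finset.card_le_card (s := (Finset.univ : Finset F)) fun a _ => h a
      have h2 := Finset.card_le_three (a := (0 : F)) (b := 1) (c := -1)
      rw [Finset.card_univ, hF] at h1
      omega
    simp only [Finset.mem_insert, Finset.mem_singleton, not_or] at ha
    exact Matrix.SL2.commutator_eq_top ha.1 fun h =>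
      (sq_eq_one_iff.mp h).elim ha.2.1 ha.2.2
  have hk2 : Nat.card q.ker = 2 := by
    rw [hk, Cfsg.Lib.Classical.card_center_SL, Nat.card_eq_fintype_card, hF]; rfl
  have hq : Cfsg.IsStemExtension q := ⟨hqs, hk.le, hperf ▸ le_top⟩
  refine Cfsg.Lib.Schur.hasCyclicSchurMultiplier_of 3 ?_ ?_
  · obtain ⟨Γ₃, hG₃, hF₃, σ₃, hσ₃, hk₃⟩ := Cfsg.Lib.Schur.Triple.exists_triple 6 le_rfl (by norm_num)
    obtain ⟨Δ, π, hπ, -, hc, -⟩ := Cfsg.Lib.Schur.exists_fibre_stem q σ₃ hq hσ₃ (by rw [hk2, hk₃]; norm_num)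
    exact ⟨↥Δ, inferInstance, inferInstance, π, hπ,
      isCyclic_of_prime_card (hp := ⟨Nat.prime_three⟩) (hc.trans hk₃), hc.trans hk₃⟩
  · intro Δ _ _ τ hτ
    obtain ⟨hs, hc, hd⟩ := hτ
    have hperfΔ : commutator Δ = ⊤ := by
      refine eq_top_iff.mpr fun g _ => ?_
      have hg : τ g ∈ (commutator Δ).map τ := by
        rw [commutator_def, Subgroup.map_commutator, Subgroup.map_top_of_surjective τ hs, ← commutator_def,
          hperf]
        exact Subgroup.mem_top _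
      obtain ⟨d, hdm, hdg⟩ := hg
      have : d⁻¹ * g ∈ τ.ker := by rw [MonoidHom.mem_ker, map_mul, map_inv, hdg, inv_mul_cancel]
      simpa using (commutator Δ).mul_mem hdm (hd this)
    have hcen : (q.comp τ).ker ≤ Subgroup.center Δ := by
      intro k hkk
      have hkc : τ k ∈ Subgroup.center (Matrix.SpecialLinearGroup (Fin 2) F) := hk ▸ hkk
      have hker : ∀ g, ⁅k, g⁆ ∈ τ.ker := fun g => by
        rw [MonoidHom.mem_ker, map_commutatorElement, commutatorElement_eq_one_iff_mul_comm]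
        exact ((Subgroup.mem_center_iff.mp hkc) (τ g)).symm
      let φ : Δ →* Δ := MonoidHom.mk' (fun g => ⁅k, g⁆) fun g h => by
        show ⁅k, g * h⁆ = ⁅k, g⁆ * ⁅k, h⁆
        rw [show ⁅k, g * h⁆ = ⁅k, g⁆ * (g * ⁅k, h⁆ * g⁻¹) by simp only [commutatorElement_def]; group,
          Subgroup.mem_center_iff.mp (hc (hker h)) g, mul_inv_cancel_right]
      have hφ : commutator Δ ≤ φ.ker := by
        rw [commutator_def, Subgroup.commutator_le]
        intro a _ b _
        rw [MonoidHom.mem_ker, map_commutatorElement, commutatorElement_eq_one_iff_mul_comm]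
        exact (Subgroup.mem_center_iff.mp (hc (hker a)) (φ b)).symm
      rw [Subgroup.mem_center_iff]
      intro g
      have hg : φ g = 1 := hφ (hperfΔ ▸ Subgroup.mem_top g)
      exact (commutatorElement_eq_one_iff_mul_comm.mp hg).symm
    have hσ : Cfsg.IsStemExtension (q.comp τ) := ⟨MonoidHom.coe_comp q τ ▸ hqs.comp hs, hcen, hperfΔ ▸ le_top⟩
    obtain ⟨hcyc, hdvd⟩ := bound le_rfl (by norm_num) (q.comp τ) hσ
    have hle : τ.ker ≤ (q.comp τ).ker := fun x hx => by
      rw [MonoidHom.mem_ker] at hx ⊢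
      rw [MonoidHom.comp_apply, hx, map_one]
    refine ⟨?_, ?_⟩
    · haveI := hcyc
      exact isCyclic_of_injective (Subgroup.inclusion hle) (Subgroup.inclusion_injective hle)
    · have hmul : Nat.card τ.ker * Nat.card q.ker = Nat.card (q.comp τ).ker := by
        have h1 := τ.ker.card_mul_index
        have h2 := (q.comp τ).ker.card_mul_index
        have h3 := q.ker.card_mul_index
        rw [Subgroup.index_ker, MonoidHom.range_eq_top.mpr hs, Subgroup.card_top] at h1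
        rw [Subgroup.index_ker, MonoidHom.range_eq_top.mpr (show Function.Surjective ⇑(q.comp τ) from MonoidHom.coe_comp q τ ▸ hqs.comp hs), Subgroup.card_top] at h2
        rw [Subgroup.index_ker, MonoidHom.range_eq_top.mpr hqs, Subgroup.card_top] at h3
        rw [← h2, ← h3, ← mul_assoc] at h1
        exact Nat.eq_of_mul_eq_mul_right Nat.card_pos h1
      rw [← hmul, hk2] at hdvd
      exact Nat.dvd_of_mul_dvd_mul_right (by norm_num : 0 < 2) (hdvd : Nat.card τ.ker * 2 ∣ 3 * 2)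

end Cfsg.Lib.Schur.SixSeven
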