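import Cfsg.Agent.Schur.Basic

set_option autoImplicit false

namespace Cfsg.Lib.Schur

open scoped commutatorElement

universe u v w

variable {Q : Type u} [Group Q]

/-- Surjection from `ZMod n` onto a cyclic group of order dividing `n`. -/
theorem exists_zmod_surj {K : Type w} [Group K] [IsCyclic K] {n : ℕ} (h : Nat.card K ∣ n) :
    ∃ π : Multiplicative (ZMod n) →* K, Function.Surjective π := by
  obtain ⟨g, hg⟩ := IsCyclic.exists_generator (α := K)
  have hn : g ^ n = 1 := by
    rw [← orderOf_dvd_iff_pow_eq_one, orderOf_eq_card_of_forall_mem_zpowers hg]; exact h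
  refine ⟨AddMonoidHom.toMultiplicativeLeft (ZMod.lift n ⟨zmultiplesHom _ (Additive.ofMul g), ?_⟩),
    fun x => ?_⟩
  · simp [← ofMul_pow, hn]
  · obtain ⟨i, hi⟩ := Subgroup.mem_zpowers_iff.mp (hg x)
    refine ⟨Multiplicative.ofAdd (i : ZMod n), ?_⟩
    simpa [← ofMul_zpow] using hi

theorem hasCyclicSchurMultiplier_of [Finite Q] (n : ℕ)
    (hex : ∃ (Γ : Type u) (_ : Group Γ) (_ : Finite Γ) (σ : Γ →* Q),
      Cfsg.IsStemExtension σ ∧ IsCyclic σ.ker ∧ Nat.card σ.ker = n)
    (hall : ∀ (Γ : Type u) [Group Γ] [Finite Γ] (σ : Γ →* Q), Cfsg.IsStemExtension σ →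
      IsCyclic σ.ker ∧ Nat.card σ.ker ∣ n) :
    Cfsg.HasCyclicSchurMultiplier Q n := by
  refine ⟨?_, fun Γ _ _ σ hσ => ?_⟩
  · obtain ⟨Γ, hG, hF, σ, hσ, hc, hn⟩ := hex
    refine ⟨Γ, hG, hF, σ, hσ, ⟨mulEquivOfCyclicCardEq ?_⟩⟩
    rw [hn, Nat.card_congr Multiplicative.toAdd, Nat.card_zmod]
  · obtain ⟨hc, hd⟩ := hall Γ σ hσ
    exact exists_zmod_surj hd

theorem hasCyclicSchurMultiplier_one_of [Finite Q]
    (hall : ∀ (Γ : Type u) [Group Γ] [Finite Γ] (σ : Γ →* Q), Cfsg.IsStemExtension σ → σ.ker = ⊥) :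
    Cfsg.HasCyclicSchurMultiplier Q 1 := by
  refine hasCyclicSchurMultiplier_of 1 ⟨Q, inferInstance, inferInstance, MonoidHom.id Q,
    ⟨Function.surjective_id, by simp, by simp⟩, ?_, by simp⟩ fun Γ _ _ σ hσ => ?_
  · have : Subsingleton (MonoidHom.id Q).ker := by
      rw [MonoidHom.ker_id]; infer_instance
    infer_instance
  · rw [hall Γ σ hσ]
    exact ⟨inferInstance, by simp⟩

theorem subsingleton_zmod_one : Subsingleton (Multiplicative (ZMod 1)) :=
  Multiplicative.ofAdd.symm.subsingleton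

/-- A group with trivial multiplier has no non-trivial stem extension. -/
theorem ker_eq_bot_of_hasCyclicSchurMultiplier_one [Finite Q]
    (h : Cfsg.HasCyclicSchurMultiplier Q 1) {Γ : Type w} [Group Γ] {σ : Γ →* Q}
    (hσ : Cfsg.IsStemExtension σ) : σ.ker = ⊥ := by
  obtain ⟨e⟩ := (hasSchurMultiplier_iff (canon_surjective Q)).mp h
  obtain ⟨f, hf⟩ := exists_surj hσ (canon_surjective Q)
  have := subsingleton_zmod_one
  have : Subsingleton (M (canon Q)) := e.symm.toEquiv.subsingleton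
  have : Subsingleton σ.ker := hf.subsingleton
  exact (Subgroup.eq_bot_iff_forall _).mpr fun x hx =>
    congrArg Subtype.val (this.elim ⟨x, hx⟩ 1)

theorem hasCyclicSchurMultiplier_one_iff [Finite Q] :
    Cfsg.HasCyclicSchurMultiplier Q 1 ↔
      ∀ (Γ : Type u) [Group Γ] [Finite Γ] (σ : Γ →* Q), Cfsg.IsStemExtension σ → σ.ker = ⊥ :=
  ⟨fun h _ _ _ _ hσ => ker_eq_bot_of_hasCyclicSchurMultiplier_one h hσ,
    hasCyclicSchurMultiplier_one_of⟩

/-- Stem extensions of a metacyclic group. -/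
theorem metacyclic_bound (a b : Q) (r : ℤ) (m n t k d : ℕ) (hn0 : 0 < n)
    (hgen : Subgroup.closure ({a, b} : Set Q) = ⊤) (hm : a ^ m = 1)
    (hb : b * a * b⁻¹ = a ^ r) (hn : b ^ n = a ^ t)
    (hk : ∀ i : ℤ, a ^ ((r - 1) * i) = 1 → (k : ℤ) ∣ i)
    (hd : Nat.gcd m (Nat.gcd (∑ i ∈ Finset.range n, r ^ i).natAbs t) ∣ k * d)
    {Γ : Type v} [Group Γ] {σ : Γ →* Q} (hσ : Cfsg.IsStemExtension σ) :
    IsCyclic σ.ker ∧ Nat.card σ.ker ∣ d := by
  obtain ⟨hs, hc, hstem⟩ := hσ
  obtain ⟨A, hA⟩ := hs a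
  obtain ⟨B, hB⟩ := hs b
  set S := ∑ i ∈ Finset.range n, r ^ i with hS
  have central : ∀ {x : Γ}, σ x = 1 → ∀ y : Γ, Commute y x :=
    fun {x} hx y => Subgroup.mem_center_iff.mp (hc hx) y
  let z := (A ^ r)⁻¹ * (B * A * B⁻¹)
  have hzK : σ z = 1 := by simp [z, hA, hB, hb]
  have hz : ∀ y, Commute y z := central hzK
  have hBA : B * A * B⁻¹ = A ^ r * z := by simp [z]
  let c := A ^ (r - 1) * z
  have hcA : Commute c A := ((Commute.refl A).zpow_left _).mul_left (hz A).symm
  have hzpowc : ∀ i : ℤ, c ^ i = A ^ ((r - 1) * i) * z ^ i := fun i => by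
    rw [Commute.mul_zpow (hz _), ← zpow_mul]
  have hconj : ∀ i : ℤ, B * A ^ i * B⁻¹ = A ^ (r * i) * z ^ i := fun i => by
    rw [← conj_zpow, hBA, Commute.mul_zpow (hz _), ← zpow_mul]
  have hconjc : B * c * B⁻¹ = c ^ r := by
    rw [hzpowc, show B * c * B⁻¹ = (B * A ^ (r - 1) * B⁻¹) * (B * z * B⁻¹) by simp only [c]; group,
      hconj, (hz B).eq, mul_inv_cancel_right, mul_comm (r - 1) r, mul_assoc]
    congr 1
    rw [← zpow_add_one]; simp
  have fix : ∀ i : ℤ, Commute B (A ^ i) → c ^ i = 1 := fun i hi => by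
    have h := hconj i
    rw [hi.eq, mul_inv_cancel_right] at h
    rw [hzpowc, show (r - 1) * i = r * i + -i by ring, zpow_add, mul_assoc,
      (((hz (A ^ (-i))).zpow_right i)).eq, ← mul_assoc, ← h, ← zpow_add, add_neg_cancel, zpow_zero]
  have hcm : c ^ (m : ℤ) = 1 := fix _ (central (by simp [hA, hm]) B)
  have hw : ∀ y, Commute y ((A ^ t)⁻¹ * B ^ n) := central (by simp [hA, hB, hn])
  have hBn : B ^ n = A ^ t * ((A ^ t)⁻¹ * B ^ n) := by group
  have hct : c ^ (t : ℤ) = 1 := fix _ (by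
    have : A ^ (t : ℤ) = B ^ n * ((A ^ t)⁻¹ * B ^ n)⁻¹ := by rw [zpow_natCast]; group
    rw [this]
    exact ((Commute.refl B).pow_right n).mul_right (hw B).inv_right)
  have iter : ∀ j : ℕ,
      B ^ j * A * (B ^ j)⁻¹ = A ^ (r ^ j) * z ^ (∑ i ∈ Finset.range j, r ^ i) := by
    intro j
    induction j with
    | zero => simp
    | succ j ih =>
      have : B ^ (j + 1) * A * (B ^ (j + 1))⁻¹ = B * (B ^ j * A * (B ^ j)⁻¹) * B⁻¹ := by
        rw [pow_succ']; group
      rw [this, ih, ← mul_assoc, mul_assoc _ (z ^ _) B⁻¹, ((hz B⁻¹).zpow_right _).symm.eq,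
        ← mul_assoc, hconj, mul_assoc, ← zpow_add, Finset.sum_range_succ, pow_succ',
        add_comm]
  have hcS : c ^ S = 1 := by
    have h := iter n
    have hcomm : Commute (B ^ n) A := by
      rw [hBn]; exact ((Commute.refl A).pow_left t).mul_left (hw A).symm
    rw [hcomm.eq, mul_inv_cancel_right] at h
    rw [hzpowc, mul_comm (r - 1), hS, geom_sum_mul, show r ^ n - 1 = r ^ n + -1 by ring, zpow_add,
      mul_assoc, (((hz (A ^ (-1 : ℤ))).zpow_right _)).eq, ← mul_assoc, ← h,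
      zpow_neg_one, mul_inv_cancel]
  have hck : (c ^ k) ^ d = 1 := by
    rw [← pow_mul, ← orderOf_dvd_iff_pow_eq_one]
    refine dvd_trans ?_ hd
    refine Nat.dvd_gcd (Int.natCast_dvd_natCast.mp (orderOf_dvd_iff_zpow_eq_one.mpr hcm))
      (Nat.dvd_gcd ?_ (Int.natCast_dvd_natCast.mp (orderOf_dvd_iff_zpow_eq_one.mpr hct)))
    exact Int.natCast_dvd.mp (orderOf_dvd_iff_zpow_eq_one.mpr hcS)
  -- the derived subgroup lies in `⟨c⟩`
  let N := Subgroup.zpowers c
  let T := Subgroup.closure ({A, B} : Set Γ) ⊔ σ.ker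
  have hT : T = ⊤ := by
    have : (Subgroup.closure ({A, B} : Set Γ)).map σ = ⊤ := by
      rw [MonoidHom.map_closure, Set.image_pair, hA, hB, hgen]
    show _ ⊔ σ.ker = ⊤
    rw [← Subgroup.comap_map_eq, this, Subgroup.comap_top]
  have hBnc : Commute (B ^ n) c := by
    rw [hBn]; exact ((hcA.symm).pow_left t).mul_left (hw c).symm
  have hpow : ∀ j : ℕ, B ^ j * c * (B ^ j)⁻¹ ∈ N := by
    intro j
    induction j with
    | zero => simp [N]
    | succ j ih =>
      obtain ⟨i, hi⟩ := Subgroup.mem_zpowers_iff.mp ih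
      have : B ^ (j + 1) * c * (B ^ (j + 1))⁻¹ = B * (B ^ j * c * (B ^ j)⁻¹) * B⁻¹ := by
        rw [pow_succ']; group
      rw [this, ← hi, ← conj_zpow, hconjc]
      exact zpow_mem (zpow_mem (Subgroup.mem_zpowers c) _) _
  have hBinv : B⁻¹ * c * B ∈ N := by
    have : B⁻¹ * c * B = B ^ (n - 1) * c * (B ^ (n - 1))⁻¹ := by
      have e : B ^ (n - 1) = B⁻¹ * B ^ n := by
        conv_rhs => rw [show n = (n - 1) + 1 by omega, pow_succ']
        group
      rw [e, mul_assoc B⁻¹ (B ^ n) c, hBnc.eq]; group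
    rw [this]; exact hpow _
  have hNn : N.Normal := by
    rw [← Subgroup.normalizer_eq_top_iff, eq_top_iff, ← hT]
    refine sup_le ((Subgroup.closure_le _).mpr ?_) (hc.trans ?_)
    · have key : ∀ g : Γ, g * c * g⁻¹ ∈ N → g⁻¹ * c * g ∈ N → g ∈ Subgroup.normalizer (N : Set Γ) := by
        intro g h1 h2
        rw [Subgroup.mem_normalizer_iff]
        intro x
        refine ⟨fun hx => ?_, fun hx => ?_⟩
        · obtain ⟨i, rfl⟩ := Subgroup.mem_zpowers_iff.mp hx
          rw [← conj_zpow]; exact zpow_mem h1 _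
        · obtain ⟨i, hi⟩ := Subgroup.mem_zpowers_iff.mp hx
          have : x = g⁻¹ * c ^ i * g⁻¹⁻¹ := by rw [hi]; group
          rw [this, ← conj_zpow, inv_inv]; exact zpow_mem h2 _
      rintro x (rfl | rfl)
      · refine key _ ?_ ?_
        · rw [← hcA.eq, mul_inv_cancel_right]; exact Subgroup.mem_zpowers c
        · rw [hcA.inv_right.symm.eq, inv_mul_cancel_right]; exact Subgroup.mem_zpowers c
      · exact key _ (by simpa using hpow 1) hBinv
    · intro x hx
      rw [Subgroup.mem_normalizer_iff]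
      intro y
      rw [← Subgroup.mem_center_iff.mp hx y, mul_inv_cancel_right]
  have hcomm : commutator Γ ≤ N := by
    let p := QuotientGroup.mk' N
    have hBAc : B * A = c * (A * B) := by
      have : c = B * A * B⁻¹ * A⁻¹ := by
        rw [hBA, show A ^ r = A ^ (r - 1) * A by rw [← zpow_add_one]; simp]
        simp only [c]
        rw [mul_assoc (A ^ (r - 1)) A z, (hz A).eq]; group
      rw [this]; group
    have hAB : Commute (p B) (p A) := by
      show p B * p A = p A * p B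
      rw [← map_mul, ← map_mul, hBAc, map_mul p c,
        show p c = 1 from (QuotientGroup.eq_one_iff c).mpr (Subgroup.mem_zpowers c), one_mul]
    have cen : ∀ {g : Γ}, Commute (p g) (p A) → Commute (p g) (p B) →
        (∀ k ∈ σ.ker, Commute (p g) (p k)) → ∀ x, Commute (p g) (p x) := by
      intro g h1 h2 h3 x
      have : T ≤ (Subgroup.centralizer {p g}).comap p := by
        refine sup_le ((Subgroup.closure_le _).mpr ?_) fun k hk => ?_
        · rintro y (rfl | rfl) <;>
            simp only [Subgroup.coe_comap, Set.mem_preimage, SetLike.mem_coe,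
              Subgroup.mem_centralizer_singleton_iff]
          exacts [h1.eq.symm, h2.eq.symm]
        · simp only [Subgroup.mem_comap, Subgroup.mem_centralizer_singleton_iff]
          exact (h3 k hk).eq.symm
      have hx := this (show x ∈ T by rw [hT]; exact Subgroup.mem_top x)
      simp only [Subgroup.mem_comap, Subgroup.mem_centralizer_singleton_iff] at hx
      exact hx.symm
    have hk' : ∀ g, ∀ k ∈ σ.ker, Commute (p g) (p k) :=
      fun g k hk => (show Commute g k from central hk g).map p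
    have cA := cen (Commute.refl (p A)) hAB.symm (hk' A)
    have cB := cen hAB (Commute.refl (p B)) (hk' B)
    have hall : ∀ g x, Commute (p g) (p x) := fun g =>
      cen (cA g).symm (cB g).symm (hk' g)
    rw [commutator_def, Subgroup.commutator_le]
    intro g _ h _
    rw [← QuotientGroup.eq_one_iff (N := N)]
    show p ⁅g, h⁆ = 1
    rw [map_commutatorElement, commutatorElement_eq_one_iff_mul_comm]
    exact (hall g h).eq
  have hsub : σ.ker ≤ Subgroup.zpowers (c ^ k) := by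
    intro x hx
    obtain ⟨i, rfl⟩ := Subgroup.mem_zpowers_iff.mp (hcomm (hstem hx))
    have : a ^ ((r - 1) * i) = 1 := by
      have h := hx
      simp only [MonoidHom.mem_ker, hzpowc, map_mul, map_zpow, hA, hzK, one_zpow, mul_one] at h
      exact h
    obtain ⟨j, rfl⟩ := hk i this
    rw [zpow_mul, zpow_natCast]
    exact zpow_mem (Subgroup.mem_zpowers _) _
  refine ⟨Subgroup.isCyclic_of_le hsub, (Subgroup.card_dvd_of_le hsub).trans ?_⟩
  rw [Nat.card_zpowers]
  exact orderOf_dvd_of_pow_eq_one hck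

end Cfsg.Lib.Schur
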