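import Cfsg.Agent.Schur.Criteria

set_option autoImplicit false

namespace Cfsg.Lib.Schur

open scoped commutatorElement

universe u v w

variable {G : Type u} [Group G]

theorem commutator_eq_top_of_perfect (h : Group.IsPerfect G) : commutator G = ⊤ :=
  Group.isPerfect_def.mp h

/-- Lifts of a perfect group through a central extension are unique. -/
theorem lift_unique (hG : Group.IsPerfect G) {X : Type v} {Q : Type w} [Group X] [Group Q]
    (ξ : X →* Q) (hc : ξ.ker ≤ Subgroup.center X) {η₁ η₂ : G →* X}
    (h : ξ.comp η₁ = ξ.comp η₂) : η₁ = η₂ := by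
  let : CommGroup ξ.ker :=
    { (inferInstance : Group ξ.ker) with mul_comm := mul_comm_of_le_center hc }
  have hmem : ∀ g, η₁ g * (η₂ g)⁻¹ ∈ ξ.ker := fun g => by
    rw [MonoidHom.mem_ker, map_mul, map_inv, ← MonoidHom.comp_apply, ← MonoidHom.comp_apply, h,
      mul_inv_cancel]
  let μ : G →* ξ.ker := MonoidHom.mk' (fun g => ⟨_, hmem g⟩) fun a b => Subtype.ext (by
    have hb := Subgroup.mem_center_iff.mp (hc (hmem b)) ((η₂ a)⁻¹)
    show η₁ (a * b) * (η₂ (a * b))⁻¹ = η₁ a * (η₂ a)⁻¹ * (η₁ b * (η₂ b)⁻¹)
    rw [map_mul, map_mul, mul_inv_rev, mul_assoc (η₁ a) (η₂ a)⁻¹, hb]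
    group)
  refine MonoidHom.ext fun g => ?_
  have hg : g ∈ commutator G := by rw [commutator_eq_top_of_perfect hG]; trivial
  have h1 : η₁ g * (η₂ g)⁻¹ = 1 :=
    congrArg Subtype.val (Abelianization.commutator_subset_ker μ hg)
  exact mul_inv_eq_one.mp h1

variable {Q : Type w} [Group Q]

/-- The derived subgroup of the universal central extension maps onto a perfect group. -/
theorem proj_commutator_surjective {α : Type v} {π : FreeGroup α →* Q}
    (hπ : Function.Surjective π) (hQ : Group.IsPerfect Q) :
    Function.Surjective ((proj π).comp (commutator (E π)).subtype) := by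
  intro q
  have h : q ∈ (commutator (E π)).map (proj π) := by
    rw [commutator_def, Subgroup.map_commutator,
      Subgroup.map_top_of_surjective _ (proj_surjective π hπ), ← commutator_def,
      commutator_eq_top_of_perfect hQ]
    trivial
  obtain ⟨x, hx, rfl⟩ := h
  exact ⟨⟨x, hx⟩, rfl⟩

theorem isPerfect_commutator_E {α : Type v} {π : FreeGroup α →* Q}
    (hπ : Function.Surjective π) (hQ : Group.IsPerfect Q) :
    Group.IsPerfect (commutator (E π)) := by
  rw [Subgroup.isPerfect_iff]
  refine le_antisymm (Subgroup.commutator_le_left _ _) ?_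
  conv_lhs => rw [commutator_def]
  rw [Subgroup.commutator_le]
  intro g _ h _
  obtain ⟨a, ha⟩ := proj_commutator_surjective hπ hQ (proj π g)
  obtain ⟨b, hb⟩ := proj_commutator_surjective hπ hQ (proj π h)
  rw [comm_congr (proj π) (ker_proj_le_center π) ha.symm hb.symm]
  exact Subgroup.commutator_mem_commutator a.2 b.2

end Cfsg.Lib.Schur
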