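import Mathlib
import Cfsg.Prelude.Def_KGroupFacts

set_option autoImplicit false

namespace Cfsg.Lib.Schur

open scoped commutatorElement

universe u v w

section General

variable {Γ : Type*} [Group Γ]

/-- Commutators only depend on the classes modulo a central subgroup. -/
theorem comm_congr {Q : Type*} [Group Q] (σ : Γ →* Q) (hc : σ.ker ≤ Subgroup.center Γ)
    {g g' h h' : Γ} (hg : σ g = σ g') (hh : σ h = σ h') : ⁅g, h⁆ = ⁅g', h'⁆ := by
  have e1 : g'⁻¹ * g ∈ Subgroup.center Γ := hc (by simp [MonoidHom.mem_ker, hg])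
  have e2 : h'⁻¹ * h ∈ Subgroup.center Γ := hc (by simp [MonoidHom.mem_ker, hh])
  obtain ⟨z, hz, rfl⟩ : ∃ z ∈ Subgroup.center Γ, g = g' * z := ⟨_, e1, by group⟩
  obtain ⟨w, hw, rfl⟩ : ∃ w ∈ Subgroup.center Γ, h = h' * w := ⟨_, e2, by group⟩
  have cz := Subgroup.mem_center_iff.mp hz
  have cw := Subgroup.mem_center_iff.mp hw
  simp only [commutatorElement_def, mul_inv_rev]
  calc g' * z * (h' * w) * (z⁻¹ * g'⁻¹) * (w⁻¹ * h'⁻¹)
      = g' * ((z * h') * (w * z⁻¹) * g'⁻¹ * w⁻¹) * h'⁻¹ := by group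
    _ = g' * ((h' * z) * (z⁻¹ * w) * g'⁻¹ * w⁻¹) * h'⁻¹ := by rw [← cz h', ← cw z⁻¹]
    _ = g' * h' * (w * g'⁻¹) * w⁻¹ * h'⁻¹ := by group
    _ = g' * h' * (g'⁻¹ * w) * w⁻¹ * h'⁻¹ := by rw [← cw g'⁻¹]
    _ = _ := by group

/-- A central extension of a finite group has a finite commutator subgroup (Schur). -/
theorem finite_commutator {Q : Type*} [Group Q] [Finite Q] (σ : Γ →* Q)
    (hs : Function.Surjective σ) (hc : σ.ker ≤ Subgroup.center Γ) :
    Finite (commutator Γ) := by
  have : Finite (commutatorSet Γ) := by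
    apply Set.Finite.to_subtype
    refine (Set.finite_range (fun p : Q × Q => ⁅(hs p.1).choose, (hs p.2).choose⁆)).subset ?_
    rintro _ ⟨g₁, g₂, rfl⟩
    exact ⟨(σ g₁, σ g₂), comm_congr σ hc (hs (σ g₁)).choose_spec (hs (σ g₂)).choose_spec⟩
  infer_instance

theorem mul_comm_of_le_center {H : Subgroup Γ} (h : H ≤ Subgroup.center Γ) (a b : H) :
    a * b = b * a :=
  Subtype.ext (Subgroup.mem_center_iff.mp (h b.2) a)

theorem normal_of_le_center {H : Subgroup Γ} (h : H ≤ Subgroup.center Γ) : H.Normal :=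
  ⟨fun n hn g => by
    have := Subgroup.mem_center_iff.mp (h hn) g
    rwa [this, mul_inv_cancel_right]⟩

end General

variable {α : Type u} {Q : Type v} [Group Q] (π : FreeGroup α →* Q)

/-- The subgroup `[R, F]` of a presentation. -/
abbrev relComm : Subgroup (FreeGroup α) := ⁅π.ker, ⊤⁆

/-- The universal central extension `F / [R, F]` attached to a presentation. -/
abbrev E : Type u := FreeGroup α ⧸ relComm π

theorem relComm_le_ker : relComm π ≤ π.ker := Subgroup.commutator_le_left _ _

theorem relComm_le_commutator : relComm π ≤ commutator (FreeGroup α) := by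
  rw [commutator_def]
  exact Subgroup.commutator_mono le_top le_rfl

/-- The projection `F / [R, F] → Q`. -/
def proj : E π →* Q := QuotientGroup.lift (relComm π) π (relComm_le_ker π)

@[simp] theorem proj_mk (x : FreeGroup α) : proj π (QuotientGroup.mk' (relComm π) x) = π x := rfl

theorem proj_surjective (hπ : Function.Surjective π) : Function.Surjective (proj π) := fun q => by
  obtain ⟨x, rfl⟩ := hπ q; exact ⟨QuotientGroup.mk' _ x, rfl⟩

theorem ker_proj_le_center : (proj π).ker ≤ Subgroup.center (E π) := by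
  intro a ha
  obtain ⟨x, rfl⟩ := QuotientGroup.mk'_surjective (relComm π) a
  rw [Subgroup.mem_center_iff]
  intro b
  obtain ⟨y, rfl⟩ := QuotientGroup.mk'_surjective (relComm π) b
  have h : ⁅x, y⁆ ∈ relComm π :=
    Subgroup.commutator_mem_commutator (show π x = 1 from ha) (Subgroup.mem_top _)
  have h' : QuotientGroup.mk' (relComm π) ⁅x, y⁆ = 1 :=
    (QuotientGroup.eq_one_iff _).mpr h
  rw [map_commutatorElement, commutatorElement_eq_one_iff_mul_comm] at h'
  exact h'.symm

/-- The multiplier `(R ∩ F') / [R, F]` of a presentation. -/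
def M : Subgroup (E π) := (proj π).ker ⊓ commutator (E π)

theorem M_le_ker : M π ≤ (proj π).ker := inf_le_left
theorem M_le_commutator : M π ≤ commutator (E π) := inf_le_right
theorem M_le_center : M π ≤ Subgroup.center (E π) := (M_le_ker π).trans (ker_proj_le_center π)

instance : CommGroup (M π) :=
  { (inferInstance : Group (M π)) with mul_comm := mul_comm_of_le_center (M_le_center π) }

theorem finite_M [Finite Q] (hπ : Function.Surjective π) : Finite (M π) := by
  have := finite_commutator (proj π) (proj_surjective π hπ) (ker_proj_le_center π)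
  exact Finite.of_injective _ (Subgroup.inclusion_injective (M_le_commutator π))

/-! ## Lifting to central extensions -/

theorem exists_lift {Γ : Type w} [Group Γ] (σ : Γ →* Q) (hs : Function.Surjective σ)
    (hc : σ.ker ≤ Subgroup.center Γ) : ∃ ψ : E π →* Γ, σ.comp ψ = proj π := by
  classical
  let f : FreeGroup α →* Γ := FreeGroup.lift (fun a => (hs (π (FreeGroup.of a))).choose)
  have hf : σ.comp f = π := FreeGroup.ext_hom _ _ fun a => by
    simpa [f] using (hs (π (FreeGroup.of a))).choose_spec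
  have hle : relComm π ≤ f.ker := by
    rw [Subgroup.commutator_le]
    intro x hx y _
    rw [MonoidHom.mem_ker, map_commutatorElement, commutatorElement_eq_one_iff_mul_comm]
    exact (Subgroup.mem_center_iff.mp (hc (show f x ∈ σ.ker by
      rw [MonoidHom.mem_ker, ← MonoidHom.comp_apply, hf]; exact hx)) (f y)).symm
  refine ⟨QuotientGroup.lift _ f hle, ?_⟩
  refine MonoidHom.ext fun a => ?_
  obtain ⟨x, rfl⟩ := QuotientGroup.mk'_surjective (relComm π) a
  exact DFunLike.congr_fun hf x

variable {π}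

theorem commutator_le_range {Γ : Type w} [Group Γ] {σ : Γ →* Q} (hc : σ.ker ≤ Subgroup.center Γ)
    {ψ : E π →* Γ} (hψ : σ.comp ψ = proj π) (hπ : Function.Surjective π) :
    commutator Γ ≤ (commutator (E π)).map ψ := by
  rw [commutator_def, commutator_def, Subgroup.commutator_le]
  intro g _ h _
  obtain ⟨a, ha⟩ := proj_surjective π hπ (σ g)
  obtain ⟨b, hb⟩ := proj_surjective π hπ (σ h)
  have hga : σ g = σ (ψ a) := by rw [← MonoidHom.comp_apply, hψ, ha]
  have hhb : σ h = σ (ψ b) := by rw [← MonoidHom.comp_apply, hψ, hb]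
  rw [comm_congr σ hc hga hhb, ← map_commutatorElement]
  exact Subgroup.mem_map_of_mem _ (Subgroup.commutator_mem_commutator (Subgroup.mem_top _)
    (Subgroup.mem_top _))

/-- The multiplier maps onto `ker σ ∩ Γ'` for every central extension. -/
theorem map_M {Γ : Type w} [Group Γ] {σ : Γ →* Q} (hc : σ.ker ≤ Subgroup.center Γ)
    {ψ : E π →* Γ} (hψ : σ.comp ψ = proj π) (hπ : Function.Surjective π) :
    (M π).map ψ = σ.ker ⊓ commutator Γ := by
  apply le_antisymm
  · rintro _ ⟨m, hm, rfl⟩
    refine ⟨?_, ?_⟩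
    · show σ (ψ m) = 1
      rw [← MonoidHom.comp_apply, hψ]; exact hm.1
    · have h : (commutator (E π)).map ψ ≤ commutator Γ := by
        rw [commutator_def, commutator_def, Subgroup.map_commutator]
        exact Subgroup.commutator_mono le_top le_top
      exact h (Subgroup.mem_map_of_mem _ hm.2)
  · rintro k ⟨hk1, hk2⟩
    obtain ⟨m, hm, rfl⟩ := commutator_le_range hc hψ hπ hk2
    refine ⟨m, ⟨?_, hm⟩, rfl⟩
    show proj π m = 1
    rw [← hψ]; exact hk1

theorem lift_surjective {Γ : Type w} [Group Γ] {σ : Γ →* Q} (hσ : Cfsg.IsStemExtension σ)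
    {ψ : E π →* Γ} (hψ : σ.comp ψ = proj π) (hπ : Function.Surjective π) :
    Function.Surjective ψ := by
  intro g
  obtain ⟨a, ha⟩ := proj_surjective π hπ (σ g)
  have : (ψ a)⁻¹ * g ∈ σ.ker := by
    rw [MonoidHom.mem_ker, map_mul, map_inv, ← MonoidHom.comp_apply, hψ, ha, inv_mul_cancel]
  obtain ⟨b, -, hb⟩ := commutator_le_range hσ.2.1 hψ hπ (hσ.2.2 this)
  exact ⟨a * b, by rw [map_mul, hb, mul_inv_cancel_left]⟩

/-- Restriction of a lift to a map from the multiplier to the kernel of a stem extension. -/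
def toKer {Γ : Type w} [Group Γ] {σ : Γ →* Q} (ψ : E π →* Γ) (hψ : σ.comp ψ = proj π) :
    M π →* σ.ker :=
  (ψ.comp (M π).subtype).codRestrict σ.ker fun m => by
    show σ (ψ m) = 1
    rw [← MonoidHom.comp_apply, hψ]; exact m.2.1

@[simp] theorem toKer_apply {Γ : Type w} [Group Γ] {σ : Γ →* Q} (ψ : E π →* Γ)
    (hψ : σ.comp ψ = proj π) (m : M π) : (toKer ψ hψ m : Γ) = ψ m := rfl

theorem toKer_surjective {Γ : Type w} [Group Γ] {σ : Γ →* Q} (hσ : Cfsg.IsStemExtension σ)
    (ψ : E π →* Γ) (hψ : σ.comp ψ = proj π) (hπ : Function.Surjective π) :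
    Function.Surjective (toKer ψ hψ) := by
  rintro ⟨k, hk⟩
  obtain ⟨m, hm, e⟩ : k ∈ (M π).map ψ := by
    rw [map_M hσ.2.1 hψ hπ]; exact ⟨hk, hσ.2.2 hk⟩
  exact ⟨⟨m, hm⟩, Subtype.ext e⟩

/-- Every kernel of a stem extension is a quotient of the multiplier. -/
theorem exists_surj {Γ : Type w} [Group Γ] {σ : Γ →* Q} (hσ : Cfsg.IsStemExtension σ)
    (hπ : Function.Surjective π) : ∃ f : M π →* σ.ker, Function.Surjective f := by
  obtain ⟨ψ, hψ⟩ := exists_lift π σ hσ.1 hσ.2.1
  exact ⟨_, toKer_surjective hσ ψ hψ hπ⟩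

/-! ## The abelianization -/

/-- The exponent sum map to the free abelian group. -/
noncomputable def ab0 (α : Type u) : FreeGroup α →* Multiplicative (α →₀ ℤ) :=
  FreeGroup.lift fun a => Multiplicative.ofAdd (Finsupp.single a 1)

theorem ker_ab0 (α : Type u) : (ab0 α).ker = commutator (FreeGroup α) := by
  refine le_antisymm (fun x hx => ?_) (Abelianization.commutator_subset_ker _)
  let g : (α →₀ ℤ) →+ Additive (Abelianization (FreeGroup α)) :=
    Finsupp.liftAddHom fun a => zmultiplesHom _ (Additive.ofMul (Abelianization.of (FreeGroup.of a)))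
  have h : (AddMonoidHom.toMultiplicativeLeft g).comp (ab0 α) = Abelianization.of := by
    refine FreeGroup.ext_hom _ _ fun a => ?_
    simp [ab0, g]
  have h' := DFunLike.congr_fun h x
  rw [MonoidHom.mem_ker] at hx
  simp only [MonoidHom.comp_apply, hx, map_one] at h'
  rw [← Abelianization.ker_of, MonoidHom.mem_ker]
  exact h'.symm

variable (π) in
/-- The exponent sum map on `F / [R, F]`. -/
noncomputable def ab : E π →* Multiplicative (α →₀ ℤ) :=
  QuotientGroup.lift (relComm π) (ab0 α)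
    ((relComm_le_commutator π).trans (Abelianization.commutator_subset_ker _))

theorem ker_ab : (ab π).ker = commutator (E π) := by
  refine le_antisymm (fun a ha => ?_) (Abelianization.commutator_subset_ker _)
  obtain ⟨x, rfl⟩ := QuotientGroup.mk'_surjective (relComm π) a
  have : x ∈ commutator (FreeGroup α) := by rw [← ker_ab0]; exact ha
  have h : (commutator (FreeGroup α)).map (QuotientGroup.mk' (relComm π)) ≤ commutator (E π) := by
    rw [commutator_def, commutator_def, Subgroup.map_commutator]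
    exact Subgroup.commutator_mono le_top le_top
  exact h (Subgroup.mem_map_of_mem _ this)

theorem ab_surjective : Function.Surjective (ab π) := by
  intro f
  obtain ⟨f, rfl⟩ := Multiplicative.ofAdd.surjective f
  induction f using Finsupp.induction_linear with
  | zero => exact ⟨1, map_one _⟩
  | add f g hf hg =>
    obtain ⟨a, ha⟩ := hf; obtain ⟨b, hb⟩ := hg
    exact ⟨a * b, by rw [map_mul, ha, hb]; rfl⟩
  | single a n =>
    refine ⟨QuotientGroup.mk' (relComm π) (FreeGroup.of a ^ n), ?_⟩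
    show ab0 α (FreeGroup.of a ^ n) = _
    rw [map_zpow, ab0, FreeGroup.lift_apply_of, ← ofAdd_zsmul, Finsupp.smul_single, smul_eq_mul,
      mul_one]

/-! ## Complements to the multiplier -/

/-- A complement of the multiplier in `R / [R, F]`, inside the kernel of a homomorphism `f` whose
values are all reached on the multiplier. -/
theorem exists_compl [Finite α] {K : Type w} [Group K] (f : (proj π).ker →* K)
    (hf : ∀ x, ∃ m : (proj π).ker, (m : E π) ∈ commutator (E π) ∧ f m = f x) :
    ∃ C : Subgroup (E π), C ≤ (proj π).ker ∧ C ⊓ commutator (E π) = ⊥ ∧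
      C ⊔ M π = (proj π).ker ∧ ∀ x : (proj π).ker, (x : E π) ∈ C → f x = 1 := by
  classical
  let : CommGroup f.ker :=
    { (inferInstance : Group f.ker) with
      mul_comm := fun a b => Subtype.ext (mul_comm_of_le_center (ker_proj_le_center π) a.1 b.1) }
  let g0 : Additive f.ker →+ (α →₀ ℤ) :=
    MonoidHom.toAdditiveLeft ((ab π).comp ((proj π).ker.subtype.comp f.ker.subtype))
  let g : Additive f.ker →ₗ[ℤ] (α →₀ ℤ) := g0.toIntLinearMap
  obtain ⟨s, hs⟩ := Module.projective_lifting_property g.rangeRestrict LinearMap.id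
    g.surjective_rangeRestrict
  let s' : Multiplicative (LinearMap.range g) →* E π :=
    ((proj π).ker.subtype.comp f.ker.subtype).comp (AddMonoidHom.toMultiplicativeLeft s.toAddMonoidHom)
  have key : ∀ l : Multiplicative (LinearMap.range g),
      ab π (s' l) = Multiplicative.ofAdd ((Multiplicative.toAdd l : LinearMap.range g) : α →₀ ℤ) := by
    intro l
    exact congrArg (fun y : LinearMap.range g => Multiplicative.ofAdd (y : α →₀ ℤ))
      (LinearMap.congr_fun hs (Multiplicative.toAdd l))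
  refine ⟨s'.range, ?_, ?_, ?_, ?_⟩
  · rintro _ ⟨l, rfl⟩; exact ((AddMonoidHom.toMultiplicativeLeft s.toAddMonoidHom l).1).2
  · rw [eq_bot_iff]
    rintro _ ⟨⟨l, rfl⟩, hc⟩
    rw [← ker_ab] at hc
    have h1 := key l
    rw [hc] at h1
    have h2 : l = 1 := Multiplicative.toAdd.injective (Subtype.ext h1.symm)
    rw [Subgroup.mem_bot, h2, map_one]
  · refine le_antisymm (sup_le ?_ (M_le_ker π)) fun x hx => ?_
    · rintro _ ⟨l, rfl⟩; exact ((AddMonoidHom.toMultiplicativeLeft s.toAddMonoidHom l).1).2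
    obtain ⟨m, hm, hfm⟩ := hf ⟨x, hx⟩
    have hk : (⟨x, hx⟩ : (proj π).ker) * m⁻¹ ∈ f.ker := by
      rw [MonoidHom.mem_ker, map_mul, map_inv, hfm, mul_inv_cancel]
    let y : Additive f.ker := Additive.ofMul ⟨_, hk⟩
    let l : Multiplicative (LinearMap.range g) := Multiplicative.ofAdd (g.rangeRestrict y)
    have hxm : x = s' l * ((s' l)⁻¹ * x) := by group
    rw [hxm]
    refine Subgroup.mul_mem _ (Subgroup.mem_sup_left ⟨l, rfl⟩) (Subgroup.mem_sup_right ⟨?_, ?_⟩)
    · refine Subgroup.mul_mem _ (Subgroup.inv_mem _ ?_) hx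
      exact ((AddMonoidHom.toMultiplicativeLeft s.toAddMonoidHom l).1).2
    · show _ ∈ commutator (E π)
      rw [← ker_ab, MonoidHom.mem_ker, map_mul, map_inv, key]
      have hm' : ab π (m : E π) = 1 := by rwa [← MonoidHom.mem_ker, ker_ab]
      show (ab π (x * (m : E π)⁻¹))⁻¹ * ab π x = 1
      rw [map_mul, map_inv, hm', inv_one, mul_one, inv_mul_cancel]
  · rintro x ⟨l, hl⟩
    have hx : x = (AddMonoidHom.toMultiplicativeLeft s.toAddMonoidHom l).1 := Subtype.ext hl.symm
    rw [hx]; exact (AddMonoidHom.toMultiplicativeLeft s.toAddMonoidHom l).2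

/-! ## Covers -/

variable (π) in
/-- The quotient of `F / [R, F]` by a subgroup of `R / [R, F]`, over `Q`. -/
theorem exists_cover_of_compl [Finite Q] (hπ : Function.Surjective π) {C : Subgroup (E π)}
    (hC : C ≤ (proj π).ker) (hCc : C ⊓ commutator (E π) = ⊥) (hCM : C ⊔ M π = (proj π).ker) :
    ∃ (Γ : Type u) (_ : Group Γ) (_ : Finite Γ) (σ : Γ →* Q) (ψ : E π →* Γ),
      Cfsg.IsStemExtension σ ∧ Function.Surjective ψ ∧ σ.comp ψ = proj π ∧ ψ.ker = C ∧
      Nonempty (σ.ker ≃* M π) := by
  have : C.Normal := normal_of_le_center (hC.trans (ker_proj_le_center π))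
  let σ : E π ⧸ C →* Q := QuotientGroup.lift C (proj π) hC
  let ψ : E π →* E π ⧸ C := QuotientGroup.mk' C
  have hψ : σ.comp ψ = proj π := rfl
  have hker : σ.ker = (M π).map ψ := by
    show (QuotientGroup.lift C (proj π) hC).ker = (M π).map (QuotientGroup.mk' C)
    rw [QuotientGroup.ker_lift, ← hCM, Subgroup.map_sup, QuotientGroup.map_mk'_self, bot_sup_eq]
  have hstem : Cfsg.IsStemExtension σ := by
    refine ⟨fun q => ?_, ?_, ?_⟩
    · obtain ⟨a, ha⟩ := proj_surjective π hπ q
      exact ⟨ψ a, ha⟩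
    · rw [hker]
      rintro _ ⟨m, hm, rfl⟩
      rw [Subgroup.mem_center_iff]
      intro b
      obtain ⟨b, rfl⟩ := QuotientGroup.mk'_surjective C b
      exact (map_mul ψ b m).symm.trans ((congrArg ψ
        (Subgroup.mem_center_iff.mp (M_le_center π hm) b)).trans (map_mul ψ m b))
    · rw [hker, commutator_def]
      refine (Subgroup.map_mono (M_le_commutator π)).trans ?_
      rw [commutator_def, Subgroup.map_commutator]
      exact Subgroup.commutator_mono le_top le_top
  have hinj : Function.Injective (toKer ψ hψ) := by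
    rw [← MonoidHom.ker_eq_bot_iff, eq_bot_iff]
    intro m hm
    have h1 : (m : E π) ∈ C := by
      rw [← QuotientGroup.ker_mk' C]
      exact congrArg Subtype.val hm
    have h2 : (m : E π) ∈ C ⊓ commutator (E π) := ⟨h1, m.2.2⟩
    rw [hCc, Subgroup.mem_bot] at h2
    exact Subgroup.mem_bot.mpr (Subtype.ext h2)
  have e := (MulEquiv.ofBijective (toKer ψ hψ) ⟨hinj, toKer_surjective hstem ψ hψ hπ⟩).symm
  have := finite_M π hπ
  have : Finite σ.ker := Finite.of_equiv _ e.symm.toEquiv
  have : Finite (E π ⧸ C) := by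
    have : Finite ((E π ⧸ C) ⧸ σ.ker) :=
      Finite.of_equiv _ (QuotientGroup.quotientKerEquivOfSurjective σ hstem.1).symm.toEquiv
    exact Finite.of_subgroup_quotient σ.ker
  exact ⟨_, inferInstance, this, σ, ψ, hstem, QuotientGroup.mk'_surjective C, hψ,
    QuotientGroup.ker_mk' C, ⟨e⟩⟩

variable (π) in
/-- Existence of a cover. -/
theorem exists_cover [Finite α] [Finite Q] (hπ : Function.Surjective π) :
    ∃ (Γ : Type u) (_ : Group Γ) (_ : Finite Γ) (σ : Γ →* Q),
      Cfsg.IsStemExtension σ ∧ Nonempty (σ.ker ≃* M π) := by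
  obtain ⟨C, h1, h2, h3, -⟩ := exists_compl (π := π) (1 : (proj π).ker →* PUnit.{1})
    (fun x => ⟨1, Subgroup.one_mem _, rfl⟩)
  obtain ⟨Γ, _, _, σ, ψ, h, -, -, -, e⟩ := exists_cover_of_compl π hπ h1 h2 h3
  exact ⟨Γ, inferInstance, inferInstance, σ, h, e⟩

theorem mulEquiv_of_surj {A : Type*} {B : Type*} [Group A] [Group B] [Finite A]
    (f : A →* B) (hf : Function.Surjective f) (g : B →* A) (hg : Function.Surjective g) :
    Nonempty (A ≃* B) := by
  have hb : Function.Bijective (g.comp f) :=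
    Finite.surjective_iff_bijective.mp (hg.comp hf)
  exact ⟨MulEquiv.ofBijective f ⟨(show Function.Injective (g ∘ f) from hb.injective).of_comp, hf⟩⟩

/-- The multiplier does not depend on the presentation. -/
theorem nonempty_mulEquiv_M {β : Type w} [Finite α] [Finite β] [Finite Q] {π' : FreeGroup β →* Q}
    (hπ : Function.Surjective π) (hπ' : Function.Surjective π') :
    Nonempty (M π ≃* M π') := by
  obtain ⟨Γ, _, _, σ, hσ, ⟨e⟩⟩ := exists_cover π' hπ'
  obtain ⟨f, hf⟩ := exists_surj hσ hπ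
  obtain ⟨Γ', _, _, σ', hσ', ⟨e'⟩⟩ := exists_cover π hπ
  obtain ⟨f', hf'⟩ := exists_surj hσ' hπ'
  have := finite_M π hπ
  exact mulEquiv_of_surj (e.toMonoidHom.comp f) (e.surjective.comp hf)
    (e'.toMonoidHom.comp f') (e'.surjective.comp hf')

/-! ## The canonical presentation -/

/-- The tautological presentation. -/
abbrev canon (Q : Type v) [Group Q] : FreeGroup Q →* Q := FreeGroup.lift id

theorem canon_surjective (Q : Type v) [Group Q] : Function.Surjective (canon Q) :=
  fun q => ⟨FreeGroup.of q, FreeGroup.lift_apply_of⟩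

theorem hasSchurMultiplier_iff [Finite α] [Finite Q] (hπ : Function.Surjective π) {A : Type w}
    [CommGroup A] : Cfsg.HasSchurMultiplier Q A ↔ Nonempty (A ≃* M π) := by
  obtain ⟨e0⟩ := nonempty_mulEquiv_M (π := π) hπ (canon_surjective Q)
  constructor
  · rintro ⟨⟨Γ, _, _, σ, hσ, ⟨e⟩⟩, hall⟩
    obtain ⟨f, hf⟩ := exists_surj hσ hπ
    obtain ⟨Γ', _, _, σ', hσ', ⟨e'⟩⟩ := exists_cover (canon Q) (canon_surjective Q)
    obtain ⟨p, hp⟩ := hall Γ' σ' hσ'
    have : Finite A := Finite.of_equiv _ e.toEquiv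
    exact mulEquiv_of_surj ((e0.symm.toMonoidHom.comp e'.toMonoidHom).comp p)
      ((e0.symm.surjective.comp e'.surjective).comp hp)
      (e.toMonoidHom.comp f) (e.surjective.comp hf)
  · rintro ⟨e⟩
    obtain ⟨Γ, hG, hF, σ, hσ, ⟨e'⟩⟩ := exists_cover (canon Q) (canon_surjective Q)
    refine ⟨⟨Γ, hG, hF, σ, hσ, ⟨e'.trans (e0.symm.trans e.symm)⟩⟩, fun Δ _ _ τ hτ => ?_⟩
    obtain ⟨f, hf⟩ := exists_surj hτ hπ
    exact ⟨f.comp e.toMonoidHom, hf.comp e.surjective⟩

theorem finite_of_hasSchurMultiplier {A : Type w} [CommGroup A]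
    (hA : Cfsg.HasSchurMultiplier Q A) : Finite A := by
  obtain ⟨⟨Γ, _, _, σ, -, ⟨e⟩⟩, -⟩ := hA
  exact Finite.of_equiv _ e.toEquiv

end Cfsg.Lib.Schur
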