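import Cfsg.Agent.Schur.SylowTransfer
import Mathlib.GroupTheory.FiniteAbelian.Duality
import Mathlib.Analysis.Complex.Polynomial.Basic

/-!
A certificate that a stem extension has kernel of odd order: collection in the preimage of a Sylow 2-subgroup
with unknown signs, and linear equations for the signs from associativity, classes of involutions and fusion.
-/

set_option autoImplicit false

namespace Cfsg.Lib.Schur

open scoped commutatorElement

universe u v

/-- A finite abelian subgroup of even order has a subgroup of index two. -/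
theorem exists_index_two {K : Type u} [CommGroup K] [Finite K] (h : 2 ∣ Nat.card K) :
    ∃ L : Subgroup K, L.index = 2 := by
  let f : K →* K := powMonoidHom 2
  obtain ⟨x, hx⟩ := exists_prime_orderOf_dvd_card' (hp := ⟨Nat.prime_two⟩) 2 h
  have hx1 : x ≠ 1 := fun e => by rw [e, orderOf_one] at hx; omega
  have hns : ¬ Function.Surjective f := fun hs => hx1 ((Finite.injective_iff_surjective.mpr hs)
    (show x ^ 2 = (1 : K) ^ 2 by rw [← hx, pow_orderOf_eq_one, one_pow]))
  obtain ⟨y, hy⟩ := not_forall.mp hns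
  have hy' : (QuotientGroup.mk y : K ⧸ f.range) ≠ 1 := fun e => hy ((QuotientGroup.eq_one_iff y).mp e)
  obtain ⟨χ, hχ⟩ := CommGroup.exists_apply_ne_one_of_hasEnoughRootsOfUnity (K ⧸ f.range) ℂ hy'
  let ψ : K →* ℂˣ := χ.comp (QuotientGroup.mk' f.range)
  refine ⟨ψ.ker, ?_⟩
  rw [Subgroup.index_ker]
  have hsub : (ψ.range : Set ℂˣ) ⊆ {1, -1} := by
    rintro _ ⟨z, rfl⟩
    have h2 : ψ z ^ 2 = 1 := by
      rw [← map_pow]
      show χ (QuotientGroup.mk (z ^ 2)) = 1
      rw [(QuotientGroup.eq_one_iff _).mpr (MonoidHom.mem_range.mpr ⟨z, rfl⟩ : z ^ 2 ∈ f.range), map_one]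
    rcases sq_eq_one_iff.mp (show ((ψ z : ℂˣ) : ℂ) ^ 2 = 1 by rw [← Units.val_pow_eq_pow_val, h2, Units.val_one]) with e | e
    · exact Or.inl (Units.ext e)
    · exact Or.inr (Units.ext e)
  have hset : (ψ.range : Set ℂˣ) = {1, -1} := by
    refine hsub.antisymm ?_
    rintro z (rfl | rfl)
    · exact one_mem _
    · rcases hsub (show ψ y ∈ (ψ.range : Set ℂˣ) from ⟨y, rfl⟩) with e | e
      · exact absurd e hχ
      · exact ⟨y, e⟩
  rw [show Nat.card ψ.range = (ψ.range : Set ℂˣ).ncard from Nat.card_coe_set_eq _, hset]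
  exact Set.ncard_pair fun e => by
    have := congrArg (fun u : ℂˣ => (u : ℂ)) e
    norm_num at this

/-- A stem extension with kernel of order two below one with kernel of even order. -/
theorem exists_ker_two {Γ : Type u} {Q : Type v} [Group Γ] [Group Q] [Finite Γ] {σ : Γ →* Q}
    (hσ : Cfsg.IsStemExtension σ) (h : 2 ∣ Nat.card σ.ker) :
    ∃ (Δ : Type u) (_ : Group Δ) (_ : Finite Δ) (τ : Δ →* Q),
      Cfsg.IsStemExtension τ ∧ Nat.card τ.ker = 2 := by
  letI : CommGroup σ.ker := { (inferInstance : Group σ.ker) with mul_comm := mul_comm_of_le_center hσ.2.1 }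
  obtain ⟨L, hL⟩ := exists_index_two (K := σ.ker) h
  set L' : Subgroup Γ := L.map σ.ker.subtype with hL'
  have hle : L' ≤ σ.ker := Subgroup.map_subtype_le L
  haveI : L'.Normal := normal_of_le_center (hle.trans hσ.2.1)
  let τ : Γ ⧸ L' →* Q := QuotientGroup.lift L' σ hle
  have hker : τ.ker = σ.ker.map (QuotientGroup.mk' L') := QuotientGroup.ker_lift L' σ hle
  refine ⟨Γ ⧸ L', inferInstance, inferInstance, τ, ⟨fun q => ?_, ?_, ?_⟩, ?_⟩
  · obtain ⟨g, hg⟩ := hσ.1 q
    exact ⟨(g : Γ ⧸ L'), hg⟩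
  · rw [hker]
    rintro _ ⟨z, hz, rfl⟩
    refine Subgroup.mem_center_iff.mpr fun g => ?_
    obtain ⟨g', rfl⟩ := QuotientGroup.mk'_surjective L' g
    rw [← map_mul, ← map_mul, Subgroup.mem_center_iff.mp (hσ.2.1 hz) g']
  · rw [hker]
    refine (Subgroup.map_mono hσ.2.2).trans ?_
    rw [commutator_def, commutator_def, Subgroup.map_commutator]
    exact Subgroup.commutator_mono le_top le_top
  · rw [hker]
    have h1 : Nat.card (σ.ker.map (QuotientGroup.mk' L')) = L'.relIndex σ.ker := by
      rw [← Subgroup.relIndex_bot_left (σ.ker.map _), ← Subgroup.map_bot (QuotientGroup.mk' L'),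
        Subgroup.relIndex_map_map, QuotientGroup.ker_mk', bot_sup_eq, sup_eq_left.mpr hle]
    rw [h1, hL', Subgroup.relIndex, ← Subgroup.comap_subtype,
      Subgroup.comap_map_eq_self_of_injective (Subgroup.subtype_injective _), hL]

/-- Parity of the selected variables. -/
def ev (ρ : ℕ → Bool) : ℕ → ℕ → Bool
  | 0, _ => false
  | b + 1, m => (m.testBit b && ρ b) ^^ ev ρ b m

theorem ev_xor (ρ : ℕ → Bool) : ∀ b x y : ℕ, ev ρ b (x ^^^ y) = (ev ρ b x ^^ ev ρ b y)
  | 0, _, _ => rfl
  | b + 1, x, y => by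
    simp only [ev, ev_xor ρ b x y, Nat.testBit_xor]
    cases x.testBit b <;> cases y.testBit b <;> cases ρ b <;> cases ev ρ b x <;> cases ev ρ b y <;> rfl

theorem ev_zero (ρ : ℕ → Bool) : ∀ b : ℕ, ev ρ b 0 = false
  | 0 => rfl
  | b + 1 => by simp [ev, ev_zero ρ b]

theorem ev_bit (ρ : ℕ → Bool) : ∀ b r : ℕ, ev ρ b (2 ^ r) = (decide (r < b) && ρ r)
  | 0, r => by simp [ev]
  | b + 1, r => by
    simp only [ev, ev_bit ρ b r, Nat.testBit_two_pow]
    rcases lt_trichotomy r b with h | h | h
    · simp [h, h.ne, Nat.lt_succ_of_lt h]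
    · subst h; simp
    · simp [Nat.not_lt.mpr h.le, h.ne', Nat.not_lt.mpr (Nat.succ_le_of_lt h)]

/-- Exclusive or of a list of masks. -/
def xorAll : List ℕ → ℕ
  | [] => 0
  | a :: l => a ^^^ xorAll l

theorem ev_xorAll (ρ : ℕ → Bool) (b : ℕ) : ∀ l : List ℕ, (∀ a ∈ l, ev ρ b a = false) → ev ρ b (xorAll l) = false
  | [], _ => ev_zero ρ b
  | a :: l, h => by
    rw [xorAll, ev_xor, h a List.mem_cons_self, ev_xorAll ρ b l fun c hc => h c (List.mem_cons_of_mem _ hc)]
    rfl

/-- The certificate. -/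
structure PcCert where
  n : ℕ
  extra : ℕ
  tails : List (List (List ℕ))
  assoc : List (ℕ × ℕ × ℕ)
  squares : List (List ℕ × Bool)
  fuse : List (ℕ × List (List ℕ) × List (List ℕ) × List (List ℕ × List ℕ))
  delta : List ℕ
  sels : List (List (List ℕ))

/-- The right-hand side of a rule. -/
def PcCert.tail (c : PcCert) (j i : ℕ) : List ℕ := (c.tails.getD j []).getD i []

/-- The variable of a rule. -/
def PcCert.bit (c : PcCert) (j i : ℕ) : ℕ := 2 ^ (j * c.n + i)

/-- The variable of a class. -/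
def PcCert.classBit (c : PcCert) (b : Bool) : ℕ := 2 ^ (c.n * c.n + bif b then 1 else 0)

/-- The variables of a conjugated generator. -/
def PcCert.fuseBit (c : PcCert) (base : ℕ) (r : List ℕ) : ℕ :=
  xorAll (r.map fun k => 2 ^ (c.n * c.n + 2 + (base + k)))

/-- The number of variables. -/
def PcCert.vars (c : PcCert) : ℕ := c.n * c.n + 2 + c.extra

/-- One rewriting step. -/
def PcCert.step (c : PcCert) : List ℕ → Option (List ℕ × ℕ)
  | [] => none
  | [_] => none
  | a :: b :: w =>
    bif Nat.ble b a && Nat.blt a c.n then some (c.tail a b ++ w, c.bit a b)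
    else (c.step (b :: w)).map fun p => (a :: p.1, p.2)

/-- Collection. -/
def PcCert.collect (c : PcCert) : ℕ → List ℕ → List ℕ × ℕ
  | 0, w => (w, 0)
  | f + 1, w =>
    match c.step w with
    | none => (w, 0)
    | some (w', m) => ((c.collect f w').1, m ^^^ (c.collect f w').2)

/-- Collection with a fixed bound. -/
def PcCert.nf (c : PcCert) (w : List ℕ) : List ℕ × ℕ := c.collect 4000 w

/-- Substitute words. -/
def substW (qs : List (List ℕ)) (r : List ℕ) : List ℕ := r.flatMap fun k => qs.getD k []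

/-- An equation from associativity. -/
def PcCert.assocEq (c : PcCert) (t : ℕ × ℕ × ℕ) : Bool × ℕ :=
  let a := c.nf (c.tail t.1 t.2.1 ++ [t.2.2])
  let b := c.nf (t.1 :: c.tail t.2.1 t.2.2)
  (Nat.blt t.1 c.n && Nat.ble t.2.1 t.1 && Nat.ble t.2.2 t.2.1 && (a.1 == b.1),
    (c.bit t.1 t.2.1 ^^^ a.2) ^^^ (c.bit t.2.1 t.2.2 ^^^ b.2))

/-- An equation from an involution of a known class. -/
def PcCert.squareEq (c : PcCert) (s : List ℕ × Bool) : Bool × ℕ :=
  let a := c.nf (s.1 ++ s.1)
  (a.1 == [], a.2 ^^^ c.classBit s.2)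

/-- An equation from conjugation. -/
def PcCert.fuseEq (c : PcCert) (base : ℕ) (qs vs : List (List ℕ)) (r : List ℕ × List ℕ) : Bool × ℕ :=
  let a := c.nf (substW qs r.1)
  let a' := c.nf (substW qs r.2)
  let b := c.nf (substW vs r.1)
  let b' := c.nf (substW vs r.2)
  ((a.1 == a'.1) && (b.1 == b'.1) && (r.1 ++ r.2).all (fun k => Nat.blt k qs.length) && (qs.length == vs.length)
    && Nat.ble (base + qs.length) c.extra,
    ((a.2 ^^^ c.fuseBit base r.1) ^^^ b.2) ^^^ ((a'.2 ^^^ c.fuseBit base r.2) ^^^ b'.2))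

/-- All equations. -/
def PcCert.eqs (c : PcCert) : List (Bool × ℕ) :=
  c.assoc.map c.assocEq ++ c.squares.map c.squareEq ++
    c.fuse.flatMap fun f => f.2.2.2.map (c.fuseEq f.1 f.2.1 f.2.2.1)

/-- The correction along a word. -/
def PcCert.shift (c : PcCert) (w : List ℕ) : ℕ := xorAll (w.map fun k => c.delta.getD k 0)

/-- The shape of a rule. -/
def PcCert.shapeOK (c : PcCert) (j i : ℕ) : Bool :=
  bif j == i then (c.tail j i).all (fun k => Nat.blt i k && Nat.blt k c.n)
  else match c.tail j i with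
    | [] => false
    | h :: t => (h == i) && t.all fun k => Nat.blt i k && Nat.blt k c.n

/-- The check. -/
def PcCert.ok (c : PcCert) : Bool :=
  let E := c.eqs
  E.all (·.1) &&
    (List.range c.n).all fun j => (List.range c.n).all fun i => Nat.blt j i ||
      (c.shapeOK j i && (((c.sels.getD j []).getD i []).all fun e => Nat.blt e E.length) &&
        (xorAll (((c.sels.getD j []).getD i []).map fun e => (E.getD e (false, 0)).2) ==
          c.bit j i ^^^ (c.shift [j, i] ^^^ c.shift (c.tail j i))))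

section Sound

variable {Γ : Type u} [Group Γ] (ζ : Γ) (X : ℕ → Γ) (ρ : ℕ → Bool) (c : PcCert)

/-- The value of a word. -/
def wordVal (w : List ℕ) : Γ := (w.map X).prod

/-- The sign. -/
def sgn (b : Bool) : Γ := bif b then ζ else 1

theorem wordVal_append (a b : List ℕ) : wordVal X (a ++ b) = wordVal X a * wordVal X b := by
  simp [wordVal, List.prod_append]

theorem wordVal_cons (a : ℕ) (b : List ℕ) : wordVal X (a :: b) = X a * wordVal X b := by
  simp [wordVal]

theorem wordVal_substW (qs : List (List ℕ)) : ∀ r : List ℕ,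
    wordVal X (substW qs r) = (r.map fun k => wordVal X (qs.getD k [])).prod
  | [] => rfl
  | k :: r => by
    rw [substW, List.flatMap_cons, wordVal_append]
    exact congrArg (_ * ·) (wordVal_substW qs r)

variable {ζ}

theorem sgn_xor (h2 : ζ * ζ = 1) (a b : Bool) : sgn ζ (a ^^ b) = sgn ζ a * sgn ζ b := by
  cases a <;> cases b <;> simp [sgn, h2]

theorem sgn_comm (hc : ∀ g, g * ζ = ζ * g) (g : Γ) (b : Bool) : g * sgn ζ b = sgn ζ b * g := by
  cases b <;> simp [sgn, hc]

theorem sgn_inj (h1 : ζ ≠ 1) {a b : Bool} (h : sgn ζ a = sgn ζ b) : a = b := by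
  cases a <;> cases b <;> simp [sgn, h1, Ne.symm h1] at h ⊢

variable (h2 : ζ * ζ = 1) (hc : ∀ g, g * ζ = ζ * g)
  (hrule : ∀ j < c.n, ∀ i ≤ j, X j * X i = wordVal X (c.tail j i) * sgn ζ (ρ (j * c.n + i)))

include hrule in
theorem rule_bit {j i : ℕ} (hj : j < c.n) (hi : i ≤ j) :
    X j * X i = wordVal X (c.tail j i) * sgn ζ (ev ρ c.vars (c.bit j i)) := by
  have hlt : j * c.n + i < c.vars := by
    have : (j + 1) * c.n ≤ c.n * c.n := Nat.mul_le_mul_right _ hj
    rw [Nat.add_mul] at this
    unfold PcCert.vars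
    omega
  rw [PcCert.bit, ev_bit, decide_eq_true hlt, Bool.true_and]
  exact hrule j hj i hi

include hc hrule in
theorem step_spec : ∀ (w w' : List ℕ) (m : ℕ), c.step w = some (w', m) →
    wordVal X w = wordVal X w' * sgn ζ (ev ρ c.vars m)
  | [], _, _, h => by simp [PcCert.step] at h
  | [_], _, _, h => by simp [PcCert.step] at h
  | a :: b :: w, w', m, h => by
    rw [PcCert.step] at h
    cases hab : (Nat.ble b a && Nat.blt a c.n) <;> rw [hab] at h
    · obtain ⟨⟨p, q⟩, hp, e⟩ := Option.map_eq_some_iff.mp h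
      obtain ⟨rfl, rfl⟩ := Prod.mk.inj e
      rw [wordVal_cons, step_spec (b :: w) p q hp, wordVal_cons, mul_assoc]
    · obtain ⟨rfl, rfl⟩ := Prod.mk.inj (Option.some.inj h)
      simp only [Bool.and_eq_true, Nat.ble_eq, Nat.blt] at hab
      rw [wordVal_cons, wordVal_cons, ← mul_assoc, rule_bit X ρ c hrule hab.2 hab.1, wordVal_append,
        mul_assoc (wordVal X (c.tail a b)), ← sgn_comm hc, mul_assoc]

include h2 hc hrule in
theorem collect_spec : ∀ (f : ℕ) (w : List ℕ),
    wordVal X w = wordVal X (c.collect f w).1 * sgn ζ (ev ρ c.vars (c.collect f w).2)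
  | 0, w => by simp [PcCert.collect, ev_zero, sgn]
  | f + 1, w => by
    rw [PcCert.collect]
    split
    · simp [ev_zero, sgn]
    · next w' m hw =>
      rw [step_spec X ρ c hc hrule w w' m hw, collect_spec f w', ev_xor, sgn_xor h2, mul_assoc,
        sgn_comm hc (sgn ζ (ev ρ c.vars (c.collect f w').2))]

end Sound

variable {Γ : Type u} {Q : Type v} [Group Γ] [Group Q] [Finite Γ] [Finite Q]

/-- The certificate excludes even kernels. -/
theorem PcCert.two_not_dvd (c : PcCert) (hok : c.ok = true) {σ : Γ →* Q} (hσ : Cfsg.IsStemExtension σ)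
    (x : ℕ → Q) (r : Bool → Q) (hr : ∀ b, r b * r b = 1)
    (hrules : ∀ j < c.n, ∀ i ≤ j, x j * x i = wordVal x (c.tail j i))
    (hsq : ∀ s ∈ c.squares, ∃ g, wordVal x s.1 = g * r s.2 * g⁻¹)
    (hfus : ∀ f ∈ c.fuse, ∃ g, ∀ k < f.2.1.length,
      g * wordVal x (f.2.1.getD k []) * g⁻¹ = wordVal x (f.2.2.1.getD k []))
    (hdisj : c.fuse.length ≤ 1)
    (hP : Nat.card (Subgroup.closure (x '' {i | i < c.n})) = 2 ^ (Nat.card Q).factorization 2)
    (hn : 2 ^ c.n = Nat.card (Subgroup.closure (x '' {i | i < c.n}))) : ¬ 2 ∣ Nat.card σ.ker := by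
  intro h2dvd
  obtain ⟨Δ, _, _, τ, hτ, hk⟩ := exists_ker_two hσ h2dvd
  haveI : Fact (Nat.Prime 2) := ⟨Nat.prime_two⟩
  obtain ⟨⟨ζ, hζk⟩, hζ⟩ := exists_prime_orderOf_dvd_card' 2 (dvd_of_eq hk.symm : 2 ∣ Nat.card τ.ker)
  rw [Subgroup.orderOf_mk] at hζ
  have hζ1 : ζ ≠ 1 := fun e => by rw [e, orderOf_one] at hζ; omega
  have hζ2 : ζ * ζ = 1 := by rw [← sq, ← hζ, pow_orderOf_eq_one]
  have hc : ∀ g, g * ζ = ζ * g := Subgroup.mem_center_iff.mp (hτ.2.1 hζk)
  have hsplit : ∀ a b : Δ, τ a = τ b → ∃ s : Bool, a = b * sgn ζ s := by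
    intro a b e
    classical
    by_cases h : b⁻¹ * a = 1
    · exact ⟨false, by rw [inv_mul_eq_one.mp h]; simp [sgn]⟩
    · refine ⟨true, ?_⟩
      have hmem : b⁻¹ * a ∈ τ.ker := by rw [MonoidHom.mem_ker, map_mul, map_inv, e, inv_mul_cancel]
      obtain ⟨u, v, huv, hset⟩ := Nat.card_eq_two_iff.mp hk
      have all : ∀ w : τ.ker, w = 1 ∨ w = ⟨ζ, hζk⟩ := by
        intro w
        by_contra hw
        push Not at hw
        have hne : (1 : τ.ker) ≠ ⟨ζ, hζk⟩ := fun e => hζ1 (congrArg Subtype.val e).symm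
        have cases' : ∀ z : τ.ker, z = u ∨ z = v := fun z => by
          have : z ∈ ({u, v} : Set τ.ker) := hset ▸ Set.mem_univ z
          exact this
        rcases cases' 1 with h1 | h1 <;> rcases cases' ⟨ζ, hζk⟩ with h3 | h3 <;> rcases cases' w with h4 | h4 <;>
          simp_all
      rcases all ⟨_, hmem⟩ with h' | h'
      · exact absurd (congrArg Subtype.val h') h
      · rw [show sgn ζ true = b⁻¹ * a from (congrArg Subtype.val h').symm, mul_inv_cancel_left]
  choose lift hlift using hτ.1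
  let X : ℕ → Δ := fun k => lift (x k)
  have hX : ∀ w : List ℕ, τ (wordVal X w) = wordVal x w := by
    intro w
    induction w with
    | nil => simp [wordVal]
    | cons a w ih => rw [wordVal_cons, wordVal_cons, map_mul, ih, hlift]
  classical
  let G : Q → Δ := lift
  let R : Bool → Δ := fun b => lift (r b)
  let fz : ℕ × List (List ℕ) × List (List ℕ) × List (List ℕ × List ℕ) := c.fuse.headD (0, [], [], [])
  obtain ⟨g0, hg0⟩ : ∃ g : Q, ∀ k < fz.2.1.length,
      g * wordVal x (fz.2.1.getD k []) * g⁻¹ = wordVal x (fz.2.2.1.getD k []) := by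
    show ∃ g : Q, ∀ k < (c.fuse.headD (0, [], [], [])).2.1.length, _
    rcases hf : c.fuse with _ | ⟨f, l⟩
    · exact ⟨1, fun k hk => absurd hk (by simp)⟩
    · obtain ⟨g, hg⟩ := hfus f (by rw [hf]; exact List.mem_cons_self)
      exact ⟨g, by simpa [fz, hf] using hg⟩
  let ρ : ℕ → Bool := fun v =>
    if v < c.n * c.n then decide (X (v / c.n) * X (v % c.n) ≠ wordVal X (c.tail (v / c.n) (v % c.n)))
    else if v = c.n * c.n then decide (R false * R false ≠ 1)
    else if v = c.n * c.n + 1 then decide (R true * R true ≠ 1)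
    else decide (wordVal X (fz.2.2.1.getD (v - (c.n * c.n + 2) - fz.1) []) ≠
      G g0 * wordVal X (fz.2.1.getD (v - (c.n * c.n + 2) - fz.1) []) * (G g0)⁻¹)
  have hsgn : ∀ a b : Δ, τ a = τ b → a = b * sgn ζ (decide (a ≠ b)) := by
    intro a b e
    obtain ⟨s, hs⟩ := hsplit a b e
    by_cases h : a = b
    · simp [h, sgn]
    · cases s
      · exact absurd (by simpa [sgn] using hs) h
      · simpa [h] using hs
  have hrule : ∀ j < c.n, ∀ i ≤ j, X j * X i = wordVal X (c.tail j i) * sgn ζ (ρ (j * c.n + i)) := by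
    intro j hj i hi
    have hlt : j * c.n + i < c.n * c.n := by
      have : (j + 1) * c.n ≤ c.n * c.n := Nat.mul_le_mul_right _ hj
      rw [Nat.add_mul] at this
      omega
    have e1 : (j * c.n + i) / c.n = j := by
      rw [Nat.mul_comm, Nat.mul_add_div (by omega), Nat.div_eq_of_lt (by omega), Nat.add_zero]
    have e2 : (j * c.n + i) % c.n = i := by
      rw [Nat.mul_comm, Nat.mul_add_mod, Nat.mod_eq_of_lt (by omega)]
    simp only [ρ, if_pos hlt, e1, e2]
    exact hsgn _ _ (by rw [map_mul, hlift, hlift, hX, hrules j hj i hi])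
  have nfs : ∀ w, wordVal X w = wordVal X (c.nf w).1 * sgn ζ (ev ρ c.vars (c.nf w).2) := fun w =>
    collect_spec X ρ c hζ2 hc hrule 4000 w
  have cancel : ∀ (a : Δ) {s t : Bool}, a * sgn ζ s = a * sgn ζ t → (s ^^ t) = false := fun a s t e => by
    rw [sgn_inj hζ1 (mul_left_cancel e)]; exact Bool.xor_self t
  have heq : ∀ e ∈ c.eqs, e.1 = true → ev ρ c.vars e.2 = false := by
    intro e he hok'
    rcases List.mem_append.mp he with he | he
    rcases List.mem_append.mp he with he | he
    · obtain ⟨⟨k, j, i⟩, -, rfl⟩ := List.mem_map.mp he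
      simp only [PcCert.assocEq, Bool.and_eq_true, Nat.blt, Nat.ble_eq, beq_iff_eq] at hok' ⊢
      obtain ⟨⟨⟨hk, hjk⟩, hij⟩, hw⟩ := hok'
      have e1 : wordVal X [k, j, i] = wordVal X (c.nf (c.tail k j ++ [i])).1 *
          sgn ζ (ev ρ c.vars (c.bit k j ^^^ (c.nf (c.tail k j ++ [i])).2)) := by
        rw [wordVal_cons, wordVal_cons, ← mul_assoc, rule_bit X ρ c hrule hk hjk, mul_assoc, ← sgn_comm hc,
          ← mul_assoc, ← wordVal_append, nfs, mul_assoc, ← sgn_xor hζ2, ev_xor, Bool.xor_comm]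
      have e2 : wordVal X [k, j, i] = wordVal X (c.nf (k :: c.tail j i)).1 *
          sgn ζ (ev ρ c.vars (c.bit j i ^^^ (c.nf (k :: c.tail j i)).2)) := by
        rw [wordVal_cons, wordVal_cons, show wordVal X [i] = X i by simp [wordVal],
          rule_bit X ρ c hrule (lt_of_le_of_lt hjk hk) hij, ← mul_assoc, ← wordVal_cons, nfs, mul_assoc,
          ← sgn_xor hζ2, ev_xor, Bool.xor_comm]
      rw [e1, hw] at e2
      rw [ev_xor]
      exact cancel _ e2
    · obtain ⟨⟨w, b⟩, hs, rfl⟩ := List.mem_map.mp he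
      simp only [PcCert.squareEq, beq_iff_eq] at hok' ⊢
      obtain ⟨g, hg⟩ := hsq _ hs
      obtain ⟨s, hs'⟩ := hsplit (wordVal X w) (G g * R b * (G g)⁻¹)
        (by rw [hX, hg, map_mul, map_mul, map_inv, hlift, hlift])
      have hb : R b * R b = sgn ζ (ev ρ c.vars (c.classBit b)) := by
        have := hsgn (R b * R b) 1 (by rw [map_mul, hlift, hr, map_one])
        rw [one_mul] at this
        rw [PcCert.classBit, ev_bit, decide_eq_true (by cases b <;> simp [PcCert.vars] <;> omega),
          Bool.true_and, this]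
        cases b <;> simp [ρ]
      have hsq2 : wordVal X (w ++ w) = sgn ζ (ev ρ c.vars (c.classBit b)) := by
        rw [wordVal_append, hs', mul_assoc _ (sgn ζ s), ← sgn_comm hc (_ * sgn ζ s), mul_assoc _ (sgn ζ s),
          ← sgn_xor hζ2, Bool.xor_self, show sgn ζ false = 1 from rfl, mul_one,
          show G g * R b * (G g)⁻¹ * (G g * R b * (G g)⁻¹) = G g * (R b * R b) * (G g)⁻¹ by group, hb,
          sgn_comm hc, mul_inv_cancel_right]
      have := nfs (w ++ w)
      rw [hok', hsq2] at this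
      simp only [wordVal, List.map_nil, List.prod_nil, one_mul] at this
      rw [ev_xor, sgn_inj hζ1 this]
      exact Bool.xor_self _
    · obtain ⟨f, hf, he⟩ := List.mem_flatMap.mp he
      obtain ⟨⟨r1, r2⟩, -, rfl⟩ := List.mem_map.mp he
      have hfz : fz = f := by
        rcases hl : c.fuse with _ | ⟨f', l⟩
        · rw [hl] at hf; exact absurd hf (List.not_mem_nil)
        · rw [hl] at hdisj hf
          simp only [List.length_cons] at hdisj
          obtain rfl : l = [] := List.length_eq_zero_iff.mp (by omega)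
          simp only [List.mem_singleton] at hf
          simp [fz, hl, hf]
      subst hfz
      simp only [PcCert.fuseEq, Bool.and_eq_true, beq_iff_eq, List.all_eq_true, Nat.blt, Nat.ble_eq] at hok' ⊢
      obtain ⟨⟨⟨⟨ha, hb⟩, hlt⟩, hlen⟩, hex⟩ := hok'
      have hconj : ∀ r' : List ℕ, (∀ k ∈ r', k < fz.2.1.length) → wordVal X (substW fz.2.2.1 r') =
          G g0 * wordVal X (substW fz.2.1 r') * (G g0)⁻¹ * sgn ζ (ev ρ c.vars (c.fuseBit fz.1 r')) := by
        intro r' hr'
        induction r' with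
        | nil => simp [substW, wordVal, PcCert.fuseBit, xorAll, ev_zero, sgn]
        | cons k r' ih =>
          have hkl := hr' k List.mem_cons_self
          have hbit : ev ρ c.vars (2 ^ (c.n * c.n + 2 + (fz.1 + k))) =
              decide (wordVal X (fz.2.2.1.getD k []) ≠ G g0 * wordVal X (fz.2.1.getD k []) * (G g0)⁻¹) := by
            rw [ev_bit, decide_eq_true (by unfold PcCert.vars; omega), Bool.true_and]
            simp only [ρ, if_neg (show ¬ c.n * c.n + 2 + (fz.1 + k) < c.n * c.n by omega),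
              if_neg (show ¬ c.n * c.n + 2 + (fz.1 + k) = c.n * c.n by omega),
              if_neg (show ¬ c.n * c.n + 2 + (fz.1 + k) = c.n * c.n + 1 by omega),
              show c.n * c.n + 2 + (fz.1 + k) - (c.n * c.n + 2) - fz.1 = k by omega]
          have hk0 := hsgn (wordVal X (fz.2.2.1.getD k [])) (G g0 * wordVal X (fz.2.1.getD k []) * (G g0)⁻¹)
            (by rw [hX, map_mul, map_mul, map_inv, hlift, hX, hg0 k hkl])
          rw [← hbit] at hk0
          rw [show substW fz.2.2.1 (k :: r') = fz.2.2.1.getD k [] ++ substW fz.2.2.1 r' from List.flatMap_cons,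
            show substW fz.2.1 (k :: r') = fz.2.1.getD k [] ++ substW fz.2.1 r' from List.flatMap_cons,
            wordVal_append, wordVal_append, ih fun k' h' => hr' k' (List.mem_cons_of_mem _ h'), hk0,
            show c.fuseBit fz.1 (k :: r') = 2 ^ (c.n * c.n + 2 + (fz.1 + k)) ^^^ c.fuseBit fz.1 r' from rfl,
            ev_xor, sgn_xor hζ2, mul_assoc _ (sgn ζ (ev ρ c.vars (2 ^ (c.n * c.n + 2 + (fz.1 + k))))),
            ← mul_assoc (sgn ζ (ev ρ c.vars (2 ^ (c.n * c.n + 2 + (fz.1 + k))))), ← sgn_comm hc]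
          group
      have side : ∀ r' : List ℕ, (∀ k ∈ r', k < fz.2.1.length) →
          G g0 * wordVal X (c.nf (substW fz.2.1 r')).1 * (G g0)⁻¹ *
              sgn ζ (ev ρ c.vars ((c.nf (substW fz.2.1 r')).2 ^^^ c.fuseBit fz.1 r')) =
            wordVal X (c.nf (substW fz.2.2.1 r')).1 * sgn ζ (ev ρ c.vars (c.nf (substW fz.2.2.1 r')).2) := by
        intro r' hr'
        rw [← nfs, hconj r' hr', ev_xor, sgn_xor hζ2]
        conv_rhs => rw [nfs (substW fz.2.1 r')]
        rw [← mul_assoc (G g0), mul_assoc _ (sgn ζ (ev ρ c.vars (c.nf (substW fz.2.1 r')).2)) (G g0)⁻¹,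
          ← sgn_comm hc (G g0)⁻¹]
        simp only [mul_assoc]
      have s1 := side r1 fun k hk => hlt k (List.mem_append_left _ hk)
      have s2 := side r2 fun k hk => hlt k (List.mem_append_right _ hk)
      rw [← ha, ← hb] at s2
      rw [← mul_inv_eq_iff_eq_mul] at s1 s2
      have inv_sgn : ∀ b, (sgn ζ b)⁻¹ = sgn ζ b := fun b => inv_eq_of_mul_eq_one_right (by
        rw [← sgn_xor hζ2, Bool.xor_self]; rfl)
      rw [inv_sgn, mul_assoc, ← sgn_xor hζ2, ← ev_xor] at s1 s2
      rw [ev_xor]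
      exact cancel _ (s1.trans s2.symm)
  simp only [PcCert.ok, Bool.and_eq_true, List.all_eq_true, List.mem_range, Bool.or_eq_true, Nat.blt,
    Nat.ble_eq, beq_iff_eq] at hok
  obtain ⟨hall, hfin⟩ := hok
  let X' : ℕ → Δ := fun k => X k * sgn ζ (ev ρ c.vars (c.delta.getD k 0))
  have hX' : ∀ w, wordVal X' w = wordVal X w * sgn ζ (ev ρ c.vars (c.shift w)) := by
    intro w
    induction w with
    | nil => simp [wordVal, PcCert.shift, xorAll, ev_zero, sgn]
    | cons a w ih =>
      rw [wordVal_cons, wordVal_cons, ih,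
        show c.shift (a :: w) = c.delta.getD a 0 ^^^ c.shift w from rfl, ev_xor, sgn_xor hζ2]
      simp only [X', mul_assoc]
      rw [← mul_assoc (sgn ζ (ev ρ c.vars (c.delta.getD a 0))) (wordVal X w), ← sgn_comm hc, mul_assoc]
  have hexact : ∀ j < c.n, ∀ i ≤ j, X' j * X' i = wordVal X' (c.tail j i) := by
    intro j hj i hi
    rcases hfin j hj i (lt_of_le_of_lt hi hj) with h | ⟨⟨-, hidx⟩, hsel⟩
    · omega
    have h0 : ev ρ c.vars (c.bit j i ^^^ (c.shift [j, i] ^^^ c.shift (c.tail j i))) = false := by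
      rw [← hsel]
      refine ev_xorAll ρ _ _ fun a ha => ?_
      obtain ⟨e, he, rfl⟩ := List.mem_map.mp ha
      have hel : e < c.eqs.length := hidx e he
      rw [List.getD_eq_getElem _ _ hel]
      exact heq _ (List.getElem_mem hel) (hall _ (List.getElem_mem hel))
    have e1 : X' j * X' i = wordVal X' [j, i] := by simp [wordVal]
    rw [e1, hX', hX', show wordVal X [j, i] = X j * X i by simp [wordVal], rule_bit X ρ c hrule hj hi,
      mul_assoc, ← sgn_xor hζ2]
    refine congrArg (_ * sgn ζ ·) ?_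
    rw [ev_xor, ev_xor] at h0
    revert h0
    cases ev ρ c.vars (c.bit j i) <;> cases ev ρ c.vars (c.shift [j, i]) <;>
      cases ev ρ c.vars (c.shift (c.tail j i)) <;> simp
  let H : ℕ → Subgroup Δ := fun i => Subgroup.closure (X' '' {k | i ≤ k ∧ k < c.n})
  have hcardH : ∀ d, ∀ i, i + d = c.n → Nat.card (H i) ≤ 2 ^ d := by
    intro d
    induction d with
    | zero =>
      intro i hi
      have : H i = ⊥ := by
        refine (Subgroup.closure_eq_bot_iff).mpr ?_
        rintro _ ⟨k, ⟨h1, h3⟩, rfl⟩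
        omega
      rw [this]; simp
    | succ d ih =>
      intro i hi
      have hin : i < c.n := by omega
      have htail : ∀ (l : List ℕ), (∀ k ∈ l, i + 1 ≤ k ∧ k < c.n) → wordVal X' l ∈ H (i + 1) := fun l hl =>
        Subgroup.list_prod_mem _ fun z hz => by
          obtain ⟨k, hk, rfl⟩ := List.mem_map.mp hz
          exact Subgroup.subset_closure ⟨k, hl k hk, rfl⟩
      have hsq' : X' i * X' i ∈ H (i + 1) := by
        rw [hexact i hin i le_rfl]
        rcases hfin i hin i hin with h | ⟨⟨hsh, -⟩, -⟩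
        · omega
        simp only [PcCert.shapeOK, beq_self_eq_true, cond_true, List.all_eq_true, Bool.and_eq_true, Nat.blt,
          Nat.ble_eq] at hsh
        exact htail _ fun k hk => hsh k hk
      have hconj : ∀ h ∈ H (i + 1), (X' i)⁻¹ * h * X' i ∈ H (i + 1) := by
        intro h hh
        induction hh using Subgroup.closure_induction with
        | mem z hz =>
          obtain ⟨k, ⟨hk1, hk2⟩, rfl⟩ := hz
          rcases hfin k hk2 i hin with h' | ⟨⟨hsh, -⟩, -⟩
          · omega
          rw [PcCert.shapeOK, show (k == i) = false from beq_eq_false_iff_ne.mpr (by omega), cond_false] at hsh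
          rcases hl : c.tail k i with _ | ⟨h0, t⟩
          · rw [hl] at hsh; exact absurd hsh Bool.false_ne_true
          rw [hl] at hsh
          simp only [Bool.and_eq_true, beq_iff_eq, List.all_eq_true, Nat.blt, Nat.ble_eq] at hsh
          rw [mul_assoc, hexact k hk2 i (by omega), hl, hsh.1, wordVal_cons, inv_mul_cancel_left]
          exact htail t fun k' hk' => hsh.2 k' hk'
        | one => simpa using one_mem (H (i + 1))
        | mul a b _ _ iha ihb =>
          rw [show (X' i)⁻¹ * (a * b) * X' i = (X' i)⁻¹ * a * X' i * ((X' i)⁻¹ * b * X' i) by group]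
          exact mul_mem iha ihb
        | inv a _ iha =>
          rw [show (X' i)⁻¹ * a⁻¹ * X' i = ((X' i)⁻¹ * a * X' i)⁻¹ by group]
          exact inv_mem iha
      have hcomb : ∀ g ∈ H i, g ∈ H (i + 1) ∨ (X' i)⁻¹ * g ∈ H (i + 1) := by
        intro g hg
        have hg' : g ∈ Submonoid.closure (X' '' {k | i ≤ k ∧ k < c.n}) := by
          rw [← Subgroup.closure_toSubmonoid_of_finite]; exact hg
        clear hg
        induction hg' using Submonoid.closure_induction with
        | mem z hz =>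
          obtain ⟨k, ⟨hk1, hk2⟩, rfl⟩ := hz
          rcases Nat.lt_or_ge i k with h | h
          · exact Or.inl (Subgroup.subset_closure ⟨k, ⟨h, hk2⟩, rfl⟩)
          · obtain rfl : k = i := le_antisymm h hk1
            exact Or.inr (by rw [inv_mul_cancel]; exact one_mem _)
        | one => exact Or.inl (one_mem _)
        | mul a b _ _ iha ihb =>
          have hb' : b ∈ H (i + 1) ∨ (X' i)⁻¹ * b ∈ H (i + 1) := ihb
          rcases iha with ha | ha <;> rcases hb' with hb | hb
          · exact Or.inl (mul_mem ha hb)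
          · refine Or.inr ?_
            rw [show (X' i)⁻¹ * (a * b) = (X' i)⁻¹ * a * X' i * ((X' i)⁻¹ * b) by group]
            exact mul_mem (hconj a ha) hb
          · refine Or.inr ?_
            rw [← mul_assoc]
            exact mul_mem ha hb
          · refine Or.inl ?_
            rw [show a * b = X' i * X' i * ((X' i)⁻¹ * ((X' i)⁻¹ * a) * X' i) * ((X' i)⁻¹ * b) by group]
            exact mul_mem (mul_mem hsq' (hconj _ ha)) hb
      have hih := ih (i + 1) (by omega)
      calc Nat.card (H i) = ((H i : Set Δ)).ncard := (Nat.card_coe_set_eq _)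
        _ ≤ ((H (i + 1) : Set Δ) ∪ (fun h => X' i * h) '' (H (i + 1) : Set Δ)).ncard := by
            refine Set.ncard_le_ncard fun g hg => ?_
            rcases hcomb g hg with h | h
            · exact Or.inl h
            · exact Or.inr ⟨_, h, mul_inv_cancel_left _ _⟩
        _ ≤ ((H (i + 1) : Set Δ)).ncard + ((fun h => X' i * h) '' (H (i + 1) : Set Δ)).ncard :=
            Set.ncard_union_le _ _
        _ ≤ Nat.card (H (i + 1)) + Nat.card (H (i + 1)) := by
            rw [← Nat.card_coe_set_eq]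
            exact Nat.add_le_add_left ((Set.ncard_image_le (Set.toFinite _)).trans_eq (Nat.card_coe_set_eq _).symm) _
        _ ≤ 2 ^ (d + 1) := by rw [pow_succ]; omega
  have hmap : (H 0).map τ = Subgroup.closure (x '' {i | i < c.n}) := by
    rw [MonoidHom.map_closure]
    congr 1
    rw [Set.image_image]
    rw [show ({k | 0 ≤ k ∧ k < c.n} : Set ℕ) = {i | i < c.n} by ext; simp]
    refine Set.image_congr' fun k => ?_
    have hker : τ (sgn ζ (ev ρ c.vars (c.delta.getD k 0))) = 1 := by
      cases ev ρ c.vars (c.delta.getD k 0) <;> simp [sgn, MonoidHom.mem_ker.mp hζk]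
    rw [map_mul, hlift, hker, mul_one]
  obtain ⟨S, hS⟩ := exists_sylow_map_le hτ.1 (p := 2) _ hP
  rw [← hmap, Subgroup.map_le_iff_le_comap, Subgroup.comap_map_eq] at hS
  have hcomm : ⁅(S : Subgroup Δ), (S : Subgroup Δ)⁆ ≤ H 0 := by
    refine (Subgroup.commutator_mono hS hS).trans (Subgroup.commutator_le.mpr fun a ha b hb => ?_)
    haveI : (τ.ker).Normal := MonoidHom.normal_ker τ
    obtain ⟨a1, ha1, a2, ha2, rfl⟩ := (Subgroup.mem_sup_of_normal_right (s := H 0)).mp ha
    obtain ⟨b1, hb1, b2, hb2, rfl⟩ := (Subgroup.mem_sup_of_normal_right (s := H 0)).mp hb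
    have ca := Subgroup.mem_center_iff.mp (hτ.2.1 ha2)
    have cb := Subgroup.mem_center_iff.mp (hτ.2.1 hb2)
    rw [comm_congr τ hτ.2.1 (g := a1 * a2) (g' := a1) (h := b1 * b2) (h' := b1)
      (by rw [map_mul, MonoidHom.mem_ker.mp ha2, mul_one]) (by rw [map_mul, MonoidHom.mem_ker.mp hb2, mul_one])]
    exact mul_mem (mul_mem (mul_mem ha1 hb1) (inv_mem ha1)) (inv_mem hb1)
  have hzH := hcomm (mem_commutator_sylow hτ hζk (by rw [← hζ, pow_orderOf_eq_one]) S)
  let f : H 0 →* Q := τ.comp (H 0).subtype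
  have hfr : f.range = Subgroup.closure (x '' {i | i < c.n}) := by
    rw [← hmap, MonoidHom.range_eq_map, ← Subgroup.map_map, ← MonoidHom.range_eq_map, Subgroup.range_subtype]
  have hk0 : Nat.card f.ker = 1 := by
    have h1 := Subgroup.index_mul_card f.ker
    rw [Subgroup.index_ker, hfr, ← hn] at h1
    have h3 := hcardH c.n 0 (Nat.zero_add _)
    rw [← h1] at h3
    have hpos : 0 < Nat.card f.ker := Nat.card_pos
    have : 2 ^ c.n * Nat.card f.ker ≤ 2 ^ c.n * 1 := by rwa [mul_one]
    have := Nat.le_of_mul_le_mul_left this (by positivity)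
    omega
  have hmem : (⟨ζ, hzH⟩ : H 0) ∈ f.ker := hζk
  rw [Subgroup.card_eq_one.mp hk0, Subgroup.mem_bot] at hmem
  exact hζ1 (congrArg Subtype.val hmem)

end Cfsg.Lib.Schur
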