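import Cfsg.Agent.Schur.SylowTransfer

/-!
An extraspecial Sylow subgroup of exponent `p`, inverted on its generators.
-/

set_option autoImplicit false

namespace Cfsg.Lib.Schur

open scoped commutatorElement

universe u v

variable {Γ : Type u} {Q : Type v} [Group Γ] [Group Q] [Finite Γ] [Finite Q] {σ : Γ →* Q} {p : ℕ}
  [hp : Fact p.Prime]

omit [Finite Γ] [Finite Q] in
/-- Commutators with inverted central images are trivial in odd characteristic. -/
theorem commutator_eq_one_of_inverted (hc : σ.ker ≤ Subgroup.center Γ) (hp2 : p ≠ 2) {x y N : Γ}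
    (hx : σ x ^ p = 1) (hxy : ⁅σ x, σ y⁆ = 1) (hNx : σ (N * x * N⁻¹) = σ x⁻¹) (hNy : σ (N * y * N⁻¹) = σ y) :
    ⁅x, y⁆ = 1 := by
  set u := ⁅x, y⁆ with hu
  have hu1 : σ u = 1 := by rw [hu, map_commutatorElement, hxy]
  have hz : ∀ g, g * u = u * g := Subgroup.mem_center_iff.mp (hc hu1)
  have e : u = ⁅x⁻¹, y⁆ := by
    calc u = N * u * N⁻¹ := by rw [hz, mul_inv_cancel_right]
      _ = ⁅N * x * N⁻¹, N * y * N⁻¹⁆ := by rw [hu]; simp only [commutatorElement_def]; group
      _ = ⁅x⁻¹, y⁆ := comm_congr σ hc hNx hNy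
  have e2 : ⁅x⁻¹, y⁆ = u⁻¹ := by
    rw [show ⁅x⁻¹, y⁆ = x⁻¹ * ⁅x, y⁆⁻¹ * x by simp only [commutatorElement_def]; group, ← hu]
    rw [show x⁻¹ * u⁻¹ = u⁻¹ * x⁻¹ from ((show Commute x⁻¹ u from hz x⁻¹).inv_right).eq, inv_mul_cancel_right]
  have h2 : u ^ 2 = 1 := by
    rw [sq]; conv_lhs => arg 2; rw [e, e2]
    exact mul_inv_cancel u
  have h3 : u ^ p = 1 := commutator_lift_pow hc hx hxy
  have hg : Nat.gcd 2 p = 1 := (Nat.coprime_primes Nat.prime_two hp.out).mpr hp2.symm
  have := pow_gcd_eq_one.mpr ⟨h2, h3⟩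
  rwa [hg, pow_one] at this

/-- The Sylow criterion. -/
theorem exists_sylow_extraspecial (hσ : Cfsg.IsStemExtension σ) (hp2 : p ≠ 2) (a b n : Q)
    (hcard : Nat.card (Subgroup.closure {a, b}) = p ^ (Nat.card Q).factorization p)
    (ha : a ^ p = 1) (hb : b ^ p = 1) (hac : a * ⁅a, b⁆ = ⁅a, b⁆ * a) (hbc : b * ⁅a, b⁆ = ⁅a, b⁆ * b)
    (hc : ⁅a, b⁆ ≠ 1) (h1 : n * a * n⁻¹ = a⁻¹) (h2 : n * b * n⁻¹ = b⁻¹) :
    ∃ S : Sylow p Γ, ∀ z ∈ σ.ker, z ∈ ⁅(S : Subgroup Γ), (S : Subgroup Γ)⁆ → z = 1 := by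
  obtain ⟨S, hS⟩ := exists_sylow_map_le hσ.1 _ hcard
  obtain ⟨A, rfl⟩ := hσ.1 a
  obtain ⟨B, rfl⟩ := hσ.1 b
  obtain ⟨N, rfl⟩ := hσ.1 n
  set C := ⁅A, B⁆ with hC
  have hσC : σ C = ⁅σ A, σ B⁆ := map_commutatorElement σ A B
  have kA : ⁅σ A, σ C⁆ = 1 := by rw [hσC, commutatorElement_eq_one_iff_mul_comm]; exact hac
  have kB : ⁅σ B, σ C⁆ = 1 := by rw [hσC, commutatorElement_eq_one_iff_mul_comm]; exact hbc
  have eA : σ (N * A * N⁻¹) = σ A⁻¹ := by rw [map_mul, map_mul, map_inv, map_inv, h1]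
  have eB : σ (N * B * N⁻¹) = σ B⁻¹ := by rw [map_mul, map_mul, map_inv, map_inv, h2]
  have eC : σ (N * C * N⁻¹) = σ C := by
    calc σ (N * C * N⁻¹) = σ ⁅N * A * N⁻¹, N * B * N⁻¹⁆ := by
          rw [hC]; congr 1; simp only [commutatorElement_def]; group
      _ = ⁅(σ A)⁻¹, (σ B)⁻¹⁆ := by rw [map_commutatorElement, eA, eB, map_inv, map_inv]
      _ = (σ A * σ B)⁻¹ * ⁅σ A, σ B⁆ * (σ A * σ B) := by simp only [commutatorElement_def]; group
      _ = σ C := by
        rw [hσC, mul_assoc, ← ((show Commute (σ A) _ from hac).mul_left hbc).eq, inv_mul_cancel_left]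
  have hAC := commutator_eq_one_of_inverted hσ.2.1 hp2 ha kA eA eC
  have hBC := commutator_eq_one_of_inverted hσ.2.1 hp2 hb kB eB eC
  have cA : A * C = C * A := commutatorElement_eq_one_iff_mul_comm.mp hAC
  have cB : B * C = C * B := commutatorElement_eq_one_iff_mul_comm.mp hBC
  have hCp : C ^ p = 1 := by
    have key : ∀ m : ℕ, ⁅A ^ m, B⁆ = C ^ m := by
      intro m
      induction m with
      | zero => rw [pow_zero, pow_zero, commutatorElement_one_left]
      | succ m ih =>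
        rw [pow_succ' A m, show ⁅A * A ^ m, B⁆ = A * ⁅A ^ m, B⁆ * A⁻¹ * ⁅A, B⁆ by
          simp only [commutatorElement_def]; group, ih, ((show Commute A C from cA).pow_right m).eq,
          mul_inv_cancel_right, ← pow_succ]
    rw [← key p, commutatorElement_eq_one_iff_mul_comm]
    exact (Subgroup.mem_center_iff.mp (hσ.2.1 (show σ (A ^ p) = 1 by rw [map_pow, ha])) B).symm
  refine ⟨S, fun z hz hzS => ?_⟩
  have hker : ∀ x ∈ (σ.ker : Set Γ), ∀ g : Γ, g * x = x * g := fun x hx =>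
    Subgroup.mem_center_iff.mp (hσ.2.1 hx)
  have hzC : z ∈ Subgroup.zpowers C := by
    refine (Subgroup.commutator_mono (le_closure_union_ker (σ := σ) (H := (S : Subgroup Γ)) (T := {A, B}) ?_)
      (le_closure_union_ker (σ := σ) (H := (S : Subgroup Γ)) (T := {A, B}) ?_)).trans
      (commutator_closure_le ?_ ?_) hzS
    · rw [Set.image_pair]; exact hS
    · rw [Set.image_pair]; exact hS
    · intro t ht e he
      obtain ⟨k, rfl⟩ := Subgroup.mem_zpowers_iff.mp he
      have hcm : t * C = C * t := by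
        rcases ht with (rfl | rfl) | ht
        exacts [cA, cB, (hker t ht C).symm]
      rw [((show Commute t C from hcm).zpow_right k).eq, mul_inv_cancel_right]
      exact zpow_mem (Subgroup.mem_zpowers C) k
    · rintro t ht u hu
      rcases ht with (rfl | rfl) | ht
      · rcases hu with (rfl | rfl) | hu
        · rw [commutatorElement_self]; exact one_mem _
        · exact Subgroup.mem_zpowers C
        · rw [commutatorElement_eq_one_iff_mul_comm.mpr (hker u hu t)]; exact one_mem _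
      · rcases hu with (rfl | rfl) | hu
        · rw [← commutatorElement_inv]; exact inv_mem (Subgroup.mem_zpowers C)
        · rw [commutatorElement_self]; exact one_mem _
        · rw [commutatorElement_eq_one_iff_mul_comm.mpr (hker u hu t)]; exact one_mem _
      · rw [commutatorElement_eq_one_iff_mul_comm.mpr (hker t ht u).symm]; exact one_mem _
  obtain ⟨k, hk⟩ := Subgroup.mem_zpowers_iff.mp hzC
  have hσp : σ C ^ p = 1 := by rw [← map_pow, hCp, map_one]
  have hord : orderOf (σ C) = p := orderOf_eq_prime hσp (by rw [hσC]; exact hc)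
  have hdk : (p : ℤ) ∣ k := by
    have e : σ C ^ k = 1 := by rw [← map_zpow, hk]; exact hz
    have := orderOf_dvd_iff_zpow_eq_one.mpr e
    rwa [hord] at this
  obtain ⟨m, rfl⟩ := hdk
  rw [← hk, zpow_mul, zpow_natCast, hCp, one_zpow]

end Cfsg.Lib.Schur
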