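import Cfsg.Agent.Schur.Criteria

/-!
A perfect stem extension without stem extensions of its own determines the multiplier.
-/

set_option autoImplicit false
set_option linter.style.haveILetI false

namespace Cfsg.Lib.Schur

open scoped commutatorElement

universe u

variable {Γ₀ Q : Type u} [Group Γ₀] [Group Q] [Finite Γ₀] [Finite Q]

/-- Commutators of a group generated by a subgroup and central elements. -/
theorem commutator_eq_of_central {D : Type*} [Group D] {N : Subgroup D} {K : Subgroup D}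
    (hK : K ≤ Subgroup.center D) (h : ∀ d : D, ∃ n ∈ N, ∃ k ∈ K, d = n * k) :
    commutator D ≤ ⁅N, N⁆ := by
  rw [commutator_def, Subgroup.commutator_le]
  intro a _ b _
  obtain ⟨a', ha, k, hk, rfl⟩ := h a
  obtain ⟨b', hb, l, hl, rfl⟩ := h b
  have ck := Subgroup.mem_center_iff.mp (hK hk)
  have cl := Subgroup.mem_center_iff.mp (hK hl)
  have e1 : ⁅a' * k, b' * l⁆ = ⁅a', b' * l⁆ := by
    rw [show ⁅a' * k, b' * l⁆ = a' * ⁅k, b' * l⁆ * a'⁻¹ * ⁅a', b' * l⁆ by
      simp only [commutatorElement_def]; group, commutatorElement_eq_one_iff_mul_comm.mpr (ck _).symm]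
    group
  have e2 : ⁅a', b' * l⁆ = ⁅a', b'⁆ := by
    rw [show ⁅a', b' * l⁆ = ⁅a', b'⁆ * (b' * ⁅a', l⁆ * b'⁻¹) by simp only [commutatorElement_def]; group,
      commutatorElement_eq_one_iff_mul_comm.mpr (cl _)]
    group
  rw [e1, e2]
  exact Subgroup.commutator_mem_commutator ha hb

theorem hasCyclicSchurMultiplier_of_cover (π : Γ₀ →* Q) (hπ : Cfsg.IsStemExtension π)
    (hperf : commutator Γ₀ = ⊤)
    (htriv : ∀ (Δ : Type u) [Group Δ] [Finite Δ] (τ : Δ →* Γ₀), Cfsg.IsStemExtension τ → τ.ker = ⊥)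
    (hcyc : IsCyclic π.ker) {n : ℕ} (hn : Nat.card π.ker = n) : Cfsg.HasCyclicSchurMultiplier Q n := by
  refine hasCyclicSchurMultiplier_of n ⟨Γ₀, inferInstance, inferInstance, π, hπ, hcyc, hn⟩
    fun Γ _ _ σ hσ => ?_
  have hperfQ : commutator Q = ⊤ := by
    rw [commutator_def, ← Subgroup.map_top_of_surjective π hπ.1, ← Subgroup.map_commutator, ← commutator_def,
      hperf]
  have hperfΓ : commutator Γ = ⊤ := by
    refine eq_top_iff.mpr fun g _ => ?_
    have hg : σ g ∈ (commutator Γ).map σ := by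
      rw [commutator_def, Subgroup.map_commutator, Subgroup.map_top_of_surjective σ hσ.1, ← commutator_def,
        hperfQ]
      exact Subgroup.mem_top _
    obtain ⟨d, hd, hdg⟩ := hg
    have : d⁻¹ * g ∈ σ.ker := by rw [MonoidHom.mem_ker, map_mul, map_inv, hdg, inv_mul_cancel]
    simpa using (commutator Γ).mul_mem hd (hσ.2.2 this)
  obtain ⟨D, hD⟩ : ∃ D : Subgroup (Γ₀ × Γ),
      D = (π.comp (MonoidHom.fst Γ₀ Γ)).eqLocus (σ.comp (MonoidHom.snd Γ₀ Γ)) := ⟨_, rfl⟩
  have mem : ∀ p, p ∈ D ↔ π p.1 = σ p.2 := fun p => by subst hD; exact Iff.rfl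
  let p₁ : D →* Γ₀ := (MonoidHom.fst Γ₀ Γ).comp D.subtype
  let p₂ : D →* Γ := (MonoidHom.snd Γ₀ Γ).comp D.subtype
  have hs₁ : Function.Surjective p₁ := fun a => by
    obtain ⟨b, hb⟩ := hσ.1 (π a)
    exact ⟨⟨(a, b), (mem _).mpr hb.symm⟩, rfl⟩
  have hs₂ : Function.Surjective p₂ := fun b => by
    obtain ⟨a, ha⟩ := hπ.1 (σ b)
    exact ⟨⟨(a, b), (mem _).mpr ha⟩, rfl⟩
  have hcen : p₁.ker ≤ Subgroup.center D := fun x hx => by
    have hx' : (x : Γ₀ × Γ).1 = 1 := hx
    have hk : σ (x : Γ₀ × Γ).2 = 1 := by rw [← (mem _).mp x.2, hx', map_one]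
    refine Subgroup.mem_center_iff.mpr fun y => Subtype.ext (Prod.ext ?_ ?_)
    · show (y : Γ₀ × Γ).1 * (x : Γ₀ × Γ).1 = (x : Γ₀ × Γ).1 * (y : Γ₀ × Γ).1
      rw [hx', mul_one, one_mul]
    · exact Subgroup.mem_center_iff.mp (hσ.2.1 hk) _
  have him₁ : (commutator D).map p₁ = ⊤ := by
    rw [commutator_def, Subgroup.map_commutator, Subgroup.map_top_of_surjective p₁ hs₁, ← commutator_def, hperf]
  have him₂ : (commutator D).map p₂ = ⊤ := by
    rw [commutator_def, Subgroup.map_commutator, Subgroup.map_top_of_surjective p₂ hs₂, ← commutator_def, hperfΓ]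
  have hperfD : commutator (commutator D) = ⊤ := by
    have h1 : commutator D ≤ ⁅commutator D, commutator D⁆ := by
      refine commutator_eq_of_central hcen fun d => ?_
      obtain ⟨e, he, hed⟩ := (him₁ ▸ Subgroup.mem_top (p₁ d) : p₁ d ∈ (commutator D).map p₁)
      exact ⟨e, he, e⁻¹ * d, by rw [MonoidHom.mem_ker, map_mul, map_inv, hed, inv_mul_cancel],
        (mul_inv_cancel_left e d).symm⟩
    apply Subgroup.map_injective (commutator D).subtype_injective
    rw [Subgroup.map_subtype_commutator, ← MonoidHom.range_eq_map, Subgroup.range_subtype]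
    exact le_antisymm (Subgroup.commutator_le_self _) h1
  let τ : commutator D →* Γ₀ := p₁.comp (commutator D).subtype
  have hτs : Function.Surjective τ := fun a => by
    obtain ⟨e, he, hea⟩ := (him₁ ▸ Subgroup.mem_top a : a ∈ (commutator D).map p₁)
    exact ⟨⟨e, he⟩, hea⟩
  have hτ : Cfsg.IsStemExtension τ := ⟨hτs, fun x hx => Subgroup.mem_center_iff.mpr fun y =>
    Subtype.ext (Subgroup.mem_center_iff.mp (hcen (show (x : D) ∈ p₁.ker from hx)) y), by
      rw [hperfD]; exact le_top⟩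
  have hinj : Function.Injective τ := (MonoidHom.ker_eq_bot_iff τ).mp (htriv _ τ hτ)
  let eτ := MulEquiv.ofBijective τ ⟨hinj, hτs⟩
  let f : Γ₀ →* Γ := (p₂.comp (commutator D).subtype).comp eτ.symm.toMonoidHom
  have hfs : Function.Surjective f := fun b => by
    obtain ⟨e, he, heb⟩ := (him₂ ▸ Subgroup.mem_top b : b ∈ (commutator D).map p₂)
    refine ⟨eτ ⟨e, he⟩, ?_⟩
    show p₂ ((eτ.symm (eτ ⟨e, he⟩) : commutator D) : D) = b
    rw [eτ.symm_apply_apply]
    exact heb
  have hcomp : ∀ a, σ (f a) = π a := fun a => by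
    show σ ((((eτ.symm a : commutator D) : D) : Γ₀ × Γ).2) = π a
    rw [← (mem _).mp ((eτ.symm a : commutator D) : D).2]
    exact congrArg π (eτ.apply_symm_apply a)
  have hker : π.ker.map f = σ.ker := by
    ext b
    constructor
    · rintro ⟨a, ha, rfl⟩
      rw [MonoidHom.mem_ker, hcomp]; exact ha
    · intro hb
      obtain ⟨a, rfl⟩ := hfs b
      exact ⟨a, by rw [SetLike.mem_coe, MonoidHom.mem_ker, ← hcomp]; exact hb, rfl⟩
  haveI := hcyc
  refine ⟨hker ▸ isCyclic_of_surjective (f.subgroupMap π.ker) (MonoidHom.subgroupMap_surjective f π.ker), ?_⟩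
  rw [← hker, ← hn]
  exact Subgroup.card_dvd_of_surjective (f.subgroupMap π.ker) (MonoidHom.subgroupMap_surjective f π.ker)

end Cfsg.Lib.Schur
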