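import Cfsg.Agent.Schur.SylowTransfer
import Mathlib.GroupTheory.FiniteAbelian.Duality
import Mathlib.Analysis.Complex.Polynomial.Basic

/-!
A certificate that a stem extension has kernel of order prime to a given prime: collection in the preimage of
a Sylow subgroup with unknown exponents of a central element, and linear equations for them from overlapping
rewriting and from fusion.
-/

set_option autoImplicit false
set_option linter.unusedSectionVars false

namespace Cfsg.Lib.Schur.Prime

open scoped commutatorElement Pointwise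

universe u v

/-- A finite abelian subgroup of order divisible by a prime has a subgroup of that index. -/
theorem exists_index_prime {K : Type u} [CommGroup K] [Finite K] {p : ℕ} (hp : p.Prime) (h : p ∣ Nat.card K) :
    ∃ L : Subgroup K, L.index = p := by
  haveI := Fact.mk hp
  let f : K →* K := powMonoidHom p
  obtain ⟨x, hx⟩ := exists_prime_orderOf_dvd_card' p h
  have hx1 : x ≠ 1 := fun e => by rw [e, orderOf_one] at hx; exact hp.one_lt.ne hx
  have hns : ¬ Function.Surjective f := fun hs => hx1 ((Finite.injective_iff_surjective.mpr hs)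
    (show x ^ p = (1 : K) ^ p by rw [← hx, pow_orderOf_eq_one, one_pow]))
  obtain ⟨y, hy⟩ := not_forall.mp hns
  have hy' : (QuotientGroup.mk y : K ⧸ f.range) ≠ 1 := fun e => hy ((QuotientGroup.eq_one_iff y).mp e)
  obtain ⟨χ, hχ⟩ := CommGroup.exists_apply_ne_one_of_hasEnoughRootsOfUnity (K ⧸ f.range) ℂ hy'
  let ψ : K →* ℂˣ := χ.comp (QuotientGroup.mk' f.range)
  refine ⟨ψ.ker, ?_⟩
  rw [Subgroup.index_ker]
  haveI : Finite ψ.range := Set.Finite.to_subtype (Set.finite_range ψ)
  have hpow : ∀ z : ψ.range, z ^ p = 1 := by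
    rintro ⟨_, z, rfl⟩
    refine Subtype.ext ?_
    show ψ z ^ p = 1
    rw [← map_pow]
    show χ (QuotientGroup.mk (z ^ p)) = 1
    rw [(QuotientGroup.eq_one_iff _).mpr (MonoidHom.mem_range.mpr ⟨z, rfl⟩ : z ^ p ∈ f.range), map_one]
  obtain ⟨g, hg⟩ := IsCyclic.exists_generator (α := ψ.range)
  have hcard : orderOf g = Nat.card ψ.range := orderOf_eq_card_of_forall_mem_zpowers hg
  rcases (Nat.dvd_prime hp).mp (hcard ▸ orderOf_dvd_of_pow_eq_one (hpow g)) with e | e
  · exfalso
    haveI : Subsingleton ψ.range := (Nat.card_eq_one_iff_unique.mp e).1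
    exact hχ (congrArg Subtype.val (Subsingleton.elim (⟨ψ y, y, rfl⟩ : ψ.range) 1))
  · exact e

/-- A stem extension with kernel of prime order below one with kernel of order divisible by the prime. -/
theorem exists_ker_prime {Γ : Type u} {Q : Type v} [Group Γ] [Group Q] [Finite Γ] {σ : Γ →* Q}
    (hσ : Cfsg.IsStemExtension σ) {p : ℕ} (hp : p.Prime) (h : p ∣ Nat.card σ.ker) :
    ∃ (Δ : Type u) (_ : Group Δ) (_ : Finite Δ) (τ : Δ →* Q),
      Cfsg.IsStemExtension τ ∧ Nat.card τ.ker = p := by
  letI : CommGroup σ.ker := { (inferInstance : Group σ.ker) with mul_comm := mul_comm_of_le_center hσ.2.1 }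
  obtain ⟨L, hL⟩ := exists_index_prime (K := σ.ker) hp h
  set L' : Subgroup Γ := L.map σ.ker.subtype with hL'
  have hle : L' ≤ σ.ker := Subgroup.map_subtype_le L
  haveI : L'.Normal := normal_of_le_center (hle.trans hσ.2.1)
  let τ : Γ ⧸ L' →* Q := QuotientGroup.lift L' σ hle
  have hker : τ.ker = σ.ker.map (QuotientGroup.mk' L') := QuotientGroup.ker_lift L' σ hle
  refine ⟨Γ ⧸ L', inferInstance, inferInstance, τ, ⟨fun q => ?_, ?_, ?_⟩, ?_⟩
  · obtain ⟨g, hg⟩ := hσ.1 q
    exact ⟨(g : Γ ⧸ L'), hg⟩
  · rw [hker]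
    rintro _ ⟨z, hz, rfl⟩
    refine Subgroup.mem_center_iff.mpr fun g => ?_
    obtain ⟨g', rfl⟩ := QuotientGroup.mk'_surjective L' g
    rw [← map_mul, ← map_mul, Subgroup.mem_center_iff.mp (hσ.2.1 hz) g']
  · rw [hker]
    refine (Subgroup.map_mono hσ.2.2).trans ?_
    rw [commutator_def, commutator_def, Subgroup.map_commutator]
    exact Subgroup.commutator_mono le_top le_top
  · rw [hker]
    have h1 : Nat.card (σ.ker.map (QuotientGroup.mk' L')) = L'.relIndex σ.ker := by
      rw [← Subgroup.relIndex_bot_left (σ.ker.map _), ← Subgroup.map_bot (QuotientGroup.mk' L'),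
        Subgroup.relIndex_map_map, QuotientGroup.ker_mk', bot_sup_eq, sup_eq_left.mpr hle]
    rw [h1, hL', Subgroup.relIndex, ← Subgroup.comap_subtype,
      Subgroup.comap_map_eq_self_of_injective (Subgroup.subtype_injective _), hL]

/-- A sparse linear form: pairs of a variable and a coefficient, by increasing variable. -/
abbrev Form : Type := List (ℕ × ℕ)

/-- The value of a form. -/
def evf (ρ : ℕ → ℕ) : Form → ℕ
  | [] => 0
  | e :: l => e.2 * ρ e.1 + evf ρ l

/-- Drop a zero coefficient. -/
def put (p v c : ℕ) (l : Form) : Form := bif c % p == 0 then l else (v, c % p) :: l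

/-- Merge step. -/
def addF (p : ℕ) : ℕ → Form → Form → Form
  | 0, a, b => a ++ b
  | _, [], b => b
  | _, a, [] => a
  | f + 1, x :: a, y :: b =>
    bif Nat.blt x.1 y.1 then x :: addF p f a (y :: b)
    else bif Nat.blt y.1 x.1 then y :: addF p f (x :: a) b
    else put p x.1 (x.2 + y.2) (addF p f a b)

/-- Sum of forms. -/
def add (p : ℕ) (a b : Form) : Form := addF p (a.length + b.length) a b

/-- A multiple of a form. -/
def smul (p k : ℕ) : Form → Form
  | [] => []
  | e :: l => put p e.1 (k * e.2) (smul p k l)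

theorem evf_put (ρ : ℕ → ℕ) (p v c : ℕ) (l : Form) : evf ρ (put p v c l) ≡ c * ρ v + evf ρ l [MOD p] := by
  have h : c % p * ρ v ≡ c * ρ v [MOD p] := (Nat.mod_modEq c p).mul_right _
  cases e : (c % p == 0)
  · simp only [put, e, cond_false, evf]
    exact h.add_right _
  · simp only [put, e, cond_true]
    rw [beq_iff_eq] at e
    rw [e, zero_mul] at h
    simpa using h.add_right (evf ρ l)

theorem evf_append (ρ : ℕ → ℕ) : ∀ a b : Form, evf ρ (a ++ b) = evf ρ a + evf ρ b
  | [], b => by simp [evf]
  | e :: a, b => by simp [evf, evf_append ρ a b]; ring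

theorem evf_addF (ρ : ℕ → ℕ) (p : ℕ) : ∀ (f : ℕ) (a b : Form), evf ρ (addF p f a b) ≡ evf ρ a + evf ρ b [MOD p]
  | 0, a, b => by rw [addF, evf_append]
  | f + 1, [], b => by rw [addF]; simp [evf, Nat.ModEq.refl]; omega
  | f + 1, x :: a, [] => by simp [addF, evf, Nat.ModEq.refl]
  | f + 1, x :: a, y :: b => by
    rw [addF]
    rcases lt_trichotomy x.1 y.1 with h | h | h
    · simp only [show Nat.blt x.1 y.1 = true from Nat.ble_eq.mpr h, cond_true, evf]
      have := (evf_addF ρ p f a (y :: b)).add_left (x.2 * ρ x.1)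
      simp only [evf] at this
      exact this.trans (by rw [show x.2 * ρ x.1 + (evf ρ a + (y.2 * ρ y.1 + evf ρ b)) =
        x.2 * ρ x.1 + evf ρ a + (y.2 * ρ y.1 + evf ρ b) by ring])
    · simp only [show Nat.blt x.1 y.1 = false from Bool.eq_false_iff.mpr fun e => by have := Nat.ble_eq.mp e; omega,
        show Nat.blt y.1 x.1 = false from Bool.eq_false_iff.mpr fun e => by have := Nat.ble_eq.mp e; omega, cond_false]
      refine (evf_put ρ p _ _ _).trans (((evf_addF ρ p f a b).add_left _).trans ?_)
      simp only [evf, h]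
      rw [show (x.2 + y.2) * ρ y.1 + (evf ρ a + evf ρ b) = x.2 * ρ y.1 + evf ρ a + (y.2 * ρ y.1 + evf ρ b) by ring]
    · simp only [show Nat.blt x.1 y.1 = false from Bool.eq_false_iff.mpr fun e => by have := Nat.ble_eq.mp e; omega,
        show Nat.blt y.1 x.1 = true from Nat.ble_eq.mpr h, cond_true, cond_false, evf]
      have := (evf_addF ρ p f (x :: a) b).add_left (y.2 * ρ y.1)
      simp only [evf] at this
      exact this.trans (by rw [show y.2 * ρ y.1 + (x.2 * ρ x.1 + evf ρ a + evf ρ b) =
        x.2 * ρ x.1 + evf ρ a + (y.2 * ρ y.1 + evf ρ b) by ring])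

theorem evf_add (ρ : ℕ → ℕ) (p : ℕ) (a b : Form) : evf ρ (add p a b) ≡ evf ρ a + evf ρ b [MOD p] :=
  evf_addF ρ p _ a b

theorem evf_smul (ρ : ℕ → ℕ) (p k : ℕ) : ∀ a : Form, evf ρ (smul p k a) ≡ k * evf ρ a [MOD p]
  | [] => by simp [smul, evf, Nat.ModEq.refl]
  | e :: l => by
    refine (evf_put ρ p _ _ _).trans (((evf_smul ρ p k l).add_left _).trans ?_)
    simp only [evf]
    rw [show k * e.2 * ρ e.1 + k * evf ρ l = k * (e.2 * ρ e.1 + evf ρ l) by ring]

/-- The certificate. -/
structure Cert where
  p : ℕ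
  n : ℕ
  tails : List (List (List ℕ))
  overlaps : List (List ℕ × ℕ)
  fuse : List (List (List ℕ) × List (List ℕ) × List (List ℕ × List ℕ))
  delta : List Form
  sels : List (List (List (ℕ × ℕ)))

/-- The right-hand side of a rule: a power for equal indices. -/
def Cert.tail (c : Cert) (j i : ℕ) : List ℕ := (c.tails.getD j []).getD i []

/-- The variable of a rule. -/
def Cert.bit (c : Cert) (j i : ℕ) : Form := [(j * c.n + i, 1)]

/-- The left-hand side of a rule. -/
def Cert.lhs (c : Cert) (j i : ℕ) : List ℕ := bif j == i then List.replicate c.p i else [j, i]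

/-- One rewriting step at the head. -/
def Cert.head (c : Cert) : List ℕ → Option (List ℕ × Form)
  | [] => none
  | a :: w =>
    bif Nat.blt a c.n then
      bif (a :: w).take c.p == List.replicate c.p a then some (c.tail a a ++ (a :: w).drop c.p, c.bit a a)
      else match w with
        | [] => none
        | b :: r => bif Nat.blt b a then some (c.tail a b ++ r, c.bit a b) else none
    else none

/-- One rewriting step at a position. -/
def Cert.stepAt (c : Cert) : ℕ → List ℕ → Option (List ℕ × Form)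
  | 0, w => c.head w
  | _ + 1, [] => none
  | s + 1, a :: w => (c.stepAt s w).map fun r => (a :: r.1, r.2)

/-- One rewriting step at the first possible position. -/
def Cert.step (c : Cert) : List ℕ → Option (List ℕ × Form)
  | [] => none
  | a :: w =>
    match c.head (a :: w) with
    | some r => some r
    | none => (c.step w).map fun r => (a :: r.1, r.2)

/-- Collection. -/
def Cert.collect (c : Cert) : ℕ → List ℕ → List ℕ × Form
  | 0, w => (w, [])
  | f + 1, w =>
    match c.step w with
    | none => (w, [])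
    | some r => ((c.collect f r.1).1, add c.p r.2 (c.collect f r.1).2)

/-- Collection with a fixed bound. -/
def Cert.nf (c : Cert) (w : List ℕ) : List ℕ × Form := c.collect 6000 w

/-- An equation from two ways of rewriting. -/
def Cert.overlapEq (c : Cert) (t : List ℕ × ℕ) : Bool × Form :=
  match c.stepAt t.2 t.1 with
  | none => (false, [])
  | some r =>
    let a := c.nf t.1
    let b := c.nf r.1
    (a.1 == b.1, add c.p a.2 (smul c.p (c.p - 1) (add c.p r.2 b.2)))

/-- The variables of a conjugated generator. -/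
def Cert.fuseForm (c : Cert) (f : ℕ) : List ℕ → Form
  | [] => []
  | k :: r => add c.p [(c.n * c.n + 64 * f + k, 1)] (c.fuseForm f r)

/-- Substitute words. -/
def subst (qs : List (List ℕ)) (r : List ℕ) : List ℕ := r.flatMap fun k => qs.getD k []

/-- An equation from conjugation. -/
def Cert.fuseEq (c : Cert) (f : ℕ) (qs vs : List (List ℕ)) (r : List ℕ × List ℕ) : Bool × Form :=
  let a := c.nf (subst qs r.1)
  let a' := c.nf (subst qs r.2)
  let b := c.nf (subst vs r.1)
  let b' := c.nf (subst vs r.2)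
  ((a.1 == a'.1) && (b.1 == b'.1) && (r.1 ++ r.2).all (fun k => Nat.blt k qs.length) &&
      Nat.ble qs.length 64 && (qs.length == vs.length),
    add c.p (add c.p (add c.p a.2 (c.fuseForm f r.2)) b'.2)
      (smul c.p (c.p - 1) (add c.p (add c.p a'.2 (c.fuseForm f r.1)) b.2)))

/-- All equations. -/
def Cert.eqs (c : Cert) : List (Bool × Form) :=
  c.overlaps.map c.overlapEq ++
    ((List.range c.fuse.length).flatMap fun f =>
      (c.fuse.getD f ([], [], [])).2.2.map
        (c.fuseEq f (c.fuse.getD f ([], [], [])).1 (c.fuse.getD f ([], [], [])).2.1))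

/-- The correction along a word. -/
def Cert.shift (c : Cert) : List ℕ → Form
  | [] => []
  | k :: w => add c.p (c.delta.getD k []) (c.shift w)

/-- A combination of forms. -/
def comb (p : ℕ) (E : List (Bool × Form)) : List (ℕ × ℕ) → Form
  | [] => []
  | s :: l => add p (smul p s.2 (E.getD s.1 (false, [])).2) (comb p E l)

/-- The shape of a rule. -/
def Cert.shapeOK (c : Cert) (j i : ℕ) : Bool :=
  bif j == i then (c.tail j i).all (fun k => Nat.blt i k && Nat.blt k c.n)
  else match c.tail j i with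
    | [] => false
    | h :: t => (h == i) && t.all fun k => Nat.blt i k && Nat.blt k c.n

/-- The shapes. -/
def Cert.shapesOK (c : Cert) : Bool :=
  (List.range c.n).all fun j => (List.range c.n).all fun i => Nat.blt j i || c.shapeOK j i

/-- The check. -/
def Cert.ok (c : Cert) : Bool :=
  let E := c.eqs
  Nat.blt 1 c.p && E.all (·.1) && c.shapesOK &&
    (List.range c.n).all fun j => (List.range c.n).all fun i => Nat.blt j i ||
      ((((c.sels.getD j []).getD i []).all fun e => Nat.blt e.1 E.length) &&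
        (comb c.p E ((c.sels.getD j []).getD i []) ==
          add c.p (add c.p (c.bit j i) (c.shift (c.lhs j i))) (smul c.p (c.p - 1) (c.shift (c.tail j i)))))

/-- The value of a word. -/
def val {Γ : Type u} [Group Γ] (X : ℕ → Γ) (w : List ℕ) : Γ := (w.map X).prod

theorem val_append {Γ : Type u} [Group Γ] (X : ℕ → Γ) (a b : List ℕ) : val X (a ++ b) = val X a * val X b := by
  simp [val]

theorem val_cons {Γ : Type u} [Group Γ] (X : ℕ → Γ) (a : ℕ) (b : List ℕ) :
    val X (a :: b) = X a * val X b := by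
  simp [val]

theorem val_subst {Γ : Type u} [Group Γ] (X : ℕ → Γ) (qs : List (List ℕ)) : ∀ r : List ℕ,
    val X (subst qs r) = (r.map fun k => val X (qs.getD k [])).prod
  | [] => rfl
  | k :: r => by
    rw [subst, List.flatMap_cons, val_append]
    exact congrArg (_ * ·) (val_subst X qs r)

/-- The subgroup generated by the last generators. -/
abbrev sub {G : Type u} [Group G] (c : Cert) (x : ℕ → G) (k : ℕ) : Subgroup G :=
  Subgroup.closure (x '' {i | k ≤ i ∧ i < c.n})

/-- A polycyclic presentation bounds the order. -/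
theorem card_sub_le {G : Type u} [Group G] [Finite G] (c : Cert) (hshape : c.shapesOK = true) (hp : 0 < c.p)
    (x : ℕ → G) (hrules : ∀ j < c.n, ∀ i ≤ j, val x (c.lhs j i) = val x (c.tail j i)) :
    ∀ d k, k + d = c.n → Nat.card (sub c x k) ≤ c.p ^ d := by
  simp only [Cert.shapesOK, List.all_eq_true, List.mem_range, Bool.or_eq_true, Nat.blt, Nat.ble_eq] at hshape
  intro d
  induction d with
  | zero =>
    intro k hk
    have e : x '' {i | k ≤ i ∧ i < c.n} = ∅ := by
      ext g; simp only [Set.mem_image, Set.mem_setOf_eq, Set.mem_empty_iff_false, iff_false]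
      rintro ⟨i, ⟨h1, h2⟩, -⟩; omega
    rw [sub, e, Subgroup.closure_empty, Subgroup.card_bot, pow_zero]
  | succ d ih =>
    intro k hk
    set H := sub c x (k + 1) with hH
    have hmem : ∀ i, k + 1 ≤ i → i < c.n → x i ∈ H := fun i h1 h2 => Subgroup.subset_closure ⟨i, ⟨h1, h2⟩, rfl⟩
    have hword : ∀ l : List ℕ, (∀ q ∈ l, k + 1 ≤ q ∧ q < c.n) → val x l ∈ H := fun l hl =>
      Subgroup.list_prod_mem _ fun z hz => by
        obtain ⟨q, hq, rfl⟩ := List.mem_map.mp hz
        exact hmem q (hl q hq).1 (hl q hq).2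
    have hpow : x k ^ c.p ∈ H := by
      have h := hrules k (by omega) k le_rfl
      simp only [Cert.lhs, beq_self_eq_true, cond_true, val, List.map_replicate, List.prod_replicate] at h
      rw [h]
      have hs := (hshape k (by omega) k (by omega)).resolve_left (by omega)
      simp only [Cert.shapeOK, beq_self_eq_true, cond_true, List.all_eq_true, Bool.and_eq_true, Nat.blt,
        Nat.ble_eq] at hs
      exact hword _ fun q hq => ⟨(hs q hq).1, (hs q hq).2⟩
    have hconj : ∀ h ∈ H, (x k)⁻¹ * h * x k ∈ H := by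
      intro h hh
      induction hh using Subgroup.closure_induction with
      | mem y hy =>
        obtain ⟨j, ⟨hj1, hj2⟩, rfl⟩ := hy
        have hs := (hshape j hj2 k (by omega)).resolve_left (by omega)
        have hr := hrules j hj2 k (by omega)
        have hne : (j == k) = false := by simp; omega
        simp only [Cert.shapeOK, hne, cond_false] at hs
        rw [Cert.lhs, hne, cond_false, show val x [j, k] = x j * x k by simp [val]] at hr
        rw [mul_assoc, hr]
        revert hs
        generalize c.tail j k = l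
        intro hs
        cases l with
        | nil => simp at hs
        | cons a t =>
          simp only [Bool.and_eq_true, beq_iff_eq, List.all_eq_true, Nat.blt, Nat.ble_eq] at hs
          rw [val_cons, hs.1, inv_mul_cancel_left]
          exact hword _ fun q hq => ⟨(hs.2 q hq).1, (hs.2 q hq).2⟩
      | one => simp
      | mul a b _ _ ha hb =>
        rw [show (x k)⁻¹ * (a * b) * x k = (x k)⁻¹ * a * x k * ((x k)⁻¹ * b * x k) by group]
        exact mul_mem ha hb
      | inv a _ ha =>
        rw [show (x k)⁻¹ * a⁻¹ * x k = ((x k)⁻¹ * a * x k)⁻¹ by group]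
        exact inv_mem ha
    have hconjn : ∀ (m : ℕ), ∀ h ∈ H, (x k ^ m)⁻¹ * h * x k ^ m ∈ H := by
      intro m
      induction m with
      | zero => intro h hh; simpa using hh
      | succ m ihm =>
        intro h hh
        rw [pow_succ, show (x k ^ m * x k)⁻¹ * h * (x k ^ m * x k) = (x k)⁻¹ * ((x k ^ m)⁻¹ * h * x k ^ m) * x k by group]
        exact hconj _ (ihm h hh)
    let S : Set G := ⋃ m ∈ Finset.range c.p, x k ^ m • (H : Set G)
    have hS : ∀ m, ∀ h ∈ H, x k ^ m * h ∈ S := by
      intro m h hh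
      refine Set.mem_biUnion (Finset.mem_range.mpr (Nat.mod_lt m hp)) ⟨(x k ^ c.p) ^ (m / c.p) * h,
        mul_mem (pow_mem hpow _) hh, ?_⟩
      show x k ^ (m % c.p) * ((x k ^ c.p) ^ (m / c.p) * h) = x k ^ m * h
      rw [← mul_assoc, ← pow_mul, ← pow_add, Nat.mod_add_div]
    have hle : sub c x k ≤ MulAction.stabilizer G S := by
      rw [sub, Subgroup.closure_le]
      rintro _ ⟨j, ⟨hj1, hj2⟩, rfl⟩
      refine MulAction.mem_stabilizer_iff.2 (Set.eq_of_subset_of_ncard_le ?_ ?_ (Set.toFinite _))
      · rintro _ ⟨s, hs, rfl⟩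
        show x j * s ∈ S
        simp only [S, Set.mem_iUnion] at hs
        obtain ⟨m, -, h, hh, rfl⟩ := hs
        show x j * (x k ^ m * h) ∈ S
        rcases eq_or_lt_of_le hj1 with rfl | hlt
        · rw [← mul_assoc, ← pow_succ']
          exact hS _ h hh
        · rw [show x j * (x k ^ m * h) = x k ^ m * ((x k ^ m)⁻¹ * x j * x k ^ m * h) by group]
          exact hS _ _ (mul_mem (hconjn m _ (hmem j hlt hj2)) hh)
      · rw [Set.ncard_smul_set]
    have hsub : (sub c x k : Set G) ⊆ S := fun g hg => by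
      have h1 : g • S = S := hle hg
      have h2 : (1 : G) ∈ S := by simpa using hS 0 1 H.one_mem
      have := Set.smul_mem_smul_set (a := g) h2
      rwa [h1, smul_eq_mul, mul_one] at this
    calc Nat.card (sub c x k) = (sub c x k : Set G).ncard := Nat.card_coe_set_eq _
      _ ≤ S.ncard := Set.ncard_le_ncard hsub (Set.toFinite _)
      _ ≤ ∑ m ∈ Finset.range c.p, (x k ^ m • (H : Set G)).ncard := Finset.set_ncard_biUnion_le _ _
      _ = c.p * Nat.card H := by
          simp only [Set.ncard_smul_set, Finset.sum_const, Finset.card_range, smul_eq_mul]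
          rw [← Nat.card_coe_set_eq]; rfl
      _ ≤ c.p ^ (d + 1) := by rw [pow_succ']; exact Nat.mul_le_mul_left _ (ih (k + 1) (by omega))

section Sound

variable {Γ : Type u} [Group Γ] {ζ : Γ} (X : ℕ → Γ) (ρ : ℕ → ℕ) (c : Cert)
variable (hz : ζ ^ c.p = 1) (hc : ∀ g, g * ζ = ζ * g)

include hz in
theorem zeta_congr {a b : ℕ} (h : a ≡ b [MOD c.p]) : ζ ^ a = ζ ^ b := by
  rw [pow_eq_pow_mod a hz, pow_eq_pow_mod b hz, h]

include hc in
theorem zeta_comm (g : Γ) (k : ℕ) : g * ζ ^ k = ζ ^ k * g := ((show Commute g ζ from hc g).pow_right k).eq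

variable (hrule : ∀ j < c.n, ∀ i ≤ j, val X (c.lhs j i) = val X (c.tail j i) * ζ ^ ρ (j * c.n + i))

include hc hrule in
theorem head_spec : ∀ (w : List ℕ) (r : List ℕ × Form), c.head w = some r →
    val X w = val X r.1 * ζ ^ evf ρ r.2
  | [], r, h => by simp [Cert.head] at h
  | a :: w, r, h => by
    simp only [Cert.head] at h
    cases ha : Nat.blt a c.n
    · simp [ha] at h
    simp only [ha, cond_true] at h
    simp only [Nat.blt, Nat.ble_eq] at ha
    cases hp : ((a :: w).take c.p == List.replicate c.p a)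
    · simp only [hp, cond_false] at h
      cases w with
      | nil => simp at h
      | cons b t =>
        cases hb : Nat.blt b a
        · simp [hb] at h
        simp only [hb, cond_true, Option.some.injEq] at h
        subst h
        simp only [Nat.blt, Nat.ble_eq] at hb
        have := hrule a ha b (by omega)
        rw [Cert.lhs, show (a == b) = false by simp; omega, cond_false] at this
        rw [show a :: b :: t = [a, b] ++ t from rfl, val_append, this, val_append, mul_assoc,
          ← zeta_comm hc, ← mul_assoc]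
        simp [evf, Cert.bit]
    · simp only [hp, cond_true, Option.some.injEq] at h
      subst h
      have := hrule a ha a le_rfl
      rw [Cert.lhs, beq_self_eq_true, cond_true, ← beq_iff_eq.mp hp] at this
      conv_lhs => rw [← List.take_append_drop c.p (a :: w)]
      rw [val_append, this, val_append, mul_assoc, ← zeta_comm hc, ← mul_assoc]
      simp [evf, Cert.bit]

include hc hrule in
theorem stepAt_spec : ∀ (s : ℕ) (w : List ℕ) (r : List ℕ × Form), c.stepAt s w = some r →
    val X w = val X r.1 * ζ ^ evf ρ r.2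
  | 0, w, r, h => head_spec X ρ c hc hrule w r (by simpa [Cert.stepAt] using h)
  | s + 1, [], r, h => by simp [Cert.stepAt] at h
  | s + 1, a :: w, r, h => by
    obtain ⟨q, hq, rfl⟩ := Option.map_eq_some_iff.mp h
    rw [val_cons, stepAt_spec s w q hq, val_cons, mul_assoc]

include hc hrule in
theorem step_spec : ∀ (w : List ℕ) (r : List ℕ × Form), c.step w = some r →
    val X w = val X r.1 * ζ ^ evf ρ r.2
  | [], r, h => by simp [Cert.step] at h
  | a :: w, r, h => by
    rw [Cert.step] at h
    split at h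
    · next q hq =>
      obtain rfl := Option.some.inj h
      exact head_spec X ρ c hc hrule _ _ hq
    · obtain ⟨q, hq, rfl⟩ := Option.map_eq_some_iff.mp h
      rw [val_cons, step_spec w q hq, val_cons, mul_assoc]

include hz hc hrule in
theorem collect_spec : ∀ (f : ℕ) (w : List ℕ),
    val X w = val X (c.collect f w).1 * ζ ^ evf ρ (c.collect f w).2
  | 0, w => by simp [Cert.collect, evf]
  | f + 1, w => by
    rw [Cert.collect]
    split
    · simp [evf]
    · next r hr =>
      rw [step_spec X ρ c hc hrule w r hr, collect_spec f r.1, zeta_congr c hz (evf_add ρ c.p _ _), mul_assoc,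
        ← pow_add, Nat.add_comm]

end Sound

theorem cancel_form {p a b : ℕ} (hp : 0 < p) (h : a ≡ b [MOD p]) : a + (p - 1) * b ≡ 0 [MOD p] := by
  refine (h.add_right _).trans ?_
  rw [show b + (p - 1) * b = p * b by rw [Nat.add_comm b, ← Nat.succ_mul, Nat.succ_eq_add_one, Nat.sub_add_cancel hp]]
  exact (Nat.modEq_zero_iff_dvd).mpr (dvd_mul_right p b)

theorem uncancel_form {p a b : ℕ} (hp : 0 < p) (h : a + (p - 1) * b ≡ 0 [MOD p]) : a ≡ b [MOD p] := by
  have h1 := h.add_right b
  rw [Nat.zero_add, Nat.add_assoc, show (p - 1) * b + b = p * b by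
    rw [← Nat.succ_mul, Nat.succ_eq_add_one, Nat.sub_add_cancel hp]] at h1
  exact (((Nat.modEq_zero_iff_dvd).mpr (dvd_mul_right p b)).add_left a).symm.trans h1

variable {Γ : Type u} {Q : Type v} [Group Γ] [Group Q] [Finite Γ] [Finite Q]

/-- The certificate excludes the prime from the kernel. -/
theorem Cert.not_dvd (c : Cert) (hp : c.p.Prime) (hok : c.ok = true) {σ : Γ →* Q}
    (hσ : Cfsg.IsStemExtension σ) (x : ℕ → Q)
    (hrules : ∀ j < c.n, ∀ i ≤ j, val x (c.lhs j i) = val x (c.tail j i))
    (hfus : ∀ f ∈ c.fuse, ∃ g, ∀ k < f.1.length,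
      g * val x (f.1.getD k []) * g⁻¹ = val x (f.2.1.getD k []))
    (hP : Nat.card (Subgroup.closure (x '' {i | i < c.n})) = c.p ^ (Nat.card Q).factorization c.p)
    (hn : c.p ^ c.n = Nat.card (Subgroup.closure (x '' {i | i < c.n}))) : ¬ c.p ∣ Nat.card σ.ker := by
  intro hdvd
  obtain ⟨Δ, _, _, τ, hτ, hk⟩ := exists_ker_prime hσ hp hdvd
  haveI : Fact c.p.Prime := ⟨hp⟩
  obtain ⟨⟨ζ, hζk⟩, hζ⟩ := exists_prime_orderOf_dvd_card' c.p (dvd_of_eq hk.symm : c.p ∣ Nat.card τ.ker)
  classical
  have hgen : ∀ w : τ.ker, ∃ k : ℕ, (⟨ζ, hζk⟩ : τ.ker) ^ k = w := fun w => by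
    have : w ∈ Subgroup.zpowers (⟨ζ, hζk⟩ : τ.ker) := by
      rw [Subgroup.eq_top_of_card_eq (Subgroup.zpowers (⟨ζ, hζk⟩ : τ.ker)) (by rw [Nat.card_zpowers, hζ, hk])]
      exact Subgroup.mem_top _
    rw [mem_zpowers_iff_mem_range_orderOf] at this
    obtain ⟨k, -, hk'⟩ := Finset.mem_image.mp this
    exact ⟨k, hk'⟩
  rw [Subgroup.orderOf_mk] at hζ
  have hζ1 : ζ ≠ 1 := fun e => by rw [e, orderOf_one] at hζ; exact hp.one_lt.ne hζ
  have hzp : ζ ^ c.p = 1 := by rw [← hζ, pow_orderOf_eq_one]
  have hc : ∀ g, g * ζ = ζ * g := Subgroup.mem_center_iff.mp (hτ.2.1 hζk)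
  have hinj : ∀ {a b : ℕ}, ζ ^ a = ζ ^ b → a ≡ b [MOD c.p] := fun h => by
    rw [← hζ]; exact pow_eq_pow_iff_modEq.mp h
  have hsplit : ∀ a b : Δ, τ a = τ b → ∃ k : ℕ, a = b * ζ ^ k := by
    intro a b e
    obtain ⟨k, hk'⟩ := hgen ⟨b⁻¹ * a, by rw [MonoidHom.mem_ker, map_mul, map_inv, e, inv_mul_cancel]⟩
    refine ⟨k, ?_⟩
    rw [show ζ ^ k = b⁻¹ * a from congrArg Subtype.val hk', mul_inv_cancel_left]
  choose lift hlift using hτ.1
  let X : ℕ → Δ := fun k => lift (x k)
  have hX : ∀ w : List ℕ, τ (val X w) = val x w := by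
    intro w
    induction w with
    | nil => simp [val]
    | cons a w ih => rw [val_cons, val_cons, map_mul, ih, hlift]
  classical
  choose g hg using hfus
  let G : ℕ → Δ := fun f => if h : c.fuse.getD f ([], [], []) ∈ c.fuse then lift (g _ h) else 1
  let diff : Δ → Δ → ℕ := fun a b => if h : τ a = τ b then Classical.choose (hsplit a b h) else 0
  have hdiff : ∀ a b, τ a = τ b → a = b * ζ ^ diff a b := fun a b h => by
    simp only [diff, dif_pos h]; exact Classical.choose_spec (hsplit a b h)
  let fz : ℕ → List (List ℕ) × List (List ℕ) × List (List ℕ × List ℕ) := fun f => c.fuse.getD f ([], [], [])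
  let ρ : ℕ → ℕ := fun v =>
    if v < c.n * c.n then diff (val X (c.lhs (v / c.n) (v % c.n))) (val X (c.tail (v / c.n) (v % c.n)))
    else diff (G ((v - c.n * c.n) / 64) * val X ((fz ((v - c.n * c.n) / 64)).1.getD ((v - c.n * c.n) % 64) []) *
        (G ((v - c.n * c.n) / 64))⁻¹) (val X ((fz ((v - c.n * c.n) / 64)).2.1.getD ((v - c.n * c.n) % 64) []))
  have hrule : ∀ j < c.n, ∀ i ≤ j, val X (c.lhs j i) = val X (c.tail j i) * ζ ^ ρ (j * c.n + i) := by
    intro j hj i hi
    have hlt : j * c.n + i < c.n * c.n := by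
      have : (j + 1) * c.n ≤ c.n * c.n := Nat.mul_le_mul_right _ hj
      rw [Nat.add_mul] at this
      omega
    have hd : (j * c.n + i) / c.n = j := by
      rw [Nat.mul_comm, Nat.mul_add_div (by omega), Nat.div_eq_of_lt (by omega), Nat.add_zero]
    have hm : (j * c.n + i) % c.n = i := by
      rw [Nat.mul_comm, Nat.mul_add_mod, Nat.mod_eq_of_lt (by omega)]
    simp only [ρ, if_pos hlt, hd, hm]
    exact hdiff _ _ (by rw [hX, hX]; exact hrules j hj i hi)
  have nfs := fun w => collect_spec X ρ c hzp hc hrule 6000 w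
  have hfuse : ∀ f < c.fuse.length, (fz f).1.length ≤ 64 → ∀ r : List ℕ, (∀ k ∈ r, k < (fz f).1.length) →
      G f * val X (subst (fz f).1 r) * (G f)⁻¹ = val X (subst (fz f).2.1 r) * ζ ^ evf ρ (c.fuseForm f r) := by
    intro f hf h64 r hr
    have hmem : c.fuse.getD f ([], [], []) ∈ c.fuse := by
      rw [List.getD_eq_getElem _ _ hf]; exact List.getElem_mem hf
    induction r with
    | nil => simp [subst, val, Cert.fuseForm, evf]
    | cons k r ih =>
      have hk : k < (fz f).1.length := hr k List.mem_cons_self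
      have ih' := ih fun q hq => hr q (List.mem_cons_of_mem _ hq)
      have hone : G f * val X ((fz f).1.getD k []) * (G f)⁻¹ =
          val X ((fz f).2.1.getD k []) * ζ ^ ρ (c.n * c.n + 64 * f + k) := by
        have e1 : (c.n * c.n + 64 * f + k - c.n * c.n) / 64 = f := by omega
        have e2 : (c.n * c.n + 64 * f + k - c.n * c.n) % 64 = k := by omega
        simp only [ρ, if_neg (show ¬ c.n * c.n + 64 * f + k < c.n * c.n by omega), e1, e2]
        refine hdiff _ _ ?_
        rw [map_mul, map_mul, map_inv, hX, hX]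
        simp only [G, dif_pos hmem, hlift]
        exact hg _ hmem k hk
      rw [show subst (fz f).1 (k :: r) = (fz f).1.getD k [] ++ subst (fz f).1 r from rfl,
        show subst (fz f).2.1 (k :: r) = (fz f).2.1.getD k [] ++ subst (fz f).2.1 r from rfl, val_append, val_append,
        show G f * (val X ((fz f).1.getD k []) * val X (subst (fz f).1 r)) * (G f)⁻¹ =
          G f * val X ((fz f).1.getD k []) * (G f)⁻¹ * (G f * val X (subst (fz f).1 r) * (G f)⁻¹) by group,
        hone, ih', Cert.fuseForm, zeta_congr c hzp (evf_add ρ c.p _ _)]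
      simp only [evf, Nat.one_mul, Nat.add_zero]
      rw [pow_add, mul_assoc, ← mul_assoc (ζ ^ ρ (c.n * c.n + 64 * f + k)), ← zeta_comm hc]
      simp only [mul_assoc]
  have heq : ∀ e ∈ c.eqs, e.1 = true → evf ρ e.2 ≡ 0 [MOD c.p] := by
    intro e he hb
    rcases List.mem_append.mp he with he | he
    · obtain ⟨⟨w, s⟩, -, rfl⟩ := List.mem_map.mp he
      simp only [Cert.overlapEq] at hb ⊢
      split at hb
      · exact absurd hb Bool.false_ne_true
      · next r hr =>
        simp only [hr]
        simp only [beq_iff_eq] at hb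
        refine (evf_add ρ c.p _ _).trans (((evf_smul ρ c.p _ _).add_left _).trans (cancel_form hp.pos ?_))
        refine (hinj (mul_left_cancel (a := val X (c.nf w).1) ?_)).trans (evf_add ρ c.p _ _).symm
        calc val X (c.nf w).1 * ζ ^ evf ρ (c.nf w).2 = val X w := (nfs w).symm
          _ = val X r.1 * ζ ^ evf ρ r.2 := stepAt_spec X ρ c hc hrule s w r hr
          _ = val X (c.nf w).1 * ζ ^ (evf ρ r.2 + evf ρ (c.nf r.1).2) := by
            rw [nfs r.1, show (c.collect 6000 r.1).1 = (c.nf w).1 from hb.symm, mul_assoc, ← pow_add,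
              Nat.add_comm]
            rfl
    · obtain ⟨f, hf, he⟩ := List.mem_flatMap.mp he
      obtain ⟨⟨r1, r2⟩, -, rfl⟩ := List.mem_map.mp he
      simp only [Cert.fuseEq, Bool.and_eq_true, beq_iff_eq, List.all_eq_true, Nat.blt, Nat.ble_eq] at hb ⊢
      obtain ⟨⟨⟨⟨ha, hb'⟩, hlt⟩, h64⟩, -⟩ := hb
      set qs := (fz f).1 with hqs
      set vs := (fz f).2.1 with hvs
      have side : ∀ r' : List ℕ, (∀ k ∈ r', k < qs.length) →
          G f * val X (c.nf (subst qs r')).1 * (G f)⁻¹ * ζ ^ evf ρ (c.nf (subst qs r')).2 =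
            val X (c.nf (subst vs r')).1 * ζ ^ (evf ρ (c.nf (subst vs r')).2 + evf ρ (c.fuseForm f r')) := by
        intro r' hr'
        rw [pow_add, ← mul_assoc, ← show val X (subst vs r') = val X (c.nf (subst vs r')).1 * ζ ^ evf ρ (c.nf (subst vs r')).2 from nfs _,
          ← hfuse f (List.mem_range.mp hf) h64 r' hr']
        conv_rhs => rw [nfs (subst qs r')]
        rw [mul_assoc (G f * val X (c.nf (subst qs r')).1), zeta_comm hc (G f)⁻¹]
        simp only [mul_assoc]
        rfl
      have s1 := side r1 fun k hk => hlt k (List.mem_append_left _ hk)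
      have s2 := side r2 fun k hk => hlt k (List.mem_append_right _ hk)
      rw [show (c.nf (subst qs r2)).1 = (c.nf (subst qs r1)).1 from ha.symm,
        show (c.nf (subst vs r2)).1 = (c.nf (subst vs r1)).1 from hb'.symm] at s2
      have key : ∀ {A B : Δ} {u1 v1 u2 v2 : ℕ}, A * ζ ^ u1 = B * ζ ^ v1 → A * ζ ^ u2 = B * ζ ^ v2 →
          u1 + v2 ≡ v1 + u2 [MOD c.p] := fun {A B u1 v1 u2 v2} h1 h2 => hinj (mul_left_cancel (a := A) (by
        rw [pow_add, pow_add, ← mul_assoc, h1, mul_assoc, (Commute.pow_pow_self ζ v1 v2).eq, ← mul_assoc, ← h2,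
          mul_assoc, ← pow_add, ← pow_add, Nat.add_comm]))
      have hmain := key s1 s2
      refine (evf_add ρ c.p _ _).trans (((evf_smul ρ c.p _ _).add_left _).trans (cancel_form hp.pos ?_))
      refine ((evf_add ρ c.p _ _).trans ((evf_add ρ c.p _ _).add_right _)).trans (Nat.ModEq.trans ?_
        ((evf_add ρ c.p _ _).trans ((evf_add ρ c.p _ _).add_right _)).symm)
      refine Nat.ModEq.trans ?_ (hmain.trans ?_)
      · exact congrArg (· % c.p) (by ring)
      · exact congrArg (· % c.p) (by ring)
  simp only [Cert.ok, Bool.and_eq_true, List.all_eq_true, List.mem_range, Bool.or_eq_true, Nat.blt,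
    Nat.ble_eq, beq_iff_eq] at hok
  obtain ⟨⟨⟨-, hall⟩, hshapes⟩, hfin⟩ := hok
  let X' : ℕ → Δ := fun k => X k * ζ ^ evf ρ (c.delta.getD k [])
  have hX' : ∀ w, val X' w = val X w * ζ ^ evf ρ (c.shift w) := by
    intro w
    induction w with
    | nil => simp [val, Cert.shift, evf]
    | cons a w ih =>
      rw [val_cons, val_cons, ih, Cert.shift, zeta_congr c hzp (evf_add ρ c.p _ _), pow_add]
      simp only [X', mul_assoc]
      rw [← mul_assoc (ζ ^ evf ρ (c.delta.getD a [])) (val X w), ← zeta_comm hc, mul_assoc]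
  have hexact : ∀ j < c.n, ∀ i ≤ j, val X' (c.lhs j i) = val X' (c.tail j i) := by
    intro j hj i hi
    rcases hfin j hj i (lt_of_le_of_lt hi hj) with h | ⟨hidx, hsel⟩
    · omega
    have hcomb : ∀ l : List (ℕ × ℕ), (∀ e ∈ l, e.1 < c.eqs.length) → evf ρ (comb c.p c.eqs l) ≡ 0 [MOD c.p] := by
      intro l
      induction l with
      | nil => intro _; exact Nat.ModEq.refl _
      | cons e l ih =>
        intro hl
        have he := hl e List.mem_cons_self
        have h1 := heq _ (List.getElem_mem he) (hall _ (List.getElem_mem he))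
        refine (evf_add ρ c.p _ _).trans (((evf_smul ρ c.p _ _).add (ih fun q hq => hl q (List.mem_cons_of_mem _ hq))).trans ?_)
        rw [List.getD_eq_getElem _ _ he]
        simpa using (h1.mul_left e.2)
    have h0 : evf ρ (add c.p (add c.p (c.bit j i) (c.shift (c.lhs j i))) (smul c.p (c.p - 1) (c.shift (c.tail j i)))) ≡
        0 [MOD c.p] := by
      rw [← hsel]; exact hcomb _ hidx
    have h1 := uncancel_form hp.pos (((evf_smul ρ c.p _ _).add_left _).symm.trans ((evf_add ρ c.p _ _).symm.trans h0))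
    have h2 := (evf_add ρ c.p _ _).symm.trans h1
    rw [hX', hX', hrule j hj i hi, mul_assoc, ← pow_add]
    refine congrArg (_ * ·) (zeta_congr c hzp ?_)
    simpa [Cert.bit, evf] using h2
  have hcard := card_sub_le c hshapes hp.pos X' hexact c.n 0 (Nat.zero_add _)
  set H := sub c X' 0 with hH
  have hset : ({k | 0 ≤ k ∧ k < c.n} : Set ℕ) = {i | i < c.n} := by ext; simp
  have hmap : H.map τ = Subgroup.closure (x '' {i | i < c.n}) := by
    rw [hH, sub, MonoidHom.map_closure, Set.image_image, hset]
    congr 1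
    refine Set.image_congr' fun k => ?_
    rw [map_mul, hlift, map_pow, MonoidHom.mem_ker.mp hζk, one_pow, mul_one]
  obtain ⟨S, hS⟩ := exists_sylow_map_le hτ.1 (p := c.p) _ hP
  rw [← hmap, Subgroup.map_le_iff_le_comap, Subgroup.comap_map_eq] at hS
  have hcomm : ⁅(S : Subgroup Δ), (S : Subgroup Δ)⁆ ≤ H := by
    refine (Subgroup.commutator_mono hS hS).trans (Subgroup.commutator_le.mpr fun a ha b hb => ?_)
    haveI : (τ.ker).Normal := MonoidHom.normal_ker τ
    obtain ⟨a1, ha1, a2, ha2, rfl⟩ := (Subgroup.mem_sup_of_normal_right (s := H)).mp ha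
    obtain ⟨b1, hb1, b2, hb2, rfl⟩ := (Subgroup.mem_sup_of_normal_right (s := H)).mp hb
    rw [comm_congr τ hτ.2.1 (g := a1 * a2) (g' := a1) (h := b1 * b2) (h' := b1)
      (by rw [map_mul, MonoidHom.mem_ker.mp ha2, mul_one]) (by rw [map_mul, MonoidHom.mem_ker.mp hb2, mul_one])]
    exact mul_mem (mul_mem (mul_mem ha1 hb1) (inv_mem ha1)) (inv_mem hb1)
  have hzH := hcomm (mem_commutator_sylow hτ hζk hzp S)
  let f : H →* Q := τ.comp H.subtype
  have hfr : f.range = Subgroup.closure (x '' {i | i < c.n}) := by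
    rw [← hmap, MonoidHom.range_eq_map, ← Subgroup.map_map, ← MonoidHom.range_eq_map, Subgroup.range_subtype]
  have hk0 : Nat.card f.ker = 1 := by
    have h1 := Subgroup.index_mul_card f.ker
    rw [Subgroup.index_ker, hfr, ← hn] at h1
    rw [← h1] at hcard
    have hpos : 0 < Nat.card f.ker := Nat.card_pos
    have : c.p ^ c.n * Nat.card f.ker ≤ c.p ^ c.n * 1 := by rwa [mul_one]
    have := Nat.le_of_mul_le_mul_left this (pow_pos hp.pos _)
    omega
  have hmem : (⟨ζ, hzH⟩ : H) ∈ f.ker := hζk
  rw [Subgroup.card_eq_one.mp hk0, Subgroup.mem_bot] at hmem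
  exact hζ1 (congrArg Subtype.val hmem)

/-- A certificate gives the Sylow criterion. -/
theorem Cert.exists_sylow (c : Cert) {p : ℕ} [hp : Fact p.Prime] {σ : Γ →* Q} (h : ¬ p ∣ Nat.card σ.ker) :
    ∃ S : Sylow p Γ, ∀ z ∈ σ.ker, z ∈ ⁅(S : Subgroup Γ), (S : Subgroup Γ)⁆ → z = 1 := by
  refine ⟨default, fun z hz hzS => ?_⟩
  by_contra hz1
  have hzp : IsPGroup p (Subgroup.zpowers z) :=
    (default : Sylow p Γ).2.to_le (Subgroup.zpowers_le.mpr (Subgroup.commutator_le_self _ hzS))
  obtain ⟨k, hk⟩ := hzp.exists_card_eq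
  rw [Nat.card_zpowers] at hk
  have hd : orderOf z ∣ Nat.card σ.ker := by
    rw [← Nat.card_zpowers]; exact Subgroup.card_dvd_of_le (Subgroup.zpowers_le.mpr hz)
  rcases k with _ | k
  · exact hz1 (orderOf_eq_one_iff.mp hk)
  · exact h (dvd_trans (by rw [hk]; exact dvd_pow_self p (Nat.succ_ne_zero k)) hd)

end Cfsg.Lib.Schur.Prime
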