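import Cfsg.Agent.Schur.ExtraspecialThree

/-!
A Sylow 3-subgroup that is a wreath product, with an element inverting one coordinate of its base.
-/

set_option autoImplicit false

namespace Cfsg.Lib.Schur

open scoped commutatorElement

universe u v

variable {Γ : Type u} {Q : Type v} [Group Γ] [Group Q] [Finite Γ] [Finite Q] {σ : Γ →* Q}

/-- The Sylow criterion for `3 ≀ 3`. -/
theorem exists_sylow_wreath_three (hσ : Cfsg.IsStemExtension σ) (a t n : Q)
    (hcard : Nat.card (Subgroup.closure {a, t}) = 3 ^ (Nat.card Q).factorization 3)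
    (ha : a ^ 3 = 1) (ht : t ^ 3 = 1) (hcomm : a * (t * a * t⁻¹) = t * a * t⁻¹ * a)
    (h1 : n * a * n⁻¹ = a⁻¹) (h2 : n * (t * a * t⁻¹) * n⁻¹ = t * a * t⁻¹)
    (hind : ∀ i < 3, ∀ j < 3, (t * a * t⁻¹ * a⁻¹) ^ i * (t * (t * a * t⁻¹ * a⁻¹) * t⁻¹) ^ j = 1 → i = 0 ∧ j = 0) :
    ∃ S : Sylow 3 Γ, ∀ z ∈ σ.ker, z ∈ ⁅(S : Subgroup Γ), (S : Subgroup Γ)⁆ → z = 1 := by
  haveI : Fact (Nat.Prime 3) := ⟨Nat.prime_three⟩
  obtain ⟨S, hS⟩ := exists_sylow_map_le hσ.1 _ hcard
  obtain ⟨A, rfl⟩ := hσ.1 a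
  obtain ⟨T, rfl⟩ := hσ.1 t
  obtain ⟨N, rfl⟩ := hσ.1 n
  have hker : ∀ x, σ x = 1 → ∀ g : Γ, g * x = x * g := fun x hx =>
    Subgroup.mem_center_iff.mp (hσ.2.1 hx)
  set B := T * A * T⁻¹ with hB
  set C := T * B * T⁻¹ with hC
  have eB : σ B = σ T * σ A * (σ T)⁻¹ := by rw [hB, map_mul, map_mul, map_inv]
  rw [← eB] at hcomm h2 hind
  have hAB : ⁅A, B⁆ = 1 := commutator_eq_one_of_inverted hσ.2.1 (p := 3) (by norm_num) (N := N) ha
    (commutatorElement_eq_one_iff_mul_comm.mpr hcomm)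
    (by rw [map_mul, map_mul, map_inv, map_inv, h1]) (by rw [map_mul, map_mul, map_inv, h2])
  have hT3 : ∀ g : Γ, g * T ^ 3 = T ^ 3 * g := hker _ (by rw [map_pow, ht])
  have hTC : T * C * T⁻¹ = A := by
    rw [hC, hB, show T * (T * (T * A * T⁻¹) * T⁻¹) * T⁻¹ = T ^ 3 * A * (T ^ 3)⁻¹ by simp [pow_succ, mul_assoc], ← hT3,
      mul_inv_cancel_right]
  have cAB : Commute A B := commutatorElement_eq_one_iff_mul_comm.mp hAB
  have cBC : Commute B C := by rw [hC, hB]; exact cAB.map (MulAut.conj T).toMonoidHom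
  have cCA : Commute C A := by
    have := cBC.map (MulAut.conj T).toMonoidHom
    simp only [MulEquiv.coe_toMonoidHom, MulAut.conj_apply, hTC, ← hC] at this
    exact this
  set d := B * A⁻¹ with hd
  set e := C * B⁻¹ with he
  have cde : Commute d e := ((cBC.mul_right (Commute.refl B).inv_right).mul_left
    ((cCA.symm.inv_left).mul_right (cAB.inv_left.inv_right)))
  have hTd : T * d * T⁻¹ = e := by rw [hd, he, hC, hB]; group
  have hTe : T * e * T⁻¹ = (d * e)⁻¹ := by
    rw [he, show T * (C * B⁻¹) * T⁻¹ = T * C * T⁻¹ * (T * B * T⁻¹)⁻¹ by group, hTC, ← hC, hd]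
    rw [show B * A⁻¹ * (C * B⁻¹) = B * (A⁻¹ * C) * B⁻¹ by group, cCA.symm.inv_left.eq,
      show B * (C * A⁻¹) * B⁻¹ = B * C * (A⁻¹ * B⁻¹) by group, (cAB.inv_left.inv_right).eq, cBC.eq]
    group
  have hA3 : B ^ 3 = A ^ 3 := by
    rw [hB, conj_pow, hker (A ^ 3) (by rw [map_pow, ha]) T, mul_inv_cancel_right]
  have hd3 : d ^ 3 = 1 := by
    rw [hd, (cAB.symm.inv_right).mul_pow, inv_pow, hA3, mul_inv_cancel]
  have he3 : e ^ 3 = 1 := by rw [← hTd, conj_pow, hd3, mul_one, mul_inv_cancel]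
  have hAd : Commute A d := cAB.mul_right (Commute.refl A).inv_right
  have hAe : Commute A e := cCA.symm.mul_right cAB.inv_right
  refine ⟨S, fun z hz hzS => ?_⟩
  have hzD : z ∈ Subgroup.closure ({d, e} : Set Γ) := by
    refine (Subgroup.commutator_mono (le_closure_union_ker (σ := σ) (H := (S : Subgroup Γ)) (T := {A, T}) ?_)
      (le_closure_union_ker (σ := σ) (H := (S : Subgroup Γ)) (T := {A, T}) ?_)).trans
      (commutator_closure_le ?_ ?_) hzS
    · rw [Set.image_pair]; exact hS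
    · rw [Set.image_pair]; exact hS
    · intro u hu x hx
      have md : d ∈ Subgroup.closure ({d, e} : Set Γ) := Subgroup.subset_closure (Or.inl rfl)
      have me : e ∈ Subgroup.closure ({d, e} : Set Γ) := Subgroup.subset_closure (Or.inr rfl)
      have hgen : u * d * u⁻¹ ∈ Subgroup.closure ({d, e} : Set Γ) ∧ u * e * u⁻¹ ∈ Subgroup.closure ({d, e} : Set Γ) := by
        rcases hu with (hu | hu) | hu
        · rw [hu, hAd.eq, hAe.eq, mul_inv_cancel_right, mul_inv_cancel_right]; exact ⟨md, me⟩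
        · rw [Set.mem_singleton_iff.mp hu, hTd, hTe]; exact ⟨me, inv_mem (mul_mem md me)⟩
        · rw [← hker u hu d, ← hker u hu e, mul_inv_cancel_right, mul_inv_cancel_right]; exact ⟨md, me⟩
      induction hx using Subgroup.closure_induction with
      | mem y hy => rcases hy with rfl | rfl; exacts [hgen.1, hgen.2]
      | one => rw [mul_one, mul_inv_cancel]; exact one_mem _
      | mul p q _ _ hp hq =>
        rw [show u * (p * q) * u⁻¹ = u * p * u⁻¹ * (u * q * u⁻¹) by group]; exact mul_mem hp hq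
      | inv p _ hp => rw [show u * p⁻¹ * u⁻¹ = (u * p * u⁻¹)⁻¹ by group]; exact inv_mem hp
    · have md : d ∈ Subgroup.closure ({d, e} : Set Γ) := Subgroup.subset_closure (Or.inl rfl)
      have hc1 : ⁅T, A⁆ = d := by rw [commutatorElement_def, hd, hB]
      rintro u hu w hw
      rcases hu with hu | hu
      · rcases hw with hw | hw
        · rcases hu with rfl | rfl <;> rcases hw with rfl | rfl
          · rw [commutatorElement_self]; exact one_mem _
          · rw [← commutatorElement_inv, hc1]; exact inv_mem md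
          · rw [hc1]; exact md
          · rw [commutatorElement_self]; exact one_mem _
        · rw [commutatorElement_eq_one_iff_mul_comm.mpr (hker w hw u)]; exact one_mem _
      · rw [commutatorElement_eq_one_iff_mul_comm.mpr (hker u hu w).symm]; exact one_mem _
  obtain ⟨i, j, rfl⟩ : ∃ i j : ℕ, z = d ^ i * e ^ j := by
    have hmod : ∀ g : Γ, g ^ 3 = 1 → g⁻¹ = g ^ 2 := fun g hg =>
      inv_eq_of_mul_eq_one_right (by rw [← pow_succ']; exact hg)
    clear hz hzS
    induction hzD using Subgroup.closure_induction with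
    | mem y hy => rcases hy with rfl | rfl; exacts [⟨1, 0, by simp⟩, ⟨0, 1, by simp⟩]
    | one => exact ⟨0, 0, by simp⟩
    | mul p q _ _ hp hq =>
      obtain ⟨i, j, rfl⟩ := hp; obtain ⟨k, l, rfl⟩ := hq
      exact ⟨i + k, j + l, by rw [(cde.symm.pow_pow j k).mul_mul_mul_comm, ← pow_add, ← pow_add]⟩
    | inv p _ hp =>
      obtain ⟨i, j, rfl⟩ := hp
      refine ⟨2 * i, 2 * j, ?_⟩
      rw [mul_inv_rev, pow_mul, pow_mul, ← hmod d hd3, ← hmod e he3, inv_pow, inv_pow,
        ((cde.pow_pow i j).inv_inv).eq]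
  have key := hind (i % 3) (Nat.mod_lt _ (by norm_num)) (j % 3) (Nat.mod_lt _ (by norm_num)) (by
    have h0 : σ (d ^ i * e ^ j) = 1 := hz
    rw [pow_eq_pow_mod i hd3, pow_eq_pow_mod j he3, map_mul, map_pow, map_pow] at h0
    have e1 : σ d = σ B * (σ A)⁻¹ := by rw [hd, map_mul, map_inv]
    have e2 : σ e = σ T * (σ B * (σ A)⁻¹) * (σ T)⁻¹ := by rw [← hTd, map_mul, map_mul, map_inv, e1]
    rwa [e1, e2] at h0)
  rw [pow_eq_pow_mod i hd3, pow_eq_pow_mod j he3, key.1, key.2, pow_zero, pow_zero, mul_one]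

end Cfsg.Lib.Schur
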