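import Cfsg.Agent.Schur.SylowTransfer

/-!
Tools for kernels of stem extensions: quotients, elements of prime power order in the commutator
subgroup of a Sylow subgroup, and generation by few elements.
-/

set_option autoImplicit false
set_option linter.style.haveILetI false

namespace Cfsg.Lib.Schur

open scoped commutatorElement

universe u v

variable {Γ : Type u} {Q : Type v} [Group Γ] [Group Q] {σ : Γ →* Q}

/-- A quotient by a subgroup of the kernel is again a stem extension. -/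
theorem stem_quotient (hσ : Cfsg.IsStemExtension σ) (N : Subgroup Γ) [N.Normal] (hN : N ≤ σ.ker) :
    Cfsg.IsStemExtension (QuotientGroup.lift N σ hN) ∧
      (QuotientGroup.lift N σ hN).ker = σ.ker.map (QuotientGroup.mk' N) := by
  have hker := QuotientGroup.ker_lift N σ hN
  refine ⟨⟨fun q => ?_, ?_, ?_⟩, hker⟩
  · obtain ⟨g, hg⟩ := hσ.1 q
    exact ⟨(g : Γ ⧸ N), hg⟩
  · rw [hker]
    rintro _ ⟨z, hz, rfl⟩
    refine Subgroup.mem_center_iff.mpr fun g => ?_
    obtain ⟨g', rfl⟩ := QuotientGroup.mk'_surjective N g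
    rw [← map_mul, ← map_mul, Subgroup.mem_center_iff.mp (hσ.2.1 hz) g']
  · rw [hker]
    refine (Subgroup.map_mono hσ.2.2).trans ?_
    rw [commutator_def, commutator_def, Subgroup.map_commutator]
    exact Subgroup.commutator_mono le_top le_top

variable [Finite Γ] {p : ℕ} [hp : Fact p.Prime]

/-- A central element of `p`-power order of the kernel of a stem extension is a product of
commutators of any Sylow subgroup. -/
theorem mem_commutator_sylow_pow (hσ : Cfsg.IsStemExtension σ) {z : Γ} (hz : z ∈ σ.ker) {k : ℕ}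
    (hzp : z ^ p ^ k = 1) (S : Sylow p Γ) : z ∈ ⁅(S : Subgroup Γ), (S : Subgroup Γ)⁆ := by
  have hc : ∀ g, g * z = z * g := Subgroup.mem_center_iff.mp (hσ.2.1 hz)
  have hzS : z ∈ (S : Subgroup Γ) := by
    have hP : IsPGroup p (Subgroup.zpowers z) := fun x => by
      obtain ⟨i, hi⟩ := Subgroup.mem_zpowers_iff.mp x.2
      refine ⟨k, Subtype.ext ?_⟩
      rw [Subgroup.coe_pow, ← hi, ← zpow_natCast, zpow_comm, zpow_natCast, hzp, one_zpow, Subgroup.coe_one]
    obtain ⟨T, hT⟩ := hP.exists_le_sylow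
    obtain ⟨g, hg⟩ := MulAction.exists_smul_eq Γ T S
    rw [← hg]
    exact ⟨z, hT (Subgroup.mem_zpowers z), by
      show g * z * g⁻¹ = z
      rw [hc, mul_inv_cancel_right]⟩
  let φ : (S : Subgroup Γ) →* Abelianization (S : Subgroup Γ) := Abelianization.of
  have key : ∀ (i : ℕ) (g₀ : Γ), g₀⁻¹ * z ^ i * g₀ ∈ (S : Subgroup Γ) → g₀⁻¹ * z ^ i * g₀ = z ^ i := by
    intro i g₀ _
    rw [mul_assoc, ← ((show Commute g₀ z from hc g₀).pow_right i).eq, inv_mul_cancel_left]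
  have hV := MonoidHom.transfer_eq_pow φ z key
  have h1 : MonoidHom.transfer φ z = 1 :=
    Abelianization.commutator_subset_ker (MonoidHom.transfer φ) (hσ.2.2 hz)
  rw [h1, eq_comm, ← MonoidHom.mem_ker] at hV
  rw [show φ.ker = commutator (S : Subgroup Γ) from Abelianization.ker_of (S : Subgroup Γ)] at hV
  have hpow : z ^ (S : Subgroup Γ).index ∈ ⁅(S : Subgroup Γ), (S : Subgroup Γ)⁆ := by
    rw [← Subgroup.map_subtype_commutator]
    exact ⟨_, hV, rfl⟩
  have hcop : Nat.Coprime (S : Subgroup Γ).index (p ^ k) :=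
    (Nat.Coprime.symm (hp.out.coprime_iff_not_dvd.mpr S.not_dvd_index)).pow_right k
  obtain ⟨m, hm⟩ := exists_pow_eq_self_of_coprime (x := z)
    (Nat.Coprime.of_dvd_right (orderOf_dvd_of_pow_eq_one hzp) hcop)
  rw [← hm]
  exact pow_mem hpow m

omit [Finite Γ] hp in
/-- An abelian group of exponent twelve with small quotients by squares and cubes is an image of
`C₃ × C₄ × C₄`. -/
theorem exists_surj_three_four_four {K : Type*} [CommGroup K] [Finite K] (h12 : ∀ z : K, z ^ 12 = 1)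
    (h2 : (powMonoidHom 2 : K →* K).range.index ≤ 4) (h3 : (powMonoidHom 3 : K →* K).range.index ≤ 3) :
    ∃ π : Multiplicative (ZMod 3 × ZMod 4 × ZMod 4) →* K, Function.Surjective π := by
  classical
  -- adjoining an element halves the index
  have step : ∀ {L : Subgroup K}, L ≠ ⊤ → ∃ x, 2 * (L ⊔ Subgroup.zpowers x).index ≤ L.index := by
    intro L hL
    obtain ⟨x, hx⟩ : ∃ x, x ∉ L := by
      by_contra h
      push Not at h
      exact hL (eq_top_iff.mpr fun x _ => h x)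
    refine ⟨x, ?_⟩
    have hlt : L < L ⊔ Subgroup.zpowers x :=
      lt_of_le_of_ne le_sup_left fun e => hx (e ▸ Subgroup.mem_sup_right (Subgroup.mem_zpowers x))
    rw [← Subgroup.relIndex_mul_index hlt.le]
    refine Nat.mul_le_mul_right _ ?_
    rcases Nat.lt_or_ge 1 (L.relIndex (L ⊔ Subgroup.zpowers x)) with h | h
    · exact h
    · exfalso
      have h0 : L.relIndex (L ⊔ Subgroup.zpowers x) ≠ 0 := Subgroup.index_ne_zero_of_finite
      exact absurd (Subgroup.relIndex_eq_one.mp (by omega)) (not_le_of_gt hlt)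
  have top_or : ∀ (L : Subgroup K), ∃ x, L ⊔ Subgroup.zpowers x = ⊤ ∨
      2 * (L ⊔ Subgroup.zpowers x).index ≤ L.index := by
    intro L
    by_cases hL : L = ⊤
    · exact ⟨1, Or.inl (by rw [hL, top_sup_eq])⟩
    · obtain ⟨x, hx⟩ := step hL
      exact ⟨x, Or.inr hx⟩
  obtain ⟨g, hg⟩ : ∃ g, (powMonoidHom 3 : K →* K).range ⊔ Subgroup.zpowers g = ⊤ := by
    obtain ⟨g, hg⟩ := top_or (powMonoidHom 3 : K →* K).range
    refine ⟨g, hg.elim id fun h => Subgroup.index_eq_one.mp ?_⟩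
    have : ((powMonoidHom 3 : K →* K).range ⊔ Subgroup.zpowers g).index ≠ 0 := Subgroup.index_ne_zero_of_finite
    omega
  obtain ⟨u, v, huv⟩ : ∃ u v, (powMonoidHom 2 : K →* K).range ⊔ Subgroup.zpowers u ⊔ Subgroup.zpowers v = ⊤ := by
    obtain ⟨u, hu⟩ := top_or (powMonoidHom 2 : K →* K).range
    rcases hu with hu | hu
    · exact ⟨u, 1, by rw [hu, top_sup_eq]⟩
    · obtain ⟨v, hv⟩ := top_or ((powMonoidHom 2 : K →* K).range ⊔ Subgroup.zpowers u)
      refine ⟨u, v, hv.elim id fun h => Subgroup.index_eq_one.mp ?_⟩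
      have : ((powMonoidHom 2 : K →* K).range ⊔ Subgroup.zpowers u ⊔ Subgroup.zpowers v).index ≠ 0 :=
        Subgroup.index_ne_zero_of_finite
      omega
  -- the map
  have mk : ∀ (n : ℕ) (x : K), x ^ n = 1 → ∃ f : Multiplicative (ZMod n) →* K, f (Multiplicative.ofAdd 1) = x := by
    intro n x hx
    refine ⟨AddMonoidHom.toMultiplicativeLeft
      (ZMod.lift n ⟨zmultiplesHom _ (Additive.ofMul x), by simp [← ofMul_pow, hx]⟩), ?_⟩
    show Additive.toMul (ZMod.lift n _ (1 : ZMod n)) = x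
    rw [show (1 : ZMod n) = ((1 : ℤ) : ZMod n) by simp, ZMod.lift_coe]
    simp
  obtain ⟨fg, efg⟩ := mk 3 (g ^ 4) (by rw [← pow_mul]; exact h12 g)
  obtain ⟨fu, efu⟩ := mk 4 (u ^ 3) (by rw [← pow_mul]; exact h12 u)
  obtain ⟨fv, efv⟩ := mk 4 (v ^ 3) (by rw [← pow_mul]; exact h12 v)
  let π : Multiplicative (ZMod 3 × ZMod 4 × ZMod 4) →* K :=
    MonoidHom.mk' (fun z => fg (Multiplicative.ofAdd z.toAdd.1) * (fu (Multiplicative.ofAdd z.toAdd.2.1) *
      fv (Multiplicative.ofAdd z.toAdd.2.2))) fun a b => by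
        simp only [toAdd_mul, Prod.fst_add, Prod.snd_add, ofAdd_add, map_mul]
        ac_rfl
  refine ⟨π, MonoidHom.range_eq_top.mp (eq_top_iff.mpr fun k _ => ?_)⟩
  have hG : g ^ 4 ∈ π.range := ⟨Multiplicative.ofAdd (1, 0, 0), by simp [π, efg]⟩
  have hU : u ^ 3 ∈ π.range := ⟨Multiplicative.ofAdd (0, 1, 0), by simp [π, efu]⟩
  have hV : v ^ 3 ∈ π.range := ⟨Multiplicative.ofAdd (0, 0, 1), by simp [π, efv]⟩
  have hk4 : k ^ 4 ∈ π.range := by
    obtain ⟨a, ⟨a', rfl⟩, b, hb, e⟩ := Subgroup.mem_sup.mp (hg ▸ Subgroup.mem_top k)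
    obtain ⟨i, rfl⟩ := Subgroup.mem_zpowers_iff.mp hb
    rw [← e, powMonoidHom_apply, mul_pow, ← pow_mul, h12, one_mul, ← zpow_natCast, zpow_comm, zpow_natCast]
    exact zpow_mem hG i
  have hk3' : ∀ c : K, ∃ d, c ^ 3 * (d ^ 3) ^ 2 ∈ π.range := by
    intro c
    obtain ⟨ab, hab, w, hw, e⟩ := Subgroup.mem_sup.mp (huv ▸ Subgroup.mem_top c)
    obtain ⟨a, ⟨a', rfl⟩, b, hb, e'⟩ := Subgroup.mem_sup.mp hab
    obtain ⟨i, rfl⟩ := Subgroup.mem_zpowers_iff.mp hb
    obtain ⟨j, rfl⟩ := Subgroup.mem_zpowers_iff.mp hw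
    refine ⟨a'⁻¹, ?_⟩
    have hsw : ∀ (x : K) (n : ℤ), (x ^ n) ^ 3 = (x ^ 3) ^ n := fun x n => by
      rw [← zpow_natCast (x ^ n) 3, ← zpow_natCast x 3, zpow_comm]
    have h1 : (a' ^ 2) ^ 3 * ((a'⁻¹) ^ 3) ^ 2 = 1 := by
      rw [← pow_mul, ← pow_mul, inv_pow, mul_inv_cancel]
    have hc : c ^ 3 * ((a'⁻¹) ^ 3) ^ 2 = (u ^ 3) ^ i * (v ^ 3) ^ j := by
      rw [← e, ← e', powMonoidHom_apply, mul_pow, mul_pow, hsw u i, hsw v j]
      calc _ = (u ^ 3) ^ i * (v ^ 3) ^ j * ((a' ^ 2) ^ 3 * ((a'⁻¹) ^ 3) ^ 2) := by ac_rfl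
        _ = _ := by rw [h1, mul_one]
    rw [hc]
    exact mul_mem (zpow_mem hU i) (zpow_mem hV j)
  have hk3 : k ^ 3 ∈ π.range := by
    obtain ⟨d, hd⟩ := hk3' k
    obtain ⟨d', hd'⟩ := hk3' d
    have e : k ^ 3 * (d ^ 3) ^ 2 * ((d ^ 3 * (d' ^ 3) ^ 2) ^ 2)⁻¹ = k ^ 3 := by
      rw [mul_pow, ← pow_mul (d' ^ 3), ← pow_mul d', h12, mul_one, mul_inv_cancel_right]
    rw [← e]
    exact mul_mem hd (inv_mem (pow_mem hd' 2))
  have e : k ^ 4 * (k ^ 3)⁻¹ = k := by rw [pow_succ' k 3, mul_inv_cancel_right]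
  exact e ▸ mul_mem hk4 (inv_mem hk3)

end Cfsg.Lib.Schur
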