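import Cfsg.Agent.Schur.PermPrime

/-!
Certificates for Sylow subgroups of permutation groups whose generators act on coded points by a computable step.
-/

set_option autoImplicit false

namespace Cfsg.Lib.Schur.ActPrime

open Cfsg.Lib.Schur.PermPrime (wordsIn flat flat_in getD_in)
open Cfsg.Lib.Schur.Prime (Cert val sub)

universe u v w

/-- The image of a code under a word. -/
def ev (step : ℕ → ℕ → ℕ) (l : List ℕ) (x : ℕ) : ℕ := l.foldr (fun k y => step k y) x

/-- The product of a word. -/
def elem {X : Type w} (im : ℕ → Equiv.Perm X) (l : List ℕ) : Equiv.Perm X := (l.map im).prod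

/-- Two words agree on the given codes. -/
def eqOn (step : ℕ → ℕ → ℕ) (pts : List ℕ) (a b : List ℕ) : Bool := pts.all fun x => ev step a x == ev step b x

/-- The rules with a given first index. -/
def ruleRow (step : ℕ → ℕ → ℕ) (pts : List ℕ) (c : Cert) (pcw : List (List ℕ)) (j : ℕ) : Bool :=
  (List.range (j + 1)).all fun i => eqOn step pts (flat pcw (c.lhs j i)) (flat pcw (c.tail j i))

/-- The conjugations. -/
def fusOK (step : ℕ → ℕ → ℕ) (pts : List ℕ) (c : Cert) (pcw fw : List (List ℕ)) : Bool :=
  (List.range c.fuse.length).all fun f =>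
    (List.range (c.fuse.getD f ([], [], [])).1.length).all fun k =>
      eqOn step pts (fw.getD f [] ++ flat pcw ((c.fuse.getD f ([], [], [])).1.getD k []))
        (flat pcw ((c.fuse.getD f ([], [], [])).2.1.getD k []) ++ fw.getD f [])

/-- A set of codes stable under the later generators and left by the current one. -/
def orbOK (N : ℕ) (step : ℕ → ℕ → ℕ) (m : ℕ) (pcw : List (List ℕ)) (k : ℕ) (O : List ℕ) : Bool :=
  O.all (fun x => Nat.blt x N) && O.contains (O.getD 0 0) &&
    !(O.contains (ev step (pcw.getD k []) (O.getD 0 0))) &&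
    (List.range m).all fun i => Nat.ble i k || O.all fun x => O.contains (ev step (pcw.getD i []) x)

/-- The step computes the generators on the codes below the bound. -/
structure Acts {X : Type w} (N len : ℕ) (enc : X → ℕ) (im : ℕ → Equiv.Perm X) (step : ℕ → ℕ → ℕ) : Prop where
  inj : Function.Injective enc
  surj : ∀ v < N, ∃ x, enc x = v
  step_eq : ∀ k < len, ∀ x, enc (im k x) = step k (enc x)

variable {X : Type w} {N len : ℕ} {enc : X → ℕ} {im : ℕ → Equiv.Perm X} {step : ℕ → ℕ → ℕ}

theorem elem_append (a b : List ℕ) : elem im (a ++ b) = elem im a * elem im b := by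
  simp [elem]

theorem elem_flat (ws : List (List ℕ)) : ∀ l : List ℕ,
    elem im (flat ws l) = (l.map fun k => elem im (ws.getD k [])).prod
  | [] => rfl
  | k :: l => by
    rw [show flat ws (k :: l) = ws.getD k [] ++ flat ws l from List.flatMap_cons .., elem_append,
      elem_flat ws l, List.map_cons, List.prod_cons]

theorem elem_apply (hA : Acts N len enc im step) : ∀ {l : List ℕ}, l.all (fun k => Nat.blt k len) = true →
    ∀ x : X, enc (elem im l x) = ev step l (enc x)
  | [], _, _ => rfl
  | k :: l, h, x => by
    simp only [List.all_cons, Bool.and_eq_true] at h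
    have hk : k < len := by simpa [Nat.blt, Nat.ble_eq] using h.1
    show enc ((List.map im (k :: l)).prod x) = _
    rw [List.map_cons, List.prod_cons, Equiv.Perm.mul_apply, hA.step_eq k hk, ← elem, elem_apply hA h.2]
    rfl

variable {Q : Type v} [Group Q] [Finite Q] (ι : Q →* Equiv.Perm X)

theorem moves_in_orbit (hA : Acts N len enc im step) {m : ℕ}
    {pcw : List (List ℕ)} (hw : wordsIn len pcw = true) (x : ℕ → Q)
    (hx : ∀ k, ι (x k) = elem im (pcw.getD k [])) {k : ℕ} {O : List ℕ} (hO : orbOK N step m pcw k O = true) :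
    x k ∉ Subgroup.closure (x '' {i | k + 1 ≤ i ∧ i < m}) := by
  simp only [orbOK, Bool.and_eq_true, Bool.not_eq_true', List.all_eq_true, List.mem_range, Bool.or_eq_true,
    Nat.ble_eq, List.contains_iff_mem, Nat.blt] at hO
  obtain ⟨⟨⟨hb, hv⟩, hout⟩, hstab⟩ := hO
  intro hmem
  have key : ∀ q ∈ Subgroup.closure (x '' {i | k + 1 ≤ i ∧ i < m}), ∀ v : X, enc v ∈ O →
      enc (ι q v) ∈ O := by
    intro q hq
    induction hq using Subgroup.closure_induction with
    | mem y hy =>
      obtain ⟨i, ⟨hi1, hi2⟩, rfl⟩ := hy
      intro v hv'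
      rw [hx, elem_apply hA (getD_in hw i)]
      exact (hstab i hi2).resolve_left (by omega) (enc v) hv'
    | one => intro v hv'; rw [map_one]; exact hv'
    | mul a b _ _ ha hb' =>
      intro v hv'
      rw [map_mul, Equiv.Perm.mul_apply]
      exact ha _ (hb' v hv')
    | inv a _ ha =>
      have hpow : ∀ e : ℕ, ∀ v : X, enc v ∈ O → enc (ι (a ^ e) v) ∈ O := by
        intro e
        induction e with
        | zero => intro v hv'; rw [pow_zero, map_one]; exact hv'
        | succ e ih =>
          intro v hv'
          rw [pow_succ, map_mul, Equiv.Perm.mul_apply]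
          exact ih _ (ha v hv')
      rw [show a⁻¹ = a ^ (orderOf a - 1) from inv_eq_of_mul_eq_one_left (by
        rw [← pow_succ, Nat.sub_add_cancel (orderOf_pos a), pow_orderOf_eq_one])]
      exact hpow _
  obtain ⟨v, hv'⟩ := hA.surj (O.getD 0 0) (by have := hb _ hv; omega)
  have h := key _ hmem v (by rw [hv']; exact hv)
  rw [hx, elem_apply hA (getD_in hw k), hv'] at h
  have hc : O.contains (ev step (pcw.getD k []) (O.getD 0 0)) = true := List.contains_iff_mem.mpr h
  rw [hout] at hc
  cases hc

omit [Finite Q] in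
theorem map_val {pcw : List (List ℕ)} (x : ℕ → Q)
    (hx : ∀ k, ι (x k) = elem im (pcw.getD k [])) (l : List ℕ) : ι (val x l) = elem im (flat pcw l) := by
  rw [elem_flat, val, map_list_prod, List.map_map]
  exact congrArg List.prod (List.map_congr_left fun k _ => hx k)

/-- The points determine the elements of the group. -/
def Based (enc : X → ℕ) (pts : List ℕ) : Prop := ∀ a b : Q, (∀ x : X, enc x ∈ pts → ι a x = ι b x) → a = b

omit [Finite Q] in
theorem eq_of_eqOn (hA : Acts N len enc im step) {pts : List ℕ} (hbase : Based ι enc pts) {a b : List ℕ}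
    (ha : a.all (fun k => Nat.blt k len) = true) (hb : b.all (fun k => Nat.blt k len) = true)
    {p q : Q} (hp : ι p = elem im a) (hq : ι q = elem im b) (h : eqOn step pts a b = true) : p = q := by
  refine hbase p q fun x hx => hA.inj ?_
  rw [hp, hq, elem_apply hA ha, elem_apply hA hb]
  simpa using List.all_eq_true.mp h (enc x) hx

/-- A checked certificate with words excludes the prime from the kernel of a stem extension. -/
theorem not_dvd_ker (hA : Acts N len enc im step) {pts : List ℕ} (hbase : Based ι enc pts)
    (c : Cert) (hp : c.p.Prime) (hc : c.ok = true) (pcw fw : List (List ℕ))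
    (hpw : wordsIn len pcw = true) (hfw : wordsIn len fw = true)
    (hrules : ∀ j < c.n, ruleRow step pts c pcw j = true) (hfus : fusOK step pts c pcw fw = true)
    (O : List (List ℕ)) (hO : ∀ k < c.n, orbOK N step c.n pcw k (O.getD k []) = true)
    (hcard : (Nat.card Q).factorization c.p = c.n)
    (hmem : ∀ w : List ℕ, w.all (fun k => Nat.blt k len) = true → ∃ q : Q, ι q = elem im w)
    {Γ : Type u} [Group Γ] [Finite Γ] {σ : Γ →* Q} (hσ : Cfsg.IsStemExtension σ) :
    ¬ c.p ∣ Nat.card σ.ker := by
  choose x hx using fun k => hmem (pcw.getD k []) (getD_in hpw k)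
  choose g hg using fun k => hmem (fw.getD k []) (getD_in hfw k)
  have hr : ∀ j < c.n, ∀ i ≤ j, val x (c.lhs j i) = val x (c.tail j i) := by
    intro j hj i hi
    have h := hrules j hj
    simp only [ruleRow, List.all_eq_true, List.mem_range] at h
    exact eq_of_eqOn ι hA hbase (flat_in hpw _) (flat_in hpw _) (map_val ι x hx _) (map_val ι x hx _)
      (h i (by omega))
  have hf : ∀ f ∈ c.fuse, ∃ g, ∀ k < f.1.length,
      g * val x (f.1.getD k []) * g⁻¹ = val x (f.2.1.getD k []) := by
    intro f hf
    obtain ⟨i, hi, rfl⟩ := List.mem_iff_getElem.mp hf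
    refine ⟨g i, fun k hk => ?_⟩
    have h := List.all_eq_true.mp hfus i (List.mem_range.mpr hi)
    rw [List.getD_eq_getElem _ _ hi] at h
    rw [mul_inv_eq_iff_eq_mul]
    refine eq_of_eqOn ι hA hbase (a := fw.getD i [] ++ flat pcw (c.fuse[i].1.getD k []))
      (b := flat pcw (c.fuse[i].2.1.getD k []) ++ fw.getD i []) ?_ ?_ ?_ ?_
      (List.all_eq_true.mp h k (List.mem_range.mpr hk))
    · rw [List.all_append, getD_in hfw, flat_in hpw, Bool.and_self]
    · rw [List.all_append, getD_in hfw, flat_in hpw, Bool.and_self]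
    · rw [elem_append, map_mul, hg, map_val ι x hx]
    · rw [elem_append, map_mul, hg, map_val ι x hx]
  have hshape : c.shapesOK = true := by
    simp only [Cert.ok, Bool.and_eq_true] at hc
    exact hc.1.2
  have hup := Cfsg.Lib.Schur.Prime.card_sub_le c hshape hp.pos x hr
  have hlow : ∀ d k, k + d = c.n → c.p ^ d ≤ Nat.card (sub c x k) := by
    intro d
    induction d with
    | zero => intro k _; rw [pow_zero]; exact Nat.card_pos
    | succ d ih =>
      intro k hk
      have hnot := moves_in_orbit ι hA hpw x hx (hO k (by omega))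
      have hle : sub c x (k + 1) ≤ sub c x k :=
        Subgroup.closure_mono (Set.image_mono fun i hi => ⟨(Nat.le_succ k).trans hi.1, hi.2⟩)
      have hxk : x k ∈ sub c x k := Subgroup.subset_closure ⟨k, ⟨le_rfl, by omega⟩, rfl⟩
      have hpow : x k ^ c.p ∈ sub c x (k + 1) := by
        have h := hr k (by omega) k le_rfl
        simp only [Cert.lhs, beq_self_eq_true, cond_true, val, List.map_replicate, List.prod_replicate] at h
        rw [h]
        simp only [Cert.shapesOK, List.all_eq_true, List.mem_range, Bool.or_eq_true, Nat.blt, Nat.ble_eq] at hshape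
        have hs := (hshape k (by omega) k (by omega)).resolve_left (by omega)
        simp only [Cert.shapeOK, beq_self_eq_true, cond_true, List.all_eq_true, Bool.and_eq_true, Nat.blt,
          Nat.ble_eq] at hs
        exact Subgroup.list_prod_mem _ fun z hz => by
          obtain ⟨q, hq, rfl⟩ := List.mem_map.mp hz
          exact Subgroup.subset_closure ⟨q, ⟨(hs q hq).1, (hs q hq).2⟩, rfl⟩
      let F : Fin c.p × sub c x (k + 1) → sub c x k := fun a =>
        ⟨x k ^ (a.1 : ℕ) * a.2, mul_mem (pow_mem hxk _) (hle a.2.2)⟩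
      have hF : Function.Injective F := by
        rintro ⟨a1, a⟩ ⟨a1', a'⟩ e
        have e' : x k ^ (a1 : ℕ) * (a : Q) = x k ^ (a1' : ℕ) * (a' : Q) := congrArg Subtype.val e
        have hz : x k ^ ((a1 : ℤ) - (a1' : ℤ)) ∈ sub c x (k + 1) := by
          have : x k ^ ((a1 : ℤ) - (a1' : ℤ)) = (a' : Q) * (a : Q)⁻¹ := by
            rw [zpow_sub, zpow_natCast, zpow_natCast,
              (Commute.pow_pow_self (x k) (a1 : ℕ) (a1' : ℕ)).inv_right.eq,
              eq_mul_inv_iff_mul_eq, mul_assoc, e', inv_mul_cancel_left]
          rw [this]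
          exact mul_mem a'.2 (inv_mem a.2)
        have hmm : a1 = a1' := by
          by_contra hne
          refine hnot ?_
          have hcop : IsCoprime ((a1 : ℤ) - (a1' : ℤ)) (c.p : ℤ) := by
            refine Int.isCoprime_iff_gcd_eq_one.mpr ?_
            rw [Int.gcd_comm]
            refine (Nat.Prime.coprime_iff_not_dvd hp).mpr fun hd => hne (Fin.ext ?_)
            have h1 := a1.2
            have h2 := a1'.2
            have := Nat.eq_zero_of_dvd_of_lt hd (by omega)
            omega
          obtain ⟨a, b, hab⟩ := hcop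
          rw [show x k = (x k ^ ((a1 : ℤ) - (a1' : ℤ))) ^ a * (x k ^ (c.p : ℤ)) ^ b by
            rw [← zpow_mul, ← zpow_mul, ← zpow_add, mul_comm _ a, mul_comm _ b, hab, zpow_one]]
          exact mul_mem (zpow_mem hz a) (zpow_mem (by rwa [zpow_natCast]) b)
        subst hmm
        exact Prod.ext rfl (Subtype.ext (mul_left_cancel e'))
      have := Nat.card_le_card_of_injective F hF
      rw [Nat.card_prod, Nat.card_fin] at this
      calc c.p ^ (d + 1) = c.p * c.p ^ d := pow_succ' _ _
        _ ≤ c.p * Nat.card (sub c x (k + 1)) := Nat.mul_le_mul_left _ (ih (k + 1) (by omega))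
        _ ≤ _ := this
  have hset : ({i | 0 ≤ i ∧ i < c.n} : Set ℕ) = {i | i < c.n} := by ext; simp
  have heq : Nat.card (Subgroup.closure (x '' {i | i < c.n})) = c.p ^ c.n := by
    have h1 := hup c.n 0 (Nat.zero_add _)
    have h2 := hlow c.n 0 (Nat.zero_add _)
    rw [sub, hset] at h1 h2
    exact le_antisymm h1 h2
  exact Cert.not_dvd c hp hc hσ x hr hf (by rw [heq, hcard]) heq.symm

end Cfsg.Lib.Schur.ActPrime
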