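import Cfsg.Agent.Schur.PrimeCert

/-!
Checking a certificate against written-out equations, row by row.
-/

set_option autoImplicit false

namespace Cfsg.Lib.Schur.Prime

/-- The elimination for one row. -/
def Cert.rowOK (c : Cert) (E : List (Bool × Form)) (j : ℕ) : Bool :=
  (List.range c.n).all fun i => Nat.blt j i ||
    ((((c.sels.getD j []).getD i []).all fun e => Nat.blt e.1 E.length) &&
      (comb c.p E ((c.sels.getD j []).getD i []) ==
        add c.p (add c.p (c.bit j i) (c.shift (c.lhs j i))) (smul c.p (c.p - 1) (c.shift (c.tail j i)))))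

/-- The check from written-out equations. -/
theorem Cert.ok_of_lit (c : Cert) {E : List (Bool × Form)} (hE : (c.eqs == E) = true)
    (hb : (Nat.blt 1 c.p && E.all (·.1) && c.shapesOK) = true) (hrow : ∀ j < c.n, c.rowOK E j = true) :
    c.ok = true := by
  have e : c.eqs = E := beq_iff_eq.mp hE
  show (Nat.blt 1 c.p && c.eqs.all (·.1) && c.shapesOK &&
    (List.range c.n).all fun j => c.rowOK c.eqs j) = true
  rw [e, hb, Bool.true_and, List.all_eq_true]
  exact fun j hj => hrow j (List.mem_range.mp hj)

end Cfsg.Lib.Schur.Prime
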