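import Cfsg.Prelude.Def_KGroupFacts
import Mathlib.GroupTheory.PGroup
import Mathlib.GroupTheory.GroupAction.Quotient
import Mathlib.Tactic.Abel
import Mathlib.Algebra.Group.MinimalAxioms
import Mathlib.Tactic.Group

/-!
Central extensions from corestriction: a normalised two-cocycle on a subgroup gives one on the
group, with a formula for commutators of lifts of commuting elements.
-/

set_option autoImplicit false

open scoped commutatorElement

namespace Cfsg.Lib.Schur.Corestriction

universe u v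

variable {G : Type u} [Group G] {Z : Type v} [AddCommGroup Z]

/-- A normalised cocycle on a subgroup with a transversal. -/
structure Datum (P : Subgroup G) (Z : Type v) [AddCommGroup Z] where
  f : P → P → Z
  cocycle : ∀ x y z, f y z + f x (y * z) = f (x * y) z + f x y
  left : ∀ x, f 1 x = 0
  right : ∀ x, f x 1 = 0
  s : G ⧸ P → G
  hs : ∀ i, (s i : G ⧸ P) = i

variable {P : Subgroup G} (D : Datum P Z)

/-- The element of the subgroup attached to a coset. -/
def beta (g : G) (i : G ⧸ P) : P :=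
  ⟨(D.s (g • i))⁻¹ * (g * D.s i), QuotientGroup.eq.mp (by
    rw [D.hs, ← smul_eq_mul g (D.s i)]
    show g • i = g • (D.s i : G ⧸ P)
    rw [D.hs])⟩

theorem beta_mul (g h : G) (i : G ⧸ P) : beta D (g * h) i = beta D g (h • i) * beta D h i := by
  refine Subtype.ext ?_
  simp only [beta, Subgroup.coe_mul, mul_smul]
  group

theorem beta_one (i : G ⧸ P) : beta D 1 i = 1 := by
  refine Subtype.ext ?_
  simp [beta]

variable [Fintype (G ⧸ P)]

/-- The corestricted cocycle. -/
def cor (g h : G) : Z := ∑ i : G ⧸ P, D.f (beta D g (h • i)) (beta D h i)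

theorem cor_cocycle (g h k : G) : cor D h k + cor D g (h * k) = cor D (g * h) k + cor D g h := by
  have e : cor D g h = ∑ i : G ⧸ P, D.f (beta D g (h • k • i)) (beta D h (k • i)) :=
    (Fintype.sum_equiv (MulAction.toPerm k) _ _ (fun i => rfl)).symm
  rw [e, cor, cor, cor, ← Finset.sum_add_distrib, ← Finset.sum_add_distrib]
  refine Finset.sum_congr rfl fun i _ => ?_
  rw [beta_mul, beta_mul, mul_smul]
  exact D.cocycle _ _ _

theorem cor_right (g : G) : cor D g 1 = 0 := by
  refine Finset.sum_eq_zero fun i _ => ?_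
  rw [beta_one, D.right]

theorem cor_left (g : G) : cor D 1 g = 0 := by
  refine Finset.sum_eq_zero fun i _ => ?_
  rw [beta_one, D.left]

/-- The central extension. -/
@[ext] structure Ext (D : Datum P Z) where
  z : Z
  g : G

instance : Mul (Ext D) := ⟨fun x y => ⟨x.z + y.z + cor D x.g y.g, x.g * y.g⟩⟩
instance : One (Ext D) := ⟨⟨0, 1⟩⟩
instance : Inv (Ext D) := ⟨fun x => ⟨-x.z - cor D x.g⁻¹ x.g, x.g⁻¹⟩⟩

theorem mul_def (x y : Ext D) : x * y = ⟨x.z + y.z + cor D x.g y.g, x.g * y.g⟩ := rfl

theorem one_def : (1 : Ext D) = ⟨0, 1⟩ := rfl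

instance : Group (Ext D) :=
  Group.ofLeftAxioms
    (fun a b c => by
      refine Ext.ext ?_ (mul_assoc _ _ _)
      show a.z + b.z + cor D a.g b.g + c.z + cor D (a.g * b.g) c.g =
        a.z + (b.z + c.z + cor D b.g c.g) + cor D a.g (b.g * c.g)
      have h := cor_cocycle D a.g b.g c.g
      calc _ = a.z + b.z + c.z + (cor D (a.g * b.g) c.g + cor D a.g b.g) := by abel
        _ = a.z + b.z + c.z + (cor D b.g c.g + cor D a.g (b.g * c.g)) := by rw [h]
        _ = _ := by abel)
    (fun a => by
      refine Ext.ext ?_ (one_mul _)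
      show 0 + a.z + cor D 1 a.g = a.z
      rw [cor_left]; abel)
    (fun a => by
      refine Ext.ext ?_ (inv_mul_cancel _)
      show -a.z - cor D a.g⁻¹ a.g + a.z + cor D a.g⁻¹ a.g = 0
      abel)

instance [Finite G] [Finite Z] : Finite (Ext D) :=
  Finite.of_injective (fun x => (x.z, x.g)) fun x y h =>
    Ext.ext (congrArg Prod.fst h) (congrArg Prod.snd h)

/-- The projection. -/
def proj : Ext D →* G := MonoidHom.mk' (fun x => x.g) fun _ _ => rfl

/-- The kernel. -/
def kerEquiv : Multiplicative Z ≃* (proj D).ker where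
  toFun z := ⟨⟨z.toAdd, 1⟩, rfl⟩
  invFun x := Multiplicative.ofAdd x.1.z
  left_inv _ := rfl
  right_inv x := Subtype.ext (Ext.ext rfl x.2.symm)
  map_mul' a b := Subtype.ext (Ext.ext
    (show a.toAdd + b.toAdd = a.toAdd + b.toAdd + cor D 1 1 by rw [cor_left]; abel)
    (one_mul (1 : G)).symm)

theorem ker_le_center : (proj D).ker ≤ Subgroup.center (Ext D) := by
  intro x hx
  replace hx : x.g = 1 := hx
  refine Subgroup.mem_center_iff.mpr fun y => Ext.ext ?_ ?_
  · show y.z + x.z + cor D y.g x.g = x.z + y.z + cor D x.g y.g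
    rw [hx, cor_right, cor_left]; abel
  · show y.g * x.g = x.g * y.g
    rw [hx, mul_one, one_mul]

theorem commutator_lifts {g h : G} (hgh : g * h = h * g) :
    ⁅(Ext.mk (D := D) 0 g), (Ext.mk (D := D) 0 h)⁆ = Ext.mk (D := D) (cor D g h - cor D h g) 1 := by
  rw [commutatorElement_def, mul_inv_eq_iff_eq_mul, mul_inv_eq_iff_eq_mul]
  refine Ext.ext ?_ ?_
  · show 0 + 0 + cor D g h = cor D g h - cor D h g + 0 + cor D 1 h + 0 + cor D (1 * h) g
    rw [cor_left, one_mul]; abel
  · show g * h = 1 * h * g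
    rw [one_mul, hgh]

/-- The extension is a stem extension if the values on commuting pairs fill the coefficients. -/
theorem isStemExtension (h : ∀ z : Z, ∃ g k : G, g * k = k * g ∧ cor D g k - cor D k g = z) :
    Cfsg.IsStemExtension (proj D) := by
  refine ⟨fun g => ⟨⟨0, g⟩, rfl⟩, ker_le_center D, fun x hx => ?_⟩
  obtain ⟨g, k, hgk, e⟩ := h x.z
  replace hx : x.g = 1 := hx
  rw [show x = ⁅(Ext.mk (D := D) 0 g), (Ext.mk (D := D) 0 k)⁆ by
    rw [commutator_lifts D hgk]
    exact Ext.ext e.symm hx]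
  exact Subgroup.commutator_mem_commutator (Subgroup.mem_top _) (Subgroup.mem_top _)

omit [Fintype (G ⧸ P)] in
/-- A transversal along the free orbits of a subgroup: elements of `A` move the representatives
onto each other outside the fixed cosets. -/
theorem exists_transversal (A : Subgroup G)
    (hfree : ∀ a ∈ A, ∀ i : G ⧸ P, a • i = i → a ≠ 1 → ∀ b ∈ A, b • i = i) :
    ∃ s : G ⧸ P → G, (∀ i, (s i : G ⧸ P) = i) ∧
      ∀ a ∈ A, ∀ i : G ⧸ P, ¬ (∀ b ∈ A, b • i = i) → s (a • i) = a * s i := by
  classical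
  let o : G ⧸ P → MulAction.orbitRel.Quotient A (G ⧸ P) := fun i => Quotient.mk'' i
  have hex : ∀ i, ∃ a : A, (a : G) • (o i).out = i := by
    intro i
    have h : (o i).out ∈ MulAction.orbit A i := MulAction.orbitRel_apply.mp (Quotient.mk_out i)
    obtain ⟨a, ha⟩ := h
    refine ⟨a⁻¹, ?_⟩
    rw [← ha]
    show (a : G)⁻¹ • (a : G) • i = i
    rw [inv_smul_smul]
  choose a ha using hex
  refine ⟨fun i => (a i : G) * (o i).out.out, fun i => ?_, fun b hb i hi => ?_⟩
  · show (QuotientGroup.mk ((a i : G) * (o i).out.out) : G ⧸ P) = i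
    rw [← smul_eq_mul (a i : G)]
    show (a i : G) • ((o i).out.out : G ⧸ P) = i
    rw [QuotientGroup.out_eq', ha]
  · have ho : o (b • i) = o i := Quotient.sound' ⟨⟨b, hb⟩, rfl⟩
    set r := (o i).out with hr
    have e1 := ha (b • i)
    rw [ho, ← hr] at e1
    have key : (a (b • i) : G) = b * a i := by
      by_contra hne
      refine hi fun c hc => ?_
      have hfix : ((b * a i)⁻¹ * a (b • i)) • r = r := by
        rw [mul_smul, e1, mul_inv_rev, mul_smul, inv_smul_smul, inv_smul_eq_iff, ha]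
      have hmem : ∀ x : G, x ∈ A → x * (a i : G) ∈ A := fun x hx => mul_mem hx (a i).2
      have h2 := hfree _ (mul_mem (inv_mem (hmem b hb)) (a (b • i)).2) r hfix
        fun e => hne ((inv_mul_eq_one.mp e).symm)
      rw [← ha i, ← hr, ← mul_smul, h2 _ (hmem c hc), h2 _ (a i).2]
    show (a (b • i) : G) * (o (b • i)).out.out = b * ((a i : G) * r.out)
    rw [ho, key, mul_assoc]

omit [Fintype (G ⧸ P)] in
theorem beta_eq_one {g : G} {i : G ⧸ P} (h : D.s (g • i) = g * D.s i) : beta D g i = 1 := by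
  refine Subtype.ext ?_
  simp [beta, h]

end Cfsg.Lib.Schur.Corestriction
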