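import Cfsg.Agent.Schur.CollectCert

/-!
A collection certificate bounding the elementary abelian kernels of stem extensions: the signs of
a few designated rules determine every character of the kernel.
-/

set_option autoImplicit false

namespace Cfsg.Lib.Schur

open scoped commutatorElement Pointwise

universe u v

/-- An equation from a designated sum of rules. -/
def PcCert.desEq (c : PcCert) (d : List (ℕ × ℕ)) : Bool × ℕ :=
  (d.all fun p => Nat.blt p.1 c.n && Nat.ble p.2 p.1, xorAll (d.map fun p => c.bit p.1 p.2))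

/-- The equations with designated sums of rules. -/
def PcCert.eqsWith (c : PcCert) (des : List (List (ℕ × ℕ))) : List (Bool × ℕ) :=
  (c.assoc.map c.assocEq ++ c.squares.map c.squareEq) ++ des.map c.desEq

/-- The check with designated rules. -/
def PcCert.okWith (c : PcCert) (des : List (List (ℕ × ℕ))) : Bool :=
  let E := c.eqsWith des
  E.all (·.1) &&
    (List.range c.n).all fun j => (List.range c.n).all fun i => Nat.blt j i ||
      (c.shapeOK j i && (((c.sels.getD j []).getD i []).all fun e => Nat.blt e E.length) &&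
        (xorAll (((c.sels.getD j []).getD i []).map fun e => (E.getD e (false, 0)).2) ==
          c.bit j i ^^^ (c.shift [j, i] ^^^ c.shift (c.tail j i))))

variable {Δ : Type u} {Q : Type v} [Group Δ] [Group Q] [Finite Δ] [Finite Q]

/-- No double cover has all the designated rules exact. -/
theorem PcCert.false_of_designated (c : PcCert) (des : List (List (ℕ × ℕ))) (hok : c.okWith des = true)
    {τ : Δ →* Q} (hτ : Cfsg.IsStemExtension τ) (hk : Nat.card τ.ker = 2)
    (lift : Q → Δ) (hlift : ∀ q, τ (lift q) = q)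
    (x : ℕ → Q) (r : Bool → Q) (hr : ∀ b, r b * r b = 1)
    (hrules : ∀ j < c.n, ∀ i ≤ j, x j * x i = wordVal x (c.tail j i))
    (hsq : ∀ s ∈ c.squares, ∃ g, wordVal x s.1 = g * r s.2 * g⁻¹)
    (hP : Nat.card (Subgroup.closure (x '' {i | i < c.n})) = 2 ^ (Nat.card Q).factorization 2)
    (hn : 2 ^ c.n = Nat.card (Subgroup.closure (x '' {i | i < c.n})))
    (hdes : ∀ d ∈ des, (d.map fun p => (wordVal (fun k => lift (x k)) (c.tail p.1 p.2))⁻¹ *
      (lift (x p.1) * lift (x p.2))).prod = 1) : False := by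
  haveI : Fact (Nat.Prime 2) := ⟨Nat.prime_two⟩
  obtain ⟨⟨ζ, hζk⟩, hζ⟩ := exists_prime_orderOf_dvd_card' 2 (dvd_of_eq hk.symm : 2 ∣ Nat.card τ.ker)
  rw [Subgroup.orderOf_mk] at hζ
  have hζ1 : ζ ≠ 1 := fun e => by rw [e, orderOf_one] at hζ; omega
  have hζ2 : ζ * ζ = 1 := by rw [← sq, ← hζ, pow_orderOf_eq_one]
  have hc : ∀ g, g * ζ = ζ * g := Subgroup.mem_center_iff.mp (hτ.2.1 hζk)
  have hsplit : ∀ a b : Δ, τ a = τ b → ∃ s : Bool, a = b * sgn ζ s := by
    intro a b e
    classical
    by_cases h : b⁻¹ * a = 1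
    · exact ⟨false, by rw [inv_mul_eq_one.mp h]; simp [sgn]⟩
    · refine ⟨true, ?_⟩
      have hmem : b⁻¹ * a ∈ τ.ker := by rw [MonoidHom.mem_ker, map_mul, map_inv, e, inv_mul_cancel]
      obtain ⟨u, v, huv, hset⟩ := Nat.card_eq_two_iff.mp hk
      have all : ∀ w : τ.ker, w = 1 ∨ w = ⟨ζ, hζk⟩ := by
        intro w
        by_contra hw
        push Not at hw
        have hne : (1 : τ.ker) ≠ ⟨ζ, hζk⟩ := fun e => hζ1 (congrArg Subtype.val e).symm
        have cases' : ∀ z : τ.ker, z = u ∨ z = v := fun z => by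
          have : z ∈ ({u, v} : Set τ.ker) := hset ▸ Set.mem_univ z
          exact this
        rcases cases' 1 with h1 | h1 <;> rcases cases' ⟨ζ, hζk⟩ with h3 | h3 <;> rcases cases' w with h4 | h4 <;>
          simp_all
      rcases all ⟨_, hmem⟩ with h' | h'
      · exact absurd (congrArg Subtype.val h') h
      · rw [show sgn ζ true = b⁻¹ * a from (congrArg Subtype.val h').symm, mul_inv_cancel_left]
  let X : ℕ → Δ := fun k => lift (x k)
  have hX : ∀ w : List ℕ, τ (wordVal X w) = wordVal x w := by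
    intro w
    induction w with
    | nil => simp [wordVal]
    | cons a w ih => rw [wordVal_cons, wordVal_cons, map_mul, ih, hlift]
  classical
  let G : Q → Δ := lift
  let R : Bool → Δ := fun b => lift (r b)
  let ρ : ℕ → Bool := fun v =>
    if v < c.n * c.n then decide (X (v / c.n) * X (v % c.n) ≠ wordVal X (c.tail (v / c.n) (v % c.n)))
    else if v = c.n * c.n then decide (R false * R false ≠ 1)
    else if v = c.n * c.n + 1 then decide (R true * R true ≠ 1)
    else false
  have hsgn : ∀ a b : Δ, τ a = τ b → a = b * sgn ζ (decide (a ≠ b)) := by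
    intro a b e
    obtain ⟨s, hs⟩ := hsplit a b e
    by_cases h : a = b
    · simp [h, sgn]
    · cases s
      · exact absurd (by simpa [sgn] using hs) h
      · simpa [h] using hs
  have hrule : ∀ j < c.n, ∀ i ≤ j, X j * X i = wordVal X (c.tail j i) * sgn ζ (ρ (j * c.n + i)) := by
    intro j hj i hi
    have hlt : j * c.n + i < c.n * c.n := by
      have : (j + 1) * c.n ≤ c.n * c.n := Nat.mul_le_mul_right _ hj
      rw [Nat.add_mul] at this
      omega
    have e1 : (j * c.n + i) / c.n = j := by
      rw [Nat.mul_comm, Nat.mul_add_div (by omega), Nat.div_eq_of_lt (by omega), Nat.add_zero]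
    have e2 : (j * c.n + i) % c.n = i := by
      rw [Nat.mul_comm, Nat.mul_add_mod, Nat.mod_eq_of_lt (by omega)]
    simp only [ρ, if_pos hlt, e1, e2]
    exact hsgn _ _ (by rw [map_mul, hlift, hlift, hX, hrules j hj i hi])
  have nfs : ∀ w, wordVal X w = wordVal X (c.nf w).1 * sgn ζ (ev ρ c.vars (c.nf w).2) := fun w =>
    collect_spec X ρ c hζ2 hc hrule 4000 w
  have cancel : ∀ (a : Δ) {s t : Bool}, a * sgn ζ s = a * sgn ζ t → (s ^^ t) = false := fun a s t e => by
    rw [sgn_inj hζ1 (mul_left_cancel e)]; exact Bool.xor_self t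
  have heq : ∀ e ∈ c.eqsWith des, e.1 = true → ev ρ c.vars e.2 = false := by
    intro e he hok'
    rcases List.mem_append.mp he with he | he
    rcases List.mem_append.mp he with he | he
    · obtain ⟨⟨k, j, i⟩, -, rfl⟩ := List.mem_map.mp he
      simp only [PcCert.assocEq, Bool.and_eq_true, Nat.blt, Nat.ble_eq, beq_iff_eq] at hok' ⊢
      obtain ⟨⟨⟨hk, hjk⟩, hij⟩, hw⟩ := hok'
      have e1 : wordVal X [k, j, i] = wordVal X (c.nf (c.tail k j ++ [i])).1 *
          sgn ζ (ev ρ c.vars (c.bit k j ^^^ (c.nf (c.tail k j ++ [i])).2)) := by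
        rw [wordVal_cons, wordVal_cons, ← mul_assoc, rule_bit X ρ c hrule hk hjk, mul_assoc, ← sgn_comm hc,
          ← mul_assoc, ← wordVal_append, nfs, mul_assoc, ← sgn_xor hζ2, ev_xor, Bool.xor_comm]
      have e2 : wordVal X [k, j, i] = wordVal X (c.nf (k :: c.tail j i)).1 *
          sgn ζ (ev ρ c.vars (c.bit j i ^^^ (c.nf (k :: c.tail j i)).2)) := by
        rw [wordVal_cons, wordVal_cons, show wordVal X [i] = X i by simp [wordVal],
          rule_bit X ρ c hrule (lt_of_le_of_lt hjk hk) hij, ← mul_assoc, ← wordVal_cons, nfs, mul_assoc,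
          ← sgn_xor hζ2, ev_xor, Bool.xor_comm]
      rw [e1, hw] at e2
      rw [ev_xor]
      exact cancel _ e2
    · obtain ⟨⟨w, b⟩, hs, rfl⟩ := List.mem_map.mp he
      simp only [PcCert.squareEq, beq_iff_eq] at hok' ⊢
      obtain ⟨g, hg⟩ := hsq _ hs
      obtain ⟨s, hs'⟩ := hsplit (wordVal X w) (G g * R b * (G g)⁻¹)
        (by rw [hX, hg, map_mul, map_mul, map_inv, hlift, hlift])
      have hb : R b * R b = sgn ζ (ev ρ c.vars (c.classBit b)) := by
        have := hsgn (R b * R b) 1 (by rw [map_mul, hlift, hr, map_one])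
        rw [one_mul] at this
        rw [PcCert.classBit, ev_bit, decide_eq_true (by cases b <;> simp [PcCert.vars] <;> omega),
          Bool.true_and, this]
        cases b <;> simp [ρ]
      have hsq2 : wordVal X (w ++ w) = sgn ζ (ev ρ c.vars (c.classBit b)) := by
        rw [wordVal_append, hs', mul_assoc _ (sgn ζ s), ← sgn_comm hc (_ * sgn ζ s), mul_assoc _ (sgn ζ s),
          ← sgn_xor hζ2, Bool.xor_self, show sgn ζ false = 1 from rfl, mul_one,
          show G g * R b * (G g)⁻¹ * (G g * R b * (G g)⁻¹) = G g * (R b * R b) * (G g)⁻¹ by group, hb,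
          sgn_comm hc, mul_inv_cancel_right]
      have := nfs (w ++ w)
      rw [hok', hsq2] at this
      simp only [wordVal, List.map_nil, List.prod_nil, one_mul] at this
      rw [ev_xor, sgn_inj hζ1 this]
      exact Bool.xor_self _
    · obtain ⟨d, hd, rfl⟩ := List.mem_map.mp he
      simp only [PcCert.desEq, List.all_eq_true, Bool.and_eq_true, Nat.blt, Nat.ble_eq] at hok' ⊢
      have hval : ∀ l : List (ℕ × ℕ), (∀ p ∈ l, p.1 < c.n ∧ p.2 ≤ p.1) →
          (l.map fun p => (wordVal X (c.tail p.1 p.2))⁻¹ * (X p.1 * X p.2)).prod =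
            sgn ζ (ev ρ c.vars (xorAll (l.map fun p => c.bit p.1 p.2))) := by
        intro l hl
        induction l with
        | nil => simp [xorAll, ev_zero, sgn]
        | cons p l ih =>
          obtain ⟨hp, hp'⟩ := hl p List.mem_cons_self
          rw [List.map_cons, List.prod_cons, ih fun q hq => hl q (List.mem_cons_of_mem _ hq), List.map_cons,
            xorAll, ev_xor, sgn_xor hζ2, rule_bit X ρ c hrule hp hp', inv_mul_cancel_left]
      exact sgn_inj hζ1 ((hval d fun p hp => hok' p hp).symm.trans (hdes d hd))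
  simp only [PcCert.okWith, Bool.and_eq_true, List.all_eq_true, List.mem_range, Bool.or_eq_true, Nat.blt,
    Nat.ble_eq, beq_iff_eq] at hok
  obtain ⟨hall, hfin⟩ := hok
  let X' : ℕ → Δ := fun k => X k * sgn ζ (ev ρ c.vars (c.delta.getD k 0))
  have hX' : ∀ w, wordVal X' w = wordVal X w * sgn ζ (ev ρ c.vars (c.shift w)) := by
    intro w
    induction w with
    | nil => simp [wordVal, PcCert.shift, xorAll, ev_zero, sgn]
    | cons a w ih =>
      rw [wordVal_cons, wordVal_cons, ih,
        show c.shift (a :: w) = c.delta.getD a 0 ^^^ c.shift w from rfl, ev_xor, sgn_xor hζ2]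
      simp only [X', mul_assoc]
      rw [← mul_assoc (sgn ζ (ev ρ c.vars (c.delta.getD a 0))) (wordVal X w), ← sgn_comm hc, mul_assoc]
  have hexact : ∀ j < c.n, ∀ i ≤ j, X' j * X' i = wordVal X' (c.tail j i) := by
    intro j hj i hi
    rcases hfin j hj i (lt_of_le_of_lt hi hj) with h | ⟨⟨-, hidx⟩, hsel⟩
    · omega
    have h0 : ev ρ c.vars (c.bit j i ^^^ (c.shift [j, i] ^^^ c.shift (c.tail j i))) = false := by
      rw [← hsel]
      refine ev_xorAll ρ _ _ fun a ha => ?_
      obtain ⟨e, he, rfl⟩ := List.mem_map.mp ha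
      have hel : e < (c.eqsWith des).length := hidx e he
      rw [List.getD_eq_getElem _ _ hel]
      exact heq _ (List.getElem_mem hel) (hall _ (List.getElem_mem hel))
    have e1 : X' j * X' i = wordVal X' [j, i] := by simp [wordVal]
    rw [e1, hX', hX', show wordVal X [j, i] = X j * X i by simp [wordVal], rule_bit X ρ c hrule hj hi,
      mul_assoc, ← sgn_xor hζ2]
    refine congrArg (_ * sgn ζ ·) ?_
    rw [ev_xor, ev_xor] at h0
    revert h0
    cases ev ρ c.vars (c.bit j i) <;> cases ev ρ c.vars (c.shift [j, i]) <;>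
      cases ev ρ c.vars (c.shift (c.tail j i)) <;> simp
  let H : ℕ → Subgroup Δ := fun i => Subgroup.closure (X' '' {k | i ≤ k ∧ k < c.n})
  have hcardH : ∀ d, ∀ i, i + d = c.n → Nat.card (H i) ≤ 2 ^ d := by
    intro d
    induction d with
    | zero =>
      intro i hi
      have : H i = ⊥ := by
        refine (Subgroup.closure_eq_bot_iff).mpr ?_
        rintro _ ⟨k, ⟨h1, h3⟩, rfl⟩
        omega
      rw [this]; simp
    | succ d ih =>
      intro i hi
      have hin : i < c.n := by omega
      have htail : ∀ (l : List ℕ), (∀ k ∈ l, i + 1 ≤ k ∧ k < c.n) → wordVal X' l ∈ H (i + 1) := fun l hl =>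
        Subgroup.list_prod_mem _ fun z hz => by
          obtain ⟨k, hk, rfl⟩ := List.mem_map.mp hz
          exact Subgroup.subset_closure ⟨k, hl k hk, rfl⟩
      have hsq' : X' i * X' i ∈ H (i + 1) := by
        rw [hexact i hin i le_rfl]
        rcases hfin i hin i hin with h | ⟨⟨hsh, -⟩, -⟩
        · omega
        simp only [PcCert.shapeOK, beq_self_eq_true, cond_true, List.all_eq_true, Bool.and_eq_true, Nat.blt,
          Nat.ble_eq] at hsh
        exact htail _ fun k hk => hsh k hk
      have hconj : ∀ h ∈ H (i + 1), (X' i)⁻¹ * h * X' i ∈ H (i + 1) := by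
        intro h hh
        induction hh using Subgroup.closure_induction with
        | mem z hz =>
          obtain ⟨k, ⟨hk1, hk2⟩, rfl⟩ := hz
          rcases hfin k hk2 i hin with h' | ⟨⟨hsh, -⟩, -⟩
          · omega
          rw [PcCert.shapeOK, show (k == i) = false from beq_eq_false_iff_ne.mpr (by omega), cond_false] at hsh
          rcases hl : c.tail k i with _ | ⟨h0, t⟩
          · rw [hl] at hsh; exact absurd hsh Bool.false_ne_true
          rw [hl] at hsh
          simp only [Bool.and_eq_true, beq_iff_eq, List.all_eq_true, Nat.blt, Nat.ble_eq] at hsh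
          rw [mul_assoc, hexact k hk2 i (by omega), hl, hsh.1, wordVal_cons, inv_mul_cancel_left]
          exact htail t fun k' hk' => hsh.2 k' hk'
        | one => simpa using one_mem (H (i + 1))
        | mul a b _ _ iha ihb =>
          rw [show (X' i)⁻¹ * (a * b) * X' i = (X' i)⁻¹ * a * X' i * ((X' i)⁻¹ * b * X' i) by group]
          exact mul_mem iha ihb
        | inv a _ iha =>
          rw [show (X' i)⁻¹ * a⁻¹ * X' i = ((X' i)⁻¹ * a * X' i)⁻¹ by group]
          exact inv_mem iha
      have hcomb : ∀ g ∈ H i, g ∈ H (i + 1) ∨ (X' i)⁻¹ * g ∈ H (i + 1) := by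
        intro g hg
        have hg' : g ∈ Submonoid.closure (X' '' {k | i ≤ k ∧ k < c.n}) := by
          rw [← Subgroup.closure_toSubmonoid_of_finite]; exact hg
        clear hg
        induction hg' using Submonoid.closure_induction with
        | mem z hz =>
          obtain ⟨k, ⟨hk1, hk2⟩, rfl⟩ := hz
          rcases Nat.lt_or_ge i k with h | h
          · exact Or.inl (Subgroup.subset_closure ⟨k, ⟨h, hk2⟩, rfl⟩)
          · obtain rfl : k = i := le_antisymm h hk1
            exact Or.inr (by rw [inv_mul_cancel]; exact one_mem _)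
        | one => exact Or.inl (one_mem _)
        | mul a b _ _ iha ihb =>
          have hb' : b ∈ H (i + 1) ∨ (X' i)⁻¹ * b ∈ H (i + 1) := ihb
          rcases iha with ha | ha <;> rcases hb' with hb | hb
          · exact Or.inl (mul_mem ha hb)
          · refine Or.inr ?_
            rw [show (X' i)⁻¹ * (a * b) = (X' i)⁻¹ * a * X' i * ((X' i)⁻¹ * b) by group]
            exact mul_mem (hconj a ha) hb
          · refine Or.inr ?_
            rw [← mul_assoc]
            exact mul_mem ha hb
          · refine Or.inl ?_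
            rw [show a * b = X' i * X' i * ((X' i)⁻¹ * ((X' i)⁻¹ * a) * X' i) * ((X' i)⁻¹ * b) by group]
            exact mul_mem (mul_mem hsq' (hconj _ ha)) hb
      have hih := ih (i + 1) (by omega)
      calc Nat.card (H i) = ((H i : Set Δ)).ncard := (Nat.card_coe_set_eq _)
        _ ≤ ((H (i + 1) : Set Δ) ∪ (fun h => X' i * h) '' (H (i + 1) : Set Δ)).ncard := by
            refine Set.ncard_le_ncard fun g hg => ?_
            rcases hcomb g hg with h | h
            · exact Or.inl h
            · exact Or.inr ⟨_, h, mul_inv_cancel_left _ _⟩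
        _ ≤ ((H (i + 1) : Set Δ)).ncard + ((fun h => X' i * h) '' (H (i + 1) : Set Δ)).ncard :=
            Set.ncard_union_le _ _
        _ ≤ Nat.card (H (i + 1)) + Nat.card (H (i + 1)) := by
            rw [← Nat.card_coe_set_eq]
            exact Nat.add_le_add_left ((Set.ncard_image_le (Set.toFinite _)).trans_eq (Nat.card_coe_set_eq _).symm) _
        _ ≤ 2 ^ (d + 1) := by rw [pow_succ]; omega
  have hmap : (H 0).map τ = Subgroup.closure (x '' {i | i < c.n}) := by
    rw [MonoidHom.map_closure]
    congr 1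
    rw [Set.image_image]
    rw [show ({k | 0 ≤ k ∧ k < c.n} : Set ℕ) = {i | i < c.n} by ext; simp]
    refine Set.image_congr' fun k => ?_
    have hker : τ (sgn ζ (ev ρ c.vars (c.delta.getD k 0))) = 1 := by
      cases ev ρ c.vars (c.delta.getD k 0) <;> simp [sgn, MonoidHom.mem_ker.mp hζk]
    rw [map_mul, hlift, hker, mul_one]
  obtain ⟨S, hS⟩ := exists_sylow_map_le hτ.1 (p := 2) _ hP
  rw [← hmap, Subgroup.map_le_iff_le_comap, Subgroup.comap_map_eq] at hS
  have hcomm : ⁅(S : Subgroup Δ), (S : Subgroup Δ)⁆ ≤ H 0 := by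
    refine (Subgroup.commutator_mono hS hS).trans (Subgroup.commutator_le.mpr fun a ha b hb => ?_)
    haveI : (τ.ker).Normal := MonoidHom.normal_ker τ
    obtain ⟨a1, ha1, a2, ha2, rfl⟩ := (Subgroup.mem_sup_of_normal_right (s := H 0)).mp ha
    obtain ⟨b1, hb1, b2, hb2, rfl⟩ := (Subgroup.mem_sup_of_normal_right (s := H 0)).mp hb
    have ca := Subgroup.mem_center_iff.mp (hτ.2.1 ha2)
    have cb := Subgroup.mem_center_iff.mp (hτ.2.1 hb2)
    rw [comm_congr τ hτ.2.1 (g := a1 * a2) (g' := a1) (h := b1 * b2) (h' := b1)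
      (by rw [map_mul, MonoidHom.mem_ker.mp ha2, mul_one]) (by rw [map_mul, MonoidHom.mem_ker.mp hb2, mul_one])]
    exact mul_mem (mul_mem (mul_mem ha1 hb1) (inv_mem ha1)) (inv_mem hb1)
  have hzH := hcomm (mem_commutator_sylow hτ hζk (by rw [← hζ, pow_orderOf_eq_one]) S)
  let f : H 0 →* Q := τ.comp (H 0).subtype
  have hfr : f.range = Subgroup.closure (x '' {i | i < c.n}) := by
    rw [← hmap, MonoidHom.range_eq_map, ← Subgroup.map_map, ← MonoidHom.range_eq_map, Subgroup.range_subtype]
  have hk0 : Nat.card f.ker = 1 := by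
    have h1 := Subgroup.index_mul_card f.ker
    rw [Subgroup.index_ker, hfr, ← hn] at h1
    have h3 := hcardH c.n 0 (Nat.zero_add _)
    rw [← h1] at h3
    have hpos : 0 < Nat.card f.ker := Nat.card_pos
    have : 2 ^ c.n * Nat.card f.ker ≤ 2 ^ c.n * 1 := by rwa [mul_one]
    have := Nat.le_of_mul_le_mul_left this (by positivity)
    omega
  have hmem : (⟨ζ, hzH⟩ : H 0) ∈ f.ker := hζk
  rw [Subgroup.card_eq_one.mp hk0, Subgroup.mem_bot] at hmem
  exact hζ1 (congrArg Subtype.val hmem)


section Bound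

variable {Γ : Type u} [Group Γ] [Finite Γ]

/-- A bound on elementary kernels. -/
theorem PcCert.card_ker_le (c : PcCert) (des : List (List (ℕ × ℕ))) (hok : c.okWith des = true)
    {σ : Γ →* Q} (hσ : Cfsg.IsStemExtension σ) (h2 : ∀ z ∈ σ.ker, z * z = 1)
    (x : ℕ → Q) (r : Bool → Q) (hr : ∀ b, r b * r b = 1)
    (hrules : ∀ j < c.n, ∀ i ≤ j, x j * x i = wordVal x (c.tail j i))
    (hsq : ∀ s ∈ c.squares, ∃ g, wordVal x s.1 = g * r s.2 * g⁻¹)
    (hP : Nat.card (Subgroup.closure (x '' {i | i < c.n})) = 2 ^ (Nat.card Q).factorization 2)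
    (hn : 2 ^ c.n = Nat.card (Subgroup.closure (x '' {i | i < c.n})))
    (hdesR : ∀ d ∈ des, ∀ p ∈ d, p.1 < c.n ∧ p.2 ≤ p.1) : Nat.card σ.ker ≤ 2 ^ des.length := by
  classical
  letI : CommGroup σ.ker := { (inferInstance : Group σ.ker) with mul_comm := mul_comm_of_le_center hσ.2.1 }
  choose lift hlift using hσ.1
  let w : List (ℕ × ℕ) → Γ := fun d => (d.map fun p =>
    (wordVal (fun k => lift (x k)) (c.tail p.1 p.2))⁻¹ * (lift (x p.1) * lift (x p.2))).prod
  have hw : ∀ l : List ℕ, σ (wordVal (fun k => lift (x k)) l) = wordVal x l := by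
    intro l
    induction l with
    | nil => simp [wordVal]
    | cons a l ih => rw [wordVal_cons, wordVal_cons, map_mul, ih, hlift]
  have hwk : ∀ p ∈ des, w p ∈ σ.ker := fun p hp => by
    refine Subgroup.list_prod_mem _ fun z hz => ?_
    obtain ⟨q, hq, rfl⟩ := List.mem_map.mp hz
    obtain ⟨h, h'⟩ := hdesR p hp q hq
    rw [MonoidHom.mem_ker, map_mul, map_inv, map_mul, hw, hlift, hlift, hrules _ h _ h', inv_mul_cancel]
  have sq1 : ∀ z : σ.ker, z * z = 1 := fun z => Subtype.ext (h2 z z.2)
  -- the subgroup spanned by the designated values is small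
  have span : ∀ l : List σ.ker, Nat.card (Subgroup.closure {z | z ∈ l}) ≤ 2 ^ l.length := by
    intro l
    induction l with
    | nil => simp
    | cons a l ih =>
      have e : Subgroup.closure {z | z ∈ a :: l} = Subgroup.zpowers a ⊔ Subgroup.closure {z | z ∈ l} := by
        rw [Subgroup.zpowers_eq_closure, ← Subgroup.closure_union]
        congr 1
        ext z
        simp
      have h3 : Nat.card ↥(Subgroup.zpowers a ⊔ Subgroup.closure {z | z ∈ l}) ≤
          Nat.card (Subgroup.zpowers a) * Nat.card (Subgroup.closure {z | z ∈ l}) := by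
        calc Nat.card ↥(Subgroup.zpowers a ⊔ Subgroup.closure {z | z ∈ l})
            = ((Subgroup.zpowers a ⊔ Subgroup.closure {z | z ∈ l} : Subgroup σ.ker) : Set σ.ker).ncard :=
              Nat.card_coe_set_eq _
          _ = ((Subgroup.zpowers a : Set σ.ker) * (Subgroup.closure {z | z ∈ l} : Set σ.ker)).ncard := by
              rw [Subgroup.normal_mul]
          _ ≤ _ := by
              rw [← Nat.card_coe_set_eq]
              exact Set.natCard_mul_le
      rw [e, List.length_cons, pow_succ, mul_comm]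
      refine h3.trans (Nat.mul_le_mul ?_ ih)
      rw [Nat.card_zpowers]
      exact Nat.le_of_dvd two_pos (orderOf_dvd_of_pow_eq_one (by rw [sq, sq1]))
  set L0 : Subgroup σ.ker := Subgroup.closure {z | z ∈ des.pmap (fun p h => ⟨w p, h⟩) hwk} with hL0
  by_contra hlt
  push Not at hlt
  have hsmall : Nat.card L0 < Nat.card σ.ker :=
    lt_of_le_of_lt ((span _).trans (by rw [List.length_pmap])) hlt
  have heven : 2 ∣ Nat.card (σ.ker ⧸ L0) := by
    have h1 : 1 < Nat.card (σ.ker ⧸ L0) := by
      have := L0.index_mul_card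
      have hp : 0 < Nat.card (σ.ker ⧸ L0) := Nat.card_pos
      rcases Nat.lt_or_ge 1 (Nat.card (σ.ker ⧸ L0)) with h | h
      · exact h
      · exfalso
        rw [show L0.index = 1 by rw [Subgroup.index]; omega, one_mul] at this
        omega
    haveI : Nontrivial (σ.ker ⧸ L0) := Finite.one_lt_card_iff_nontrivial.mp h1
    obtain ⟨q, hq⟩ := exists_ne (1 : σ.ker ⧸ L0)
    obtain ⟨z, rfl⟩ := QuotientGroup.mk'_surjective L0 q
    have : orderOf (QuotientGroup.mk' L0 z) = 2 :=
      orderOf_eq_prime (by rw [← map_pow, sq, sq1, map_one]) hq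
    exact this ▸ orderOf_dvd_natCard _
  obtain ⟨M, hM⟩ := exists_index_two (K := σ.ker ⧸ L0) heven
  set L : Subgroup σ.ker := M.comap (QuotientGroup.mk' L0) with hL
  have hLi : L.index = 2 := by rw [hL, Subgroup.index_comap_of_surjective _ (QuotientGroup.mk'_surjective _), hM]
  set L' : Subgroup Γ := L.map σ.ker.subtype with hL'
  have hle : L' ≤ σ.ker := Subgroup.map_subtype_le L
  haveI : L'.Normal := normal_of_le_center (hle.trans hσ.2.1)
  let τ : Γ ⧸ L' →* Q := QuotientGroup.lift L' σ hle
  have hker : τ.ker = σ.ker.map (QuotientGroup.mk' L') := QuotientGroup.ker_lift L' σ hle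
  have hτ : Cfsg.IsStemExtension τ := by
    refine ⟨fun q => ?_, ?_, ?_⟩
    · obtain ⟨g, hg⟩ := hσ.1 q
      exact ⟨(g : Γ ⧸ L'), hg⟩
    · rw [hker]
      rintro _ ⟨z, hz, rfl⟩
      refine Subgroup.mem_center_iff.mpr fun g => ?_
      obtain ⟨g', rfl⟩ := QuotientGroup.mk'_surjective L' g
      rw [← map_mul, ← map_mul, Subgroup.mem_center_iff.mp (hσ.2.1 hz) g']
    · rw [hker]
      refine (Subgroup.map_mono hσ.2.2).trans ?_
      rw [commutator_def, commutator_def, Subgroup.map_commutator]
      exact Subgroup.commutator_mono le_top le_top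
  have hcard : Nat.card τ.ker = 2 := by
    rw [hker, ← Subgroup.relIndex_bot_left (σ.ker.map _), ← Subgroup.map_bot (QuotientGroup.mk' L'),
      Subgroup.relIndex_map_map, QuotientGroup.ker_mk', bot_sup_eq, sup_eq_left.mpr hle,
      hL', Subgroup.relIndex, ← Subgroup.comap_subtype,
      Subgroup.comap_map_eq_self_of_injective (Subgroup.subtype_injective _), hLi]
  refine PcCert.false_of_designated c des hok hτ hcard (fun q => QuotientGroup.mk' L' (lift q))
    (fun q => hlift q) x r hr hrules hsq hP hn fun p hp => ?_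
  have hmem : w p ∈ L' := by
    refine ⟨⟨w p, hwk p hp⟩, ?_, rfl⟩
    show QuotientGroup.mk' L0 ⟨w p, hwk p hp⟩ ∈ M
    have h0 : (⟨w p, hwk p hp⟩ : σ.ker) ∈ L0 :=
      Subgroup.subset_closure (List.mem_pmap.mpr ⟨p, hp, rfl⟩)
    rw [show QuotientGroup.mk' L0 ⟨w p, hwk p hp⟩ = 1 from (QuotientGroup.eq_one_iff _).mpr h0]
    exact one_mem M
  have hmap : ∀ l : List ℕ, wordVal (fun k => QuotientGroup.mk' L' (lift (x k))) l =
      QuotientGroup.mk' L' (wordVal (fun k => lift (x k)) l) := fun l => by
    simp [wordVal, map_list_prod, Function.comp_def]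
  simp only [hmap, ← map_mul, ← map_inv]
  rw [← Function.comp_def (QuotientGroup.mk' L'), ← List.map_map, ← map_list_prod]
  exact (QuotientGroup.eq_one_iff _).mpr hmem

end Bound

end Cfsg.Lib.Schur
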