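import Cfsg.Agent.Schur.KernelRank

/-!
Kernels of two-power order have exponent at most four when a Sylow 2-subgroup is an elementary
abelian normal subgroup extended by a dihedral group of order eight; and the kernel at a prime
with elementary abelian Sylow subgroup of rank two.
-/

set_option autoImplicit false
set_option linter.style.haveILetI false

namespace Cfsg.Lib.Schur

open scoped commutatorElement

universe u v

variable {Γ : Type u} {Q : Type v} [Group Γ] [Group Q] [Finite Γ] [Finite Q] {σ : Γ →* Q}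

/-- Two-power elements of the kernel have order at most four. -/
theorem pow_four_of_elementary_dihedral (hσ : Cfsg.IsStemExtension σ) (P E : Subgroup Q) (d e : Q)
    (hP : Nat.card P = 2 ^ (Nat.card Q).factorization 2) (hPle : P ≤ Subgroup.closure ((E : Set Q) ∪ {d, e}))
    (hE2 : ∀ a ∈ E, a * a = 1) (hEd : ∀ a ∈ E, d * a * d⁻¹ ∈ E) (hEe : ∀ a ∈ E, e * a * e⁻¹ ∈ E)
    (hd : d * d = 1) (he : e * e = 1) (hne : d * e * (d * e) ∉ E)
    (h4 : d * e * (d * e) * (d * e * (d * e)) = 1)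
    {z : Γ} (hz : z ∈ σ.ker) {k : ℕ} (hzk : z ^ 2 ^ k = 1) : z ^ 4 = 1 := by
  classical
  haveI : Fact (Nat.Prime 2) := ⟨Nat.prime_two⟩
  have hEc : ∀ a ∈ E, ∀ b ∈ E, a * b = b * a := fun a ha b hb => by
    have h := hE2 _ (mul_mem ha hb)
    rw [mul_eq_one_iff_eq_inv, mul_inv_rev, inv_eq_of_mul_eq_one_right (hE2 a ha),
      inv_eq_of_mul_eq_one_right (hE2 b hb)] at h
    exact h
  let K2 : Subgroup Γ :=
    { carrier := {w | w ∈ σ.ker ∧ w * w = 1}
      one_mem' := ⟨one_mem _, one_mul 1⟩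
      mul_mem' := fun {a b} ha hb => ⟨mul_mem ha.1 hb.1, by
        rw [(show Commute b a from (Subgroup.mem_center_iff.mp (hσ.2.1 ha.1) b)).mul_mul_mul_comm, ha.2, hb.2,
          one_mul]⟩
      inv_mem' := fun {a} ha => ⟨inv_mem ha.1, by rw [← mul_inv_rev, ha.2, inv_one]⟩ }
  have hK2 : K2 ≤ σ.ker := fun w hw => hw.1
  haveI : K2.Normal := normal_of_le_center (hK2.trans hσ.2.1)
  obtain ⟨hτ, -⟩ := stem_quotient hσ K2 hK2
  set τ := QuotientGroup.lift K2 σ hK2 with hτd
  have hcen : ∀ w, τ w = 1 → ∀ g, g * w = w * g := fun w hw => Subgroup.mem_center_iff.mp (hτ.2.1 hw)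
  have hcenσ : ∀ w, σ w = 1 → ∀ g, g * w = w * g := fun w hw => Subgroup.mem_center_iff.mp (hσ.2.1 hw)
  -- the preimage of `E` is abelian modulo `K2`
  have habel : ∀ a b : Γ ⧸ K2, τ a ∈ E → τ b ∈ E → a * b = b * a := by
    intro a b ha hb
    obtain ⟨a', rfl⟩ := QuotientGroup.mk'_surjective K2 a
    obtain ⟨b', rfl⟩ := QuotientGroup.mk'_surjective K2 b
    change σ a' ∈ E at ha
    change σ b' ∈ E at hb
    refine commutatorElement_eq_one_iff_mul_comm.mp ?_
    rw [← map_commutatorElement]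
    refine (QuotientGroup.eq_one_iff _).mpr ⟨?_, ?_⟩
    · rw [MonoidHom.mem_ker, map_commutatorElement]
      exact commutatorElement_eq_one_iff_mul_comm.mpr (hEc _ ha _ hb)
    · have hk : σ ⁅a', b'⁆ = 1 := by
        rw [map_commutatorElement]; exact commutatorElement_eq_one_iff_mul_comm.mpr (hEc _ ha _ hb)
      have hsq : ⁅a' * a', b'⁆ = 1 := commutatorElement_eq_one_iff_mul_comm.mpr
        (hcenσ _ (by rw [map_mul, hE2 _ ha]) b').symm
      rwa [show ⁅a' * a', b'⁆ = a' * ⁅a', b'⁆ * a'⁻¹ * ⁅a', b'⁆ by simp only [commutatorElement_def]; group,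
        hcenσ _ hk a', mul_inv_cancel_right] at hsq
  let Ω : Subgroup (Γ ⧸ K2) :=
    { carrier := {w | τ w ∈ E ∧ w * w = 1}
      one_mem' := ⟨by rw [map_one]; exact one_mem _, one_mul 1⟩
      mul_mem' := fun {a b} ha hb => ⟨by rw [map_mul]; exact mul_mem ha.1 hb.1, by
        rw [(show Commute b a from habel b a hb.1 ha.1).mul_mul_mul_comm, ha.2, hb.2, one_mul]⟩
      inv_mem' := fun {a} ha => ⟨by rw [map_inv]; exact inv_mem ha.1, by rw [← mul_inv_rev, ha.2, inv_one]⟩ }
  -- a commutator with an element over `E` lies in `Ω`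
  have hcomΩ : ∀ g v : Γ ⧸ K2, (∀ a ∈ E, τ g * a * (τ g)⁻¹ ∈ E) → τ v ∈ E → ⁅g, v⁆ ∈ Ω := by
    intro g v hg hv
    have h1 : τ (g * v * g⁻¹) ∈ E := by rw [map_mul, map_mul, map_inv]; exact hg _ hv
    refine ⟨?_, ?_⟩
    · rw [commutatorElement_def, map_mul, map_inv]
      exact mul_mem h1 (inv_mem hv)
    · have hvv : g * (v * v) = v * v * g := hcen _ (by rw [map_mul, hE2 _ hv]) g
      have hc : v⁻¹ * (g * v * g⁻¹) = g * v * g⁻¹ * v⁻¹ := by
        have := habel (g * v * g⁻¹) v⁻¹ h1 (by rw [map_inv]; exact inv_mem hv)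
        exact this.symm
      calc ⁅g, v⁆ * ⁅g, v⁆ = g * v * g⁻¹ * (v⁻¹ * (g * v * g⁻¹)) * v⁻¹ := by
            simp only [commutatorElement_def]; group
        _ = g * v * g⁻¹ * (g * v * g⁻¹ * v⁻¹) * v⁻¹ := by rw [hc]
        _ = g * (v * v) * g⁻¹ * (v * v)⁻¹ := by group
        _ = 1 := by rw [hvv, mul_inv_cancel_right, mul_inv_cancel]
  choose L hL using hτ.1
  set t := L d with htd
  set s := L e with hse
  set c := ⁅t, s⁆ with hcd
  have hτc : τ c = d * e * (d * e) := by
    rw [hcd, map_commutatorElement, hL, hL, commutatorElement_def, inv_eq_of_mul_eq_one_right hd,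
      inv_eq_of_mul_eq_one_right he]
    simp only [mul_assoc]
  -- conjugating the commutator by its entries inverts it
  have hinv_t : t * c * t⁻¹ = c⁻¹ := by
    have h : ⁅t * t, s⁆ = 1 := commutatorElement_eq_one_iff_mul_comm.mpr
      (hcen _ (by rw [map_mul, hL, hd]) s).symm
    rw [show ⁅t * t, s⁆ = t * c * t⁻¹ * c by simp only [hcd, commutatorElement_def]; group] at h
    exact eq_inv_of_mul_eq_one_left h
  have hinv_s : s * c * s⁻¹ = c⁻¹ := by
    have h : ⁅t, s * s⁆ = 1 := commutatorElement_eq_one_iff_mul_comm.mpr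
      (hcen _ (by rw [map_mul, hL, he]) t)
    rw [show ⁅t, s * s⁆ = c * (s * c * s⁻¹) by simp only [hcd, commutatorElement_def]; group] at h
    exact eq_inv_of_mul_eq_one_right h
  have hc4 : c ^ 4 = 1 := by
    have hk : τ (c * c) = 1 := by rw [map_mul, hτc, h4]
    have h := hcen _ hk t
    have h2 : t * (c * c) * t⁻¹ = c⁻¹ * c⁻¹ := by rw [← hinv_t]; group
    rw [h, mul_inv_cancel_right] at h2
    calc c ^ 4 = c * c * (c * c) := by rw [pow_succ, pow_succ, pow_succ, pow_one]; simp only [mul_assoc]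
      _ = c⁻¹ * c⁻¹ * (c * c) := congrArg (· * (c * c)) h2
      _ = 1 := by rw [← mul_inv_rev, inv_mul_cancel]
  set N := Subgroup.closure ((Ω : Set (Γ ⧸ K2)) ∪ {c})
  have hcN : c ∈ N := Subgroup.subset_closure (Or.inr rfl)
  have hΩN : Ω ≤ N := fun w hw => Subgroup.subset_closure (Or.inl hw)
  -- conjugation by elements normalising `E` keeps `Ω`
  have hconjΩ : ∀ g w : Γ ⧸ K2, (∀ a ∈ E, τ g * a * (τ g)⁻¹ ∈ E) → w ∈ Ω → g * w * g⁻¹ ∈ Ω := by
    intro g w hg hw
    refine ⟨by rw [map_mul, map_mul, map_inv]; exact hg _ hw.1, ?_⟩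
    rw [show g * w * g⁻¹ * (g * w * g⁻¹) = g * (w * w) * g⁻¹ by group, hw.2, mul_one, mul_inv_cancel]
  have hEnorm_v : ∀ v : Γ ⧸ K2, τ v ∈ E → ∀ a ∈ E, τ v * a * (τ v)⁻¹ ∈ E := fun v hv a ha =>
    mul_mem (mul_mem hv ha) (inv_mem hv)
  have hEnorm_c : ∀ a ∈ E, τ c * a * (τ c)⁻¹ ∈ E := by
    intro a ha
    rw [hτc, show d * e * (d * e) * a * (d * e * (d * e))⁻¹ = d * (e * (d * (e * a * e⁻¹) * d⁻¹) * e⁻¹) * d⁻¹ by
      group]
    exact hEd _ (hEe _ (hEd _ (hEe _ ha)))
  have hNmem : ∀ w ∈ N, ∃ v ∈ Ω, ∃ i : ℕ, w = v * c ^ i := by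
    intro w hw
    have hw' : w ∈ Submonoid.closure ((Ω : Set (Γ ⧸ K2)) ∪ {c}) := by
      rw [← Subgroup.closure_toSubmonoid_of_finite]; exact hw
    clear hw
    induction hw' using Submonoid.closure_induction_right with
    | one => exact ⟨1, one_mem _, 0, by simp⟩
    | mul_right a _ y hy ih =>
      obtain ⟨v, hv, i, rfl⟩ := ih
      rcases hy with hy | hy
      · have key : ∀ j : ℕ, c ^ j * y * (c ^ j)⁻¹ ∈ Ω := by
          intro j
          induction j with
          | zero => simpa using hy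
          | succ j ihj =>
            rw [pow_succ', mul_inv_rev, show c * c ^ j * y * ((c ^ j)⁻¹ * c⁻¹) = c * (c ^ j * y * (c ^ j)⁻¹) * c⁻¹ by
              group]
            exact hconjΩ c _ hEnorm_c ihj
        exact ⟨v * (c ^ i * y * (c ^ i)⁻¹), mul_mem hv (key i), i, by group⟩
      · rw [Set.mem_singleton_iff.mp hy]
        exact ⟨v, hv, i + 1, by rw [pow_succ, mul_assoc]⟩
  obtain ⟨S, hS⟩ := exists_sylow_map_le (p := 2) hσ.1 P hP
  have hmap : ((S : Subgroup Γ).map (QuotientGroup.mk' K2)).map τ ≤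
      Subgroup.closure (τ '' ({w | τ w ∈ E} ∪ {t, s})) := by
    rintro _ ⟨_, ⟨g, hg, rfl⟩, rfl⟩
    refine Subgroup.closure_mono ?_ (hPle (hS ⟨g, hg, rfl⟩))
    rintro a (ha | ha | ha)
    · exact ⟨L a, Or.inl (show τ (L a) ∈ E by rw [hL]; exact ha), hL a⟩
    · exact ⟨t, Or.inr (Or.inl rfl), by rw [hL]; exact ha.symm⟩
    · exact ⟨s, Or.inr (Or.inr rfl), by rw [hL]; exact (Set.mem_singleton_iff.mp ha).symm⟩
  have hcl := (Subgroup.commutator_mono (le_closure_union_ker hmap) (le_closure_union_ker hmap)).trans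
    (commutator_closure_le (N := N) (fun a ha x hx => ?_) fun a ha b hb => ?_)
  · have hzimg : QuotientGroup.mk' K2 z ∈ N := hcl (by
      rw [← Subgroup.map_commutator]
      exact ⟨z, mem_commutator_sylow_pow (p := 2) hσ hz hzk S, rfl⟩)
    obtain ⟨v, hv, i, hvi⟩ := hNmem _ hzimg
    have hτz : τ v * τ c ^ i = 1 := by
      rw [← map_pow, ← map_mul, ← hvi]
      exact MonoidHom.mem_ker.mp hz
    have hieven : Even i := by
      rcases Nat.even_or_odd i with h | ⟨j, rfl⟩
      · exact h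
      · exfalso
        refine hne ?_
        have hcc : τ c ^ (2 * j + 1) = τ c := by
          rw [pow_succ, pow_mul, hτc, pow_two, h4, one_pow, one_mul]
        rw [hcc, hτc] at hτz
        rw [eq_inv_of_mul_eq_one_right hτz]
        exact inv_mem hv.1
    obtain ⟨j, rfl⟩ := hieven
    have hk2 : τ (c ^ (j + j)) = 1 := by
      rw [map_pow, ← two_mul, pow_mul, pow_two, hτc, h4, one_pow]
    have h := hcen _ hk2 v
    have hsq : QuotientGroup.mk' K2 z * QuotientGroup.mk' K2 z = 1 := by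
      rw [hvi, (show Commute (c ^ (j + j)) v from h.symm).mul_mul_mul_comm, hv.2, one_mul, ← pow_add,
        show j + j + (j + j) = 4 * j by ring, pow_mul, hc4, one_pow]
    rw [← map_mul] at hsq
    rw [show (4 : ℕ) = 2 + 2 from rfl, pow_add, pow_two]
    exact ((QuotientGroup.eq_one_iff _).mp hsq).2
  · -- generators normalise `N`
    suffices h : (∀ w ∈ Ω, a * w * a⁻¹ ∈ N) ∧ a * c * a⁻¹ ∈ N by
      induction hx using Subgroup.closure_induction with
      | mem y hy =>
        rcases hy with hy | hy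
        · exact h.1 y hy
        · exact (Set.mem_singleton_iff.mp hy).symm ▸ h.2
      | one => rw [mul_one, mul_inv_cancel]; exact one_mem _
      | mul x y _ _ ihx ihy =>
        rw [show a * (x * y) * a⁻¹ = a * x * a⁻¹ * (a * y * a⁻¹) by group]
        exact mul_mem ihx ihy
      | inv x _ ihx =>
        rw [show a * x⁻¹ * a⁻¹ = (a * x * a⁻¹)⁻¹ by group]
        exact inv_mem ihx
    rcases ha with (ha | ha | ha) | ha
    · refine ⟨fun w hw => hΩN (hconjΩ a w (hEnorm_v a ha) hw), ?_⟩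
      rw [show a * c * a⁻¹ = ⁅c, a⁆⁻¹ * c by simp only [commutatorElement_def]; group]
      exact mul_mem (inv_mem (hΩN (hcomΩ c a hEnorm_c ha))) hcN
    · subst ha
      exact ⟨fun w hw => hΩN (hconjΩ t w (by rw [hL]; exact hEd) hw), hinv_t ▸ inv_mem hcN⟩
    · rw [Set.mem_singleton_iff.mp ha]
      exact ⟨fun w hw => hΩN (hconjΩ s w (by rw [hL]; exact hEe) hw), hinv_s ▸ inv_mem hcN⟩
    · have hh : ∀ w, a * w * a⁻¹ = w := fun w => by rw [← hcen a ha w, mul_inv_cancel_right]
      exact ⟨fun w hw => by rw [hh]; exact hΩN hw, by rw [hh]; exact hcN⟩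
  · -- commutators of generators lie in `N`
    rcases ha with ha | ha
    swap
    · rw [commutatorElement_eq_one_iff_mul_comm.mpr (hcen a ha b).symm]; exact one_mem _
    rcases hb with hb | hb
    swap
    · rw [commutatorElement_eq_one_iff_mul_comm.mpr (hcen b hb a)]; exact one_mem _
    rcases hb with hb | hb | hb
    · refine hΩN ?_
      rcases ha with ha | ha | ha
      · exact hcomΩ a b (hEnorm_v a ha) hb
      · exact hcomΩ a b (by rw [ha, hL]; exact hEd) hb
      · exact hcomΩ a b (by rw [Set.mem_singleton_iff.mp ha, hL]; exact hEe) hb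
    all_goals rcases ha with ha | ha | ha
    · rw [← commutatorElement_inv]
      exact inv_mem (hΩN (hcomΩ b a (by rw [hb, hL]; exact hEd) ha))
    · rw [ha, hb, commutatorElement_self]; exact one_mem _
    · rw [Set.mem_singleton_iff.mp ha, hb, ← commutatorElement_inv]; exact inv_mem hcN
    · rw [← commutatorElement_inv]
      exact inv_mem (hΩN (hcomΩ b a (by rw [Set.mem_singleton_iff.mp hb, hL]; exact hEe) ha))
    · rw [ha, Set.mem_singleton_iff.mp hb]; exact hcN
    · rw [Set.mem_singleton_iff.mp ha, Set.mem_singleton_iff.mp hb, commutatorElement_self]; exact one_mem _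

/-- At a prime with elementary abelian Sylow subgroup of rank two the kernel is small. -/
theorem card_le_of_commuting_pair {p : ℕ} [Fact p.Prime] (hσ : Cfsg.IsStemExtension σ)
    (hp : ∀ z ∈ σ.ker, z ^ p = 1) (x y : Q)
    (hxy : x * y = y * x) (hP : Nat.card (Subgroup.closure ({x, y} : Set Q)) = p ^ (Nat.card Q).factorization p) :
    Nat.card σ.ker ≤ p := by
  classical
  obtain ⟨S, hS⟩ := exists_sylow_map_le hσ.1 _ hP
  obtain ⟨A, hA⟩ := hσ.1 x
  obtain ⟨B, hB⟩ := hσ.1 y
  have hcen : ∀ w, σ w = 1 → ∀ g, g * w = w * g := fun w hw => Subgroup.mem_center_iff.mp (hσ.2.1 hw)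
  have hAB : ⁅A, B⁆ ∈ σ.ker := by
    rw [MonoidHom.mem_ker, map_commutatorElement, hA, hB]
    exact commutatorElement_eq_one_iff_mul_comm.mpr hxy
  have hmap : (S : Subgroup Γ).map σ ≤ Subgroup.closure (σ '' {A, B}) := by
    rw [Set.image_pair, hA, hB]; exact hS
  have hle : σ.ker ≤ Subgroup.zpowers ⁅A, B⁆ := by
    intro z hz
    refine ((Subgroup.commutator_mono (le_closure_union_ker hmap) (le_closure_union_ker hmap)).trans
      (commutator_closure_le (fun a _ w hw => ?_) fun a ha b hb => ?_))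
      (mem_commutator_sylow_pow (p := p) hσ hz (k := 1) (by rw [pow_one]; exact hp z hz) S)
    · rw [hcen w ((Subgroup.zpowers_le.mpr hAB) hw) a, mul_inv_cancel_right]
      exact hw
    · rcases ha with ha | ha
      swap
      · rw [commutatorElement_eq_one_iff_mul_comm.mpr (hcen a ha b).symm]; exact one_mem _
      rcases hb with hb | hb
      swap
      · rw [commutatorElement_eq_one_iff_mul_comm.mpr (hcen b hb a)]; exact one_mem _
      rcases ha with rfl | rfl <;> rcases hb with rfl | rfl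
      · rw [commutatorElement_self]; exact one_mem _
      · exact Subgroup.mem_zpowers _
      · exact Subgroup.mem_zpowers_iff.mpr ⟨-1, by rw [zpow_neg_one, commutatorElement_inv]⟩
      · rw [commutatorElement_self]; exact one_mem _
  refine (Subgroup.card_le_of_le hle).trans ?_
  rw [Nat.card_zpowers]
  exact Nat.le_of_dvd (Fact.out : p.Prime).pos (orderOf_dvd_of_pow_eq_one (hp _ hAB))

omit [Finite Q] [Finite Γ] in
/-- An abelian group of exponent twelve with cyclic quotients by squares and cubes is cyclic. -/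
theorem exists_surj_twelve {K : Type*} [CommGroup K] [Finite K] (h12 : ∀ z : K, z ^ 12 = 1)
    (h2 : (powMonoidHom 2 : K →* K).range.index ≤ 2) (h3 : (powMonoidHom 3 : K →* K).range.index ≤ 3) :
    ∃ π : Multiplicative (ZMod 12) →* K, Function.Surjective π := by
  classical
  have gen : ∀ (p : ℕ) (L : Subgroup K), p.Prime → L.index ≤ p → (∀ x, x ^ p ∈ L) →
      ∃ g, L ⊔ Subgroup.zpowers g = ⊤ := by
    intro p L hp hi hpow
    by_cases hL : L = ⊤
    · exact ⟨1, by rw [hL, top_sup_eq]⟩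
    · obtain ⟨g, hg⟩ : ∃ g, g ∉ L := by
        by_contra h
        push Not at h
        exact hL (eq_top_iff.mpr fun x _ => h x)
      refine ⟨g, Subgroup.index_eq_one.mp ?_⟩
      have hlt : L < L ⊔ Subgroup.zpowers g :=
        lt_of_le_of_ne le_sup_left fun e => hg (e ▸ Subgroup.mem_sup_right (Subgroup.mem_zpowers g))
      have hmul := Subgroup.relIndex_mul_index hlt.le
      have hp2 : p ≤ L.relIndex (L ⊔ Subgroup.zpowers g) := by
        have hdvd : orderOf (QuotientGroup.mk' L g) = p := by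
          haveI := Fact.mk hp
          refine orderOf_eq_prime ?_ fun h => hg ((QuotientGroup.eq_one_iff g).mp h)
          rw [← map_pow]
          exact (QuotientGroup.eq_one_iff _).mpr (hpow g)
        rw [Subgroup.relIndex, Subgroup.index]
        calc p = orderOf (QuotientGroup.mk' L g) := hdvd.symm
          _ ≤ _ := by
            let g' : ↥(L ⊔ Subgroup.zpowers g) := ⟨g, Subgroup.mem_sup_right (Subgroup.mem_zpowers g)⟩
            let f : (↥(L ⊔ Subgroup.zpowers g) ⧸ L.subgroupOf (L ⊔ Subgroup.zpowers g)) →* K ⧸ L :=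
              QuotientGroup.map _ _ (L ⊔ Subgroup.zpowers g).subtype le_rfl
            rw [show QuotientGroup.mk' L g = f (QuotientGroup.mk' _ g') from rfl]
            exact (Nat.le_of_dvd (orderOf_pos _) (orderOf_map_dvd f _)).trans orderOf_le_card
      have h1 : (L ⊔ Subgroup.zpowers g).index ≠ 0 := Subgroup.index_ne_zero_of_finite
      by_contra hne
      have : 2 ≤ (L ⊔ Subgroup.zpowers g).index := by omega
      have := Nat.mul_le_mul hp2 this
      have := hp.two_le
      omega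
  obtain ⟨u, hu⟩ := gen 2 _ Nat.prime_two h2 fun x => ⟨x, rfl⟩
  obtain ⟨g, hg⟩ := gen 3 _ Nat.prime_three h3 fun x => ⟨x, rfl⟩
  set a := g ^ 4 * u ^ 3 with had
  have h4 : g ^ 4 ∈ Subgroup.zpowers a := by
    refine Subgroup.mem_zpowers_iff.mpr ⟨(4 : ℕ), ?_⟩
    rw [zpow_natCast, had, mul_pow, ← pow_mul u, h12, mul_one, ← pow_mul, show 4 * 4 = 12 + 4 from rfl,
      pow_add, h12, one_mul]
  have h3' : u ^ 3 ∈ Subgroup.zpowers a := by
    have h := mul_mem (inv_mem h4) (Subgroup.mem_zpowers a)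
    rwa [had, inv_mul_cancel_left] at h
  have hall : ∀ k : K, k ∈ Subgroup.zpowers a := by
    intro k
    have hk4 : k ^ 4 ∈ Subgroup.zpowers a := by
      obtain ⟨_, ⟨b, rfl⟩, _, hb, rfl⟩ := Subgroup.mem_sup.mp (hg ▸ Subgroup.mem_top k)
      obtain ⟨i, rfl⟩ := Subgroup.mem_zpowers_iff.mp hb
      rw [powMonoidHom_apply, mul_pow, ← pow_mul, h12, one_mul, ← zpow_natCast, zpow_comm, zpow_natCast]
      exact zpow_mem h4 i
    have sq : ∀ c : K, ∃ b, c ^ 3 * (b⁻¹ ^ 3) ^ 2 ∈ Subgroup.zpowers a := by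
      intro c
      obtain ⟨_, ⟨b, rfl⟩, _, hb, rfl⟩ := Subgroup.mem_sup.mp (hu ▸ Subgroup.mem_top c)
      obtain ⟨i, rfl⟩ := Subgroup.mem_zpowers_iff.mp hb
      refine ⟨b, ?_⟩
      have h1 : (b ^ 2) ^ 3 * (b⁻¹ ^ 3) ^ 2 = 1 := by
        rw [← pow_mul, ← pow_mul, inv_pow, mul_inv_cancel]
      rw [powMonoidHom_apply, mul_pow, mul_right_comm, h1, one_mul, ← zpow_natCast, zpow_comm, zpow_natCast]
      exact zpow_mem h3' i
    have hk3 : k ^ 3 ∈ Subgroup.zpowers a := by
      obtain ⟨b, hb⟩ := sq k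
      obtain ⟨b', hb'⟩ := sq b⁻¹
      have e : k ^ 3 * (b⁻¹ ^ 3) ^ 2 * ((b⁻¹ ^ 3 * (b'⁻¹ ^ 3) ^ 2) ^ 2)⁻¹ = k ^ 3 := by
        rw [mul_pow, ← pow_mul (b'⁻¹ ^ 3), ← pow_mul b'⁻¹, h12, mul_one, mul_inv_cancel_right]
      rw [← e]
      exact mul_mem hb (inv_mem (pow_mem hb' 2))
    have e : k ^ 4 * (k ^ 3)⁻¹ = k := by rw [pow_succ' k 3, mul_inv_cancel_right]
    exact e ▸ mul_mem hk4 (inv_mem hk3)
  haveI : IsCyclic K := isCyclic_iff_exists_zpowers_eq_top.mpr ⟨a, eq_top_iff.mpr fun k _ => hall k⟩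
  refine exists_zmod_surj ?_
  rw [← orderOf_eq_card_of_forall_mem_zpowers hall]
  exact orderOf_dvd_of_pow_eq_one (h12 a)

end Cfsg.Lib.Schur
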