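import Cfsg.Agent.Schur.Basic

set_option autoImplicit false

namespace Cfsg.Lib.Schur

universe u

open scoped Matrix

variable {Γ : Type u} [Group Γ]

/-- The trace of left multiplication in a group algebra. -/
theorem trace_mulLeft [Finite Γ] (x : MonoidAlgebra ℂ Γ) :
    LinearMap.trace ℂ (MonoidAlgebra ℂ Γ) (LinearMap.mulLeft ℂ x) = Nat.card Γ * x.coeff 1 := by
  classical
  have := Fintype.ofFinite Γ
  rw [LinearMap.trace_eq_matrix_trace ℂ (MonoidAlgebra.basis Γ ℂ), Matrix.trace,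
    Nat.card_eq_fintype_card]
  have h : ∀ g, Matrix.diag (LinearMap.toMatrix (MonoidAlgebra.basis Γ ℂ) (MonoidAlgebra.basis Γ ℂ)
      (LinearMap.mulLeft ℂ x)) g = x.coeff 1 := by
    intro g
    rw [Matrix.diag_apply, LinearMap.toMatrix_apply, MonoidAlgebra.basis_apply]
    show (x * MonoidAlgebra.single g (1 : ℂ)).coeff g = x.coeff 1
    rw [MonoidAlgebra.coeff_mul_single_apply, mul_inv_cancel, mul_one]
  rw [Finset.sum_congr rfl (fun g _ => h g), Finset.sum_const, Finset.card_univ, nsmul_eq_mul]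

/-- The trace of left multiplication by a scalar on each block of a product of matrix algebras. -/
theorem trace_mulLeft_pi {n : ℕ} (d : Fin n → ℕ) (c : Fin n → ℂ) :
    LinearMap.trace ℂ ((i : Fin n) → Matrix (Fin (d i)) (Fin (d i)) ℂ)
        (LinearMap.mulLeft ℂ (fun i => c i • (1 : Matrix (Fin (d i)) (Fin (d i)) ℂ))) =
      ∑ i, c i * (d i : ℂ) ^ 2 := by
  classical
  rw [LinearMap.trace_eq_matrix_trace ℂ
    (Pi.basis fun i => Matrix.stdBasis ℂ (Fin (d i)) (Fin (d i))), Matrix.trace, Fintype.sum_sigma]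
  refine Finset.sum_congr rfl fun i _ => ?_
  have h : ∀ jk : Fin (d i) × Fin (d i),
      Matrix.diag (LinearMap.toMatrix (Pi.basis fun i => Matrix.stdBasis ℂ (Fin (d i)) (Fin (d i)))
        (Pi.basis fun i => Matrix.stdBasis ℂ (Fin (d i)) (Fin (d i)))
        (LinearMap.mulLeft ℂ (fun i => c i • (1 : Matrix (Fin (d i)) (Fin (d i)) ℂ)))) ⟨i, jk⟩ = c i := by
    intro jk
    rw [Matrix.diag_apply, LinearMap.toMatrix_apply, LinearMap.mulLeft_apply, Pi.basis_repr,
      Pi.mul_apply, Pi.basis_apply, Pi.single_eq_same, smul_one_mul, map_smul, Finsupp.smul_apply,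
      Module.Basis.repr_self, Finsupp.single_eq_same, smul_eq_mul, mul_one]
  rw [Finset.sum_congr rfl fun jk _ => h jk, Finset.sum_const, Finset.card_univ, Fintype.card_prod,
    Fintype.card_fin, nsmul_eq_mul, Nat.cast_mul]
  ring

/-- The square of the exponent of `K` divides the index, for central `K` in the derived subgroup. -/
theorem exponent_sq_dvd_index [Finite Γ] (K : Subgroup Γ) (hc : K ≤ Subgroup.center Γ)
    (hd : K ≤ commutator Γ) : Monoid.exponent K ^ 2 ∣ K.index := by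
  classical
  have := Fintype.ofFinite Γ
  have := Fintype.ofFinite K
  let : CommGroup K :=
    { (inferInstance : Group K) with mul_comm := mul_comm_of_le_center hc }
  obtain ⟨eK⟩ := CommGroup.monoidHom_mulEquiv_of_hasEnoughRootsOfUnity K ℂ
  obtain ⟨z, hz⟩ := Monoid.exists_orderOf_eq_exponent
    (Monoid.ExponentExists.of_finite (G := K))
  let χ : K →* ℂˣ := eK.symm z
  have hχ : orderOf χ = Monoid.exponent K := (MulEquiv.orderOf_eq eK.symm z).trans hz
  have : NeZero (Nat.card Γ : ℂ) := ⟨by exact_mod_cast Nat.card_pos.ne'⟩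
  obtain ⟨n, d, hd0, ⟨Φ⟩⟩ :=
    IsSemisimpleRing.exists_algEquiv_pi_matrix_of_isAlgClosed ℂ (MonoidAlgebra ℂ Γ)
  let ρ : (i : Fin n) → Γ →* Matrix (Fin (d i)) (Fin (d i)) ℂ := fun i =>
    (((Pi.evalMonoidHom (fun j => Matrix (Fin (d j)) (Fin (d j)) ℂ) i).comp
      Φ.toMulEquiv.toMonoidHom).comp (MonoidAlgebra.of ℂ Γ))
  have hscal : ∀ i (k : K), ∃ a : ℂ, ρ i k = a • 1 := by
    intro i k
    have hcen : ∀ x, Commute (ρ i k) x := by
      intro x
      obtain ⟨r, hr⟩ := Φ.surjective (Pi.single i x)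
      have hcomm : MonoidAlgebra.of ℂ Γ (k : Γ) * r = r * MonoidAlgebra.of ℂ Γ (k : Γ) := by
        clear hr
        induction r using MonoidAlgebra.induction_on with
        | of g => rw [← map_mul, ← map_mul, Subgroup.mem_center_iff.mp (hc k.2) g]
        | add a b ha hb => rw [mul_add, add_mul, ha, hb]
        | smul c a ha => rw [mul_smul_comm, smul_mul_assoc, ha]
      have h := congrArg Φ hcomm
      rw [map_mul, map_mul, hr] at h
      have h' := congrFun h i
      rwa [Pi.mul_apply, Pi.mul_apply, Pi.single_eq_same] at h'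
    obtain ⟨a, ha⟩ := Matrix.mem_range_scalar_of_commute_transvectionStruct
      (M := ρ i k) fun t => (hcen t.toMatrix).symm
    exact ⟨a, by rw [← ha, Matrix.smul_one_eq_diagonal]; rfl⟩
  choose a ha using hscal
  have hd1 : ∀ i, 0 < d i := fun i => Nat.pos_of_neZero (d i)
  have huniq : ∀ i (x y : ℂ), x • (1 : Matrix (Fin (d i)) (Fin (d i)) ℂ) = y • 1 → x = y := by
    intro i x y h
    have h' := congrArg (fun m : Matrix (Fin (d i)) (Fin (d i)) ℂ => m ⟨0, hd1 i⟩ ⟨0, hd1 i⟩) h
    simpa using h'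
  let μ : (i : Fin n) → K →* ℂ := fun i =>
    { toFun := a i
      map_one' := huniq i _ _ (by rw [← ha, one_smul, Subgroup.coe_one, map_one])
      map_mul' := fun x y => huniq i _ _ (by
        rw [← ha, Subgroup.coe_mul, map_mul, ha, ha, smul_mul_smul_comm, one_mul]) }
  -- the exponent divides the degree of every block over `χ`
  have hdvd : ∀ i, (∀ k, μ i k = χ k) → Monoid.exponent K ∣ d i := by
    intro i hi
    rw [← hχ]
    refine orderOf_dvd_of_pow_eq_one (MonoidHom.ext fun k => ?_)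
    let det : Γ →* ℂˣ := ((Matrix.detMonoidHom).comp (ρ i)).toHomUnits
    have h : det k = 1 := Abelianization.commutator_subset_ker det (hd k.2)
    have h' : (ρ i k).det = 1 := congrArg Units.val h
    rw [ha, Matrix.det_smul, Matrix.det_one, mul_one, Fintype.card_fin] at h'
    refine Units.ext ?_
    rw [MonoidHom.pow_apply, Units.val_pow_eq_pow_val, ← hi k]
    exact h'
  -- the idempotent of `χ`
  let ε : MonoidAlgebra ℂ Γ :=
    ∑ k : K, ((Nat.card K : ℂ)⁻¹ * ((χ k)⁻¹ : ℂˣ)) • MonoidAlgebra.of ℂ Γ (k : Γ)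
  let c : Fin n → ℂ := fun i => if ∀ k, μ i k = χ k then 1 else 0
  have hK0 : (Nat.card K : ℂ) ≠ 0 := by exact_mod_cast Nat.card_pos.ne'
  have hΦε : Φ ε = fun i => c i • (1 : Matrix (Fin (d i)) (Fin (d i)) ℂ) := by
    funext i
    simp only [ε, map_sum, map_smul, Finset.sum_apply, Pi.smul_apply]
    have e : ∀ k : K, Φ (MonoidAlgebra.of ℂ Γ (k : Γ)) i = μ i k • 1 := fun k => ha i k
    simp only [e, smul_smul, ← Finset.sum_smul]
    congr 1
    let ν : K →* ℂ := (Units.coeHom ℂ).comp χ⁻¹ * μ i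
    have hν : ν = 1 ↔ ∀ k, μ i k = χ k := by
      constructor
      · intro h k
        have h1 : ((χ k)⁻¹ : ℂˣ) * μ i k = (1 : ℂ) := DFunLike.congr_fun h k
        exact ((Units.inv_mul_eq_one).mp h1).symm
      · exact fun h => MonoidHom.ext fun k => by simp [ν, h k]
    have hsum : ∑ k : K, (Nat.card K : ℂ)⁻¹ * ((χ k)⁻¹ : ℂˣ) * μ i k =
        (Nat.card K : ℂ)⁻¹ * ∑ k : K, ν k := by
      rw [Finset.mul_sum]
      exact Finset.sum_congr rfl fun k _ => mul_assoc _ _ _
    rw [hsum, sum_hom_units]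
    simp only [c]
    by_cases h : ∀ k, μ i k = χ k
    · rw [if_pos h, if_pos (hν.mpr h), ← Nat.card_eq_fintype_card, inv_mul_cancel₀ hK0]
    · rw [if_neg h, if_neg (fun hh => h (hν.mp hh)), Nat.cast_zero, mul_zero]
  have hε1 : ε.coeff 1 = (Nat.card K : ℂ)⁻¹ := by
    simp only [ε, MonoidAlgebra.coeff_sum, MonoidAlgebra.coeff_smul, Finset.sum_apply',
      Finsupp.smul_apply, MonoidAlgebra.of_apply, MonoidAlgebra.coeff_single]
    rw [Finset.sum_eq_single (1 : K)]
    · simp
    · intro k _ hk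
      rw [Finsupp.single_eq_of_ne (show (1 : Γ) ≠ (k : Γ) from fun h => hk (Subtype.ext h.symm)), smul_zero]
    · simp
  have htr := trace_mulLeft ε
  rw [← LinearMap.trace_conj' (LinearMap.mulLeft ℂ ε) Φ.toLinearEquiv] at htr
  have hconj : Φ.toLinearEquiv.conj (LinearMap.mulLeft ℂ ε) = LinearMap.mulLeft ℂ (Φ ε) :=
    LinearMap.ext fun x => by simp [LinearEquiv.conj_apply]
  rw [hconj, hΦε, trace_mulLeft_pi, hε1] at htr
  have hcard : ((∑ i, if ∀ k, μ i k = χ k then d i ^ 2 else 0 : ℕ) : ℂ) = (K.index : ℂ) := by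
    rw [← mul_right_inj' hK0, ← Nat.cast_mul (Nat.card K) K.index, Subgroup.card_mul_index,
      ← mul_inv_cancel_right₀ hK0 (Nat.card Γ : ℂ), mul_right_comm, ← htr, mul_comm _ (Nat.card K : ℂ)]
    congr 1
    push_cast
    exact Finset.sum_congr rfl fun i _ => by simp [c]
  rw [← Nat.cast_injective hcard]
  refine Finset.dvd_sum fun i _ => ?_
  split_ifs with h
  · exact pow_dvd_pow_of_dvd (hdvd i h) 2
  · exact dvd_zero _

end Cfsg.Lib.Schur
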