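import Cfsg.Agent.Schur.LThreeFourData
import Cfsg.Agent.Classical.Misc.PSLThreeFour
import Cfsg.Prelude.Def_CaseTheorems

/-!
Perfect central extensions of `PSL(3, 4)` by groups of exponent two have kernels of order at most four;
hence the cover with centre of type `2²` is unique.
-/

set_option autoImplicit false
set_option maxRecDepth 20000
set_option linter.style.haveILetI false

namespace Cfsg.Lib.Schur.LThreeFour

open Matrix Cfsg.Lib.Classical.UThreeTwo

universe u v

/-- The six root matrices. -/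
def gen : ℕ → Code
  | 0 => !![1, 1, 0; 0, 1, 0; 0, 0, 1]
  | 1 => !![1, 2, 0; 0, 1, 0; 0, 0, 1]
  | 2 => !![1, 0, 0; 0, 1, 1; 0, 0, 1]
  | 3 => !![1, 0, 0; 0, 1, 2; 0, 0, 1]
  | 4 => !![1, 0, 1; 0, 1, 0; 0, 0, 1]
  | 5 => !![1, 0, 2; 0, 1, 0; 0, 0, 1]
  | _ => scal 1

/-- The matrix of a word. -/
def codeWord : List ℕ → Code
  | [] => scal 1
  | k :: w => mmul (gen k) (codeWord w)

/-- The word of a number. -/
def wordOf (b : ℕ) : List ℕ := (List.range 6).filter b.testBit

/-- The number of a word. -/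
def numOf (w : List ℕ) : Fin 64 := Fin.ofNat 64 (w.map (2 ^ ·)).sum

/-- Reading a number off a matrix. -/
def numCode (X : Code) : ℕ :=
  (X 0 1).val + 4 * (X 1 2).val + 16 * (cadd (X 0 2) (cmul (X 0 1) (X 1 2))).val

theorem cert_ok : cert.okWith des = true := by decide +kernel

theorem gen_det : ∀ k : Fin 7, cdet (gen k.val) = 1 := by decide +kernel

theorem rules_code : ∀ j i : Fin 6, i.val ≤ j.val →
    codeWord [j.val, i.val] = codeWord (cert.tail j.val i.val) := by decide +kernel

theorem squares_code : ∀ s ∈ cert.squares, codeWord (s.1 ++ s.1) = scal 1 ∧ codeWord s.1 0 0 = 1 ∧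
    codeWord s.1 ≠ scal 1 := by decide +kernel

theorem closed_code : ∀ (b : Fin 64) (k : Fin 6),
    codeWord (wordOf b.val ++ [k.val]) = codeWord (wordOf (numOf (cert.nf (wordOf b.val ++ [k.val])).1).val) := by
  decide +kernel

theorem num_code : ∀ b : Fin 64, numCode (codeWord (wordOf b.val)) = b.val ∧ codeWord (wordOf b.val) 0 0 = 1 := by
  decide +kernel

theorem gen_zero : codeWord [0, 0] = scal 1 ∧ codeWord [0] 0 0 = 1 ∧ codeWord [0] ≠ scal 1 := by decide +kernel

variable {F : Type u} [Field F] [CharP F 2] {ω : F} (hω : ω * ω = ω + 1)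

/-- A root element. -/
noncomputable def T (k : ℕ) : SpecialLinearGroup (Fin 3) F :=
  ⟨(gen k).map (Cfsg.Lib.Classical.UThreeTwo.ev ω), by
    have h : cdet (gen k) = 1 := by
      rcases Nat.lt_or_ge k 6 with h | h
      · exact gen_det ⟨k, by omega⟩
      · match k, h with
        | j + 6, _ => exact gen_det 6
    rw [det_map hω, h]; rfl⟩

theorem T_word (w : List ℕ) : ((wordVal (T hω) w : SpecialLinearGroup (Fin 3) F) : Matrix (Fin 3) (Fin 3) F) =
    (codeWord w).map (Cfsg.Lib.Classical.UThreeTwo.ev ω) := by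
  induction w with
  | nil => rw [codeWord, map_scal_one hω]; rfl
  | cons k w ih =>
    rw [wordVal_cons, codeWord, map_mmul hω, ← ih]
    rfl

theorem eq_of_code {v w : List ℕ} (h : codeWord v = codeWord w) : wordVal (T hω) v = wordVal (T hω) w :=
  Subtype.ext (by rw [T_word, T_word, h])

/-- A root element in the projective group. -/
noncomputable def xq (k : ℕ) : ProjectiveSpecialLinearGroup (Fin 3) F :=
  QuotientGroup.mk' (Subgroup.center (SpecialLinearGroup (Fin 3) F)) (T hω k)

theorem xq_word (w : List ℕ) : wordVal (xq hω) w =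
    QuotientGroup.mk' (Subgroup.center (SpecialLinearGroup (Fin 3) F)) (wordVal (T hω) w) := by
  induction w with
  | nil => exact (map_one _).symm
  | cons k w ih => rw [wordVal_cons, wordVal_cons, map_mul, ih]; rfl

theorem code_eq_of_xq {v w : List ℕ} (hv : codeWord v 0 0 = 1) (hw : codeWord w 0 0 = 1)
    (h : wordVal (xq hω) v = wordVal (xq hω) w) : codeWord v = codeWord w := by
  rw [xq_word, xq_word, QuotientGroup.mk'_eq_mk'] at h
  obtain ⟨z, hz, he⟩ := h
  obtain ⟨r, -, hr⟩ := Matrix.SpecialLinearGroup.mem_center_iff.1 hz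
  have e : (wordVal (T hω) v : SpecialLinearGroup (Fin 3) F).1 * z.1 =
      (wordVal (T hω) w : SpecialLinearGroup (Fin 3) F).1 := congrArg Subtype.val he
  rw [← hr, T_word, T_word, Matrix.scalar_apply] at e
  have h00 := congrFun (congrFun e 0) 0
  rw [mul_diagonal, map_apply, map_apply, hv, hw] at h00
  have hr1 : r = 1 := by
    have h1 : Cfsg.Lib.Classical.UThreeTwo.ev ω 1 = 1 := rfl
    rwa [h1, one_mul] at h00
  subst hr1
  rw [Matrix.diagonal_one, mul_one] at e
  exact Matrix.map_injective (ev_injective hω) e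

theorem order_two {w : List ℕ} (h2 : codeWord (w ++ w) = scal 1) (h0 : codeWord w 0 0 = 1)
    (h1 : codeWord w ≠ scal 1) : orderOf (wordVal (xq hω) w) = 2 := by
  refine orderOf_eq_prime ?_ fun e => h1 (code_eq_of_xq hω (w := []) h0 rfl e)
  rw [sq, ← wordVal_append, xq_word, eq_of_code hω (w := []) (by rw [h2]; rfl)]
  exact map_one _

theorem card_psl [Fintype F] (hF : Fintype.card F = 4) :
    Nat.card (ProjectiveSpecialLinearGroup (Fin 3) F) = 20160 := by
  have hc := Cfsg.Lib.Classical.card_SL_mul_eq_prod (F := F) (n := 3) (by norm_num)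
  have h := Subgroup.card_eq_card_quotient_mul_card_subgroup
    (Subgroup.center (SpecialLinearGroup (Fin 3) F))
  rw [Cfsg.Lib.Classical.card_center_SL, Nat.card_eq_fintype_card (α := F), hF] at h
  norm_num [Fin.prod_univ_three, hF, -Nat.card_eq_fintype_card] at hc h ⊢
  show Nat.card (SpecialLinearGroup (Fin 3) F ⧸ Subgroup.center (SpecialLinearGroup (Fin 3) F)) = 20160
  omega

include hω in
/-- The bound. -/
theorem card_ker_le [Fintype F] (hF : Fintype.card F = 4) {Γ : Type v} [Group Γ] [Finite Γ]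
    {σ : Γ →* ProjectiveSpecialLinearGroup (Fin 3) F} (hσ : Cfsg.IsStemExtension σ)
    (h2 : ∀ z ∈ σ.ker, z * z = 1) : Nat.card σ.ker ≤ 4 := by
  classical
  have hinj : Function.Injective fun b : Fin 64 => wordVal (xq hω) (wordOf b.val) := fun a b h => by
    have e := code_eq_of_xq hω (num_code a).2 (num_code b).2 h
    exact Fin.ext (by rw [← (num_code a).1, e, (num_code b).1])
  have hclos : (Subgroup.closure (xq hω '' {i | i < cert.n}) : Set (ProjectiveSpecialLinearGroup (Fin 3) F)) =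
      Set.range fun b : Fin 64 => wordVal (xq hω) (wordOf b.val) := by
    refine Set.Subset.antisymm (fun g hg => ?_) ?_
    · have hg' : g ∈ Submonoid.closure (xq hω '' {i | i < cert.n}) := by
        rw [← Subgroup.closure_toSubmonoid_of_finite]; exact hg
      clear hg
      induction hg' using Submonoid.closure_induction_right with
      | one =>
        refine ⟨0, ?_⟩
        show wordVal (xq hω) (wordOf 0) = 1
        rw [show wordOf 0 = [] by decide +kernel]
        rfl
      | mul_right a _ y hy ih =>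
        obtain ⟨b, rfl⟩ := ih
        obtain ⟨k, hk, rfl⟩ := hy
        refine ⟨numOf (cert.nf (wordOf b.val ++ [k])).1, ?_⟩
        show wordVal (xq hω) _ = wordVal (xq hω) (wordOf b.val) * xq hω k
        rw [show xq hω k = wordVal (xq hω) [k] by simp [wordVal], ← wordVal_append, xq_word, xq_word,
          eq_of_code hω (closed_code b ⟨k, hk⟩)]
    · rintro _ ⟨b, rfl⟩
      refine Subgroup.list_prod_mem _ fun z hz => ?_
      obtain ⟨k, hk, rfl⟩ := List.mem_map.mp hz
      exact Subgroup.subset_closure ⟨k, List.mem_range.mp (List.mem_filter.mp hk).1, rfl⟩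
  have hcl : Nat.card (Subgroup.closure (xq hω '' {i | i < cert.n})) = 64 := by
    rw [show Nat.card (Subgroup.closure (xq hω '' {i | i < cert.n})) =
      Nat.card ((Subgroup.closure (xq hω '' {i | i < cert.n}) : Set (ProjectiveSpecialLinearGroup (Fin 3) F)) :
        Type u) from rfl, hclos, Nat.card_range_of_injective hinj, Nat.card_eq_fintype_card, Fintype.card_fin]
  have hfac : (Nat.card (ProjectiveSpecialLinearGroup (Fin 3) F)).factorization 2 = 6 := by
    rw [card_psl hF, show (20160 : ℕ) = 2 ^ 6 * 315 by norm_num, Nat.factorization_mul (by norm_num) (by norm_num),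
      Finsupp.add_apply, Nat.factorization_pow, Finsupp.smul_apply, Nat.Prime.factorization_self Nat.prime_two,
      Nat.factorization_eq_zero_of_not_dvd (by norm_num : ¬ (2 ∣ 315))]
    rfl
  have hzero : orderOf (wordVal (xq hω) [0]) = 2 := order_two hω gen_zero.1 gen_zero.2.1 gen_zero.2.2
  refine cert.card_ker_le des cert_ok hσ h2 (xq hω) (fun _ => wordVal (xq hω) [0])
    (fun b => by rw [← sq, ← hzero, pow_orderOf_eq_one]) ?_ ?_ (by rw [hcl, hfac]; norm_num) (by rw [hcl]; decide +kernel)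
    (by decide)
  · intro j hj i hi
    have h := eq_of_code hω (rules_code ⟨j, hj⟩ ⟨i, lt_of_le_of_lt hi hj⟩ hi)
    rw [show xq hω j * xq hω i = wordVal (xq hω) [j, i] by simp [wordVal], xq_word, xq_word, h]
  · intro s hs
    obtain ⟨a, b, c⟩ := squares_code s hs
    obtain ⟨g, hg⟩ := _root_.isConj_iff.mp (Cfsg.Lib.Classical.PSLThreeFour.isConj_involutions hF
      (wordVal (xq hω) [0]) (wordVal (xq hω) s.1) hzero (order_two hω a b c))
    exact ⟨g, hg.symm⟩

end Cfsg.Lib.Schur.LThreeFour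

namespace Cfsg.Lib.Schur.LThreeFour

open Matrix

variable {F : Type} [Field F] [Fintype F]

theorem full {Q L : Type*} [Group Q] [Group L] (p : L →* Q) (hL : commutator L = ⊤)
    (hk : ∀ a, p a = 1 → a ∈ Subgroup.center L) (S : Subgroup L) (hS : S.map p = ⊤) : S = ⊤ := by
  refine eq_top_iff.mpr (hL.ge.trans ?_)
  rw [commutator_def]
  refine Subgroup.commutator_le.mpr fun a _ b _ => ?_
  obtain ⟨a', ha', hpa⟩ : p a ∈ S.map p := hS ▸ Subgroup.mem_top _
  obtain ⟨b', hb', hpb⟩ : p b ∈ S.map p := hS ▸ Subgroup.mem_top _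
  rw [comm_congr p (fun z hz => hk z hz) hpa.symm hpb.symm, commutatorElement_def]
  exact mul_mem (mul_mem (mul_mem ha' hb') (inv_mem ha')) (inv_mem hb')

theorem card_cover (hF : Fintype.card F = 4) [CharP F 2] {L : Type*} [Group L] [Finite L]
    (hc : Nat.card (Subgroup.center L) = 4)
    (e : L ⧸ Subgroup.center L ≃* ProjectiveSpecialLinearGroup (Fin 3) F) : Nat.card L = 20160 * 4 := by
  rw [Subgroup.card_eq_card_quotient_mul_card_subgroup (Subgroup.center L), hc, Nat.card_congr e.toEquiv,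
    card_psl hF]

/-- Two covers with centre of exponent two and order four are isomorphic. -/
theorem cover_unique (hF : Fintype.card F = 4) {L₁ L₂ : Type*} [Group L₁] [Finite L₁] [Group L₂] [Finite L₂]
    (h₁ : commutator L₁ = ⊤) (h₂ : commutator L₂ = ⊤)
    (hc₁ : Nat.card (Subgroup.center L₁) = 4) (hc₂ : Nat.card (Subgroup.center L₂) = 4)
    (he₁ : ∀ x ∈ Subgroup.center L₁, x * x = 1) (he₂ : ∀ x ∈ Subgroup.center L₂, x * x = 1)
    (e₁ : L₁ ⧸ Subgroup.center L₁ ≃* ProjectiveSpecialLinearGroup (Fin 3) F)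
    (e₂ : L₂ ⧸ Subgroup.center L₂ ≃* ProjectiveSpecialLinearGroup (Fin 3) F) : Nonempty (L₁ ≃* L₂) := by
  classical
  obtain ⟨hch, ω, hω⟩ := Cfsg.Lib.Classical.UThreeTwo.exists_omega hF
  haveI := hch
  set Q := ProjectiveSpecialLinearGroup (Fin 3) F
  set p₁ : L₁ →* Q := e₁.toMonoidHom.comp (QuotientGroup.mk' _) with hp₁
  set p₂ : L₂ →* Q := e₂.toMonoidHom.comp (QuotientGroup.mk' _) with hp₂
  have k₁ : ∀ a, p₁ a = 1 → a ∈ Subgroup.center L₁ := fun a h =>
    (QuotientGroup.eq_one_iff a).mp (e₁.injective (h.trans (map_one e₁).symm))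
  have k₂ : ∀ a, p₂ a = 1 → a ∈ Subgroup.center L₂ := fun a h =>
    (QuotientGroup.eq_one_iff a).mp (e₂.injective (h.trans (map_one e₂).symm))
  have s₁ : Function.Surjective p₁ := e₁.surjective.comp (QuotientGroup.mk'_surjective _)
  have s₂ : Function.Surjective p₂ := e₂.surjective.comp (QuotientGroup.mk'_surjective _)
  set P : Subgroup (L₁ × L₂) := (p₁.comp (MonoidHom.fst L₁ L₂)).eqLocus (p₂.comp (MonoidHom.snd L₁ L₂)) with hP
  have hQperf : commutator Q = ⊤ := by
    have h := congrArg (Subgroup.map p₁) h₁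
    rw [commutator_def, Subgroup.map_commutator, Subgroup.map_top_of_surjective _ s₁] at h
    exact h
  set D : Subgroup (L₁ × L₂) := ⁅P, P⁆ with hD
  have hDP : D ≤ P := Subgroup.commutator_le.mpr fun a ha b hb => by
    rw [commutatorElement_def]
    exact mul_mem (mul_mem (mul_mem ha hb) (inv_mem ha)) (inv_mem hb)
  set q : L₁ × L₂ →* Q := p₁.comp (MonoidHom.fst L₁ L₂) with hq
  have hDmap : D.map q = ⊤ := by
    have hPm : P.map q = ⊤ := eq_top_iff.mpr fun y _ => by
      obtain ⟨a, ha⟩ := s₁ y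
      obtain ⟨b, hb⟩ := s₂ y
      exact ⟨(a, b), show p₁ a = p₂ b from ha.trans hb.symm, ha⟩
    rw [hD, Subgroup.map_commutator, hPm, ← commutator_def, hQperf]
  have hZ : ∀ z ∈ P, q z = 1 → z ∈ Subgroup.center (L₁ × L₂) ∧ z * z = 1 := by
    rintro ⟨a, b⟩ hz hq1
    have hb : p₂ b = 1 := (show p₁ a = p₂ b from hz).symm.trans hq1
    refine ⟨Subgroup.mem_center_iff.mpr fun g => Prod.ext (Subgroup.mem_center_iff.mp (k₁ a hq1) g.1)
      (Subgroup.mem_center_iff.mp (k₂ b hb) g.2), Prod.ext (he₁ a (k₁ a hq1)) (he₂ b (k₂ b hb))⟩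
  have hperf : D ≤ ⁅D, D⁆ := by
    rw [hD]
    refine Subgroup.commutator_le.mpr fun a ha b hb => ?_
    obtain ⟨a', ha', hqa⟩ : q a ∈ D.map q := hDmap ▸ Subgroup.mem_top _
    obtain ⟨b', hb', hqb⟩ : q b ∈ D.map q := hDmap ▸ Subgroup.mem_top _
    obtain ⟨za, hza⟩ := hZ (a'⁻¹ * a) (mul_mem (inv_mem (hDP ha')) ha) (by rw [map_mul, map_inv, hqa, inv_mul_cancel])
    obtain ⟨zb, hzb⟩ := hZ (b'⁻¹ * b) (mul_mem (inv_mem (hDP hb')) hb) (by rw [map_mul, map_inv, hqb, inv_mul_cancel])
    have h := comm_congr (QuotientGroup.mk' (Subgroup.center (L₁ × L₂))) (by rw [QuotientGroup.ker_mk'])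
      (g := a) (g' := a') (h := b) (h' := b') ((QuotientGroup.eq).mpr za).symm ((QuotientGroup.eq).mpr zb).symm
    rw [h]
    exact Subgroup.commutator_mem_commutator ha' hb'
  set σ : D →* Q := q.comp D.subtype with hσ
  have hσs : Function.Surjective σ := fun y => by
    obtain ⟨d, hd, hdy⟩ : y ∈ D.map q := hDmap ▸ Subgroup.mem_top _
    exact ⟨⟨d, hd⟩, hdy⟩
  have hDperf : commutator D = ⊤ := by
    refine eq_top_iff.mpr fun d _ => ?_
    have h := hperf d.2
    rw [← Subgroup.map_subtype_commutator] at h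
    obtain ⟨d', hd', hdd⟩ := h
    exact Subtype.ext hdd ▸ hd'
  have hstem : Cfsg.IsStemExtension σ := by
    refine ⟨hσs, fun z hz => ?_, by rw [hDperf]; exact le_top⟩
    exact Subgroup.mem_center_iff.mpr fun g => Subtype.ext (Subgroup.mem_center_iff.mp (hZ z.1 (hDP z.2) hz).1 g.1)
  have hker := card_ker_le hω hF hstem fun z hz => Subtype.ext (hZ z.1 (hDP z.2) hz).2
  have hDle : Nat.card D ≤ 20160 * 4 := by
    rw [← Subgroup.index_mul_card σ.ker, Subgroup.index_ker, MonoidHom.range_eq_top.mpr hσs, Subgroup.card_top,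
      card_psl hF]
    exact Nat.mul_le_mul_left _ hker
  let f₁ : D →* L₁ := (MonoidHom.fst L₁ L₂).comp D.subtype
  let f₂ : D →* L₂ := (MonoidHom.snd L₁ L₂).comp D.subtype
  have hf₁ : Function.Surjective f₁ := by
    rw [← MonoidHom.range_eq_top]
    refine full p₁ h₁ k₁ _ (eq_top_iff.mpr fun y _ => ?_)
    obtain ⟨d, rfl⟩ := hσs y
    exact ⟨f₁ d, ⟨d, rfl⟩, rfl⟩
  have hf₂ : Function.Surjective f₂ := by
    rw [← MonoidHom.range_eq_top]
    refine full p₂ h₂ k₂ _ (eq_top_iff.mpr fun y _ => ?_)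
    obtain ⟨d, rfl⟩ := hσs y
    exact ⟨f₂ d, ⟨d, rfl⟩, (hDP d.2).symm⟩
  have hb₁ : Function.Bijective f₁ := (Nat.bijective_iff_surjective_and_card f₁).mpr
    ⟨hf₁, le_antisymm (hDle.trans (card_cover hF hc₁ e₁).ge) (Nat.card_le_card_of_surjective f₁ hf₁)⟩
  have hb₂ : Function.Bijective f₂ := (Nat.bijective_iff_surjective_and_card f₂).mpr
    ⟨hf₂, le_antisymm (hDle.trans (card_cover hF hc₂ e₂).ge) (Nat.card_le_card_of_surjective f₂ hf₂)⟩
  exact ⟨(MulEquiv.ofBijective f₁ hb₁).symm.trans (MulEquiv.ofBijective f₂ hb₂)⟩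

end Cfsg.Lib.Schur.LThreeFour
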