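import Cfsg.Agent.Schur.QuotientCover
import Cfsg.Agent.Classical.Misc.PSLSeven
import Cfsg.Agent.S2117

/-!
The Schur multiplier of `PSL₃(2)`.
-/

set_option autoImplicit false
set_option linter.style.haveILetI false

namespace Cfsg.Lib.Schur

universe u

theorem multiplier_psl_three_two {F : Type u} [Field F] [Fintype F] (hF : Fintype.card F = 2) :
    Cfsg.HasCyclicSchurMultiplier (Matrix.ProjectiveSpecialLinearGroup (Fin 3) F) 2 := by
  have h30 : ¬(3 : ZMod 7) = 0 := by decide
  have h31 : ¬(3 : ZMod 7) ^ 2 = 1 := by decide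
  classical
  haveI : Fact (Nat.Prime 7) := ⟨by norm_num⟩
  obtain ⟨e⟩ := Cfsg.Lib.Classical.PSLSeven.psl_seven (F := ULift.{u} (ZMod 7)) (K := F)
    (by rw [← Nat.card_eq_fintype_card, Nat.card_ulift, Nat.card_zmod]) hF
  have h7 : Fintype.card (ULift.{u} (ZMod 7)) = 7 := by
    rw [← Nat.card_eq_fintype_card, Nat.card_ulift, Nat.card_zmod]
  let q : Matrix.SpecialLinearGroup (Fin 2) (ULift.{u} (ZMod 7)) →*
      Matrix.ProjectiveSpecialLinearGroup (Fin 3) F := e.toMonoidHom.comp (QuotientGroup.mk' _)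
  have hq : Function.Surjective q := e.surjective.comp (QuotientGroup.mk'_surjective _)
  have hker : q.ker = Subgroup.center (Matrix.SpecialLinearGroup (Fin 2) (ULift.{u} (ZMod 7))) := by
    ext x
    show e (QuotientGroup.mk x) = 1 ↔ _
    rw [map_eq_one_iff e e.injective, QuotientGroup.eq_one_iff]
  have hperf : commutator (Matrix.SpecialLinearGroup (Fin 2) (ULift.{u} (ZMod 7))) = ⊤ :=
    Matrix.SL2.commutator_eq_top (a := ULift.up (3 : ZMod 7))
      (fun h => h30 (congrArg ULift.down h))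
      (fun h => h31 (congrArg ULift.down h))
  have hcard : Nat.card q.ker = 2 := by
    rw [hker, Cfsg.Lib.Classical.card_center_SL, Nat.card_eq_fintype_card, h7]
    rfl
  haveI : IsCyclic q.ker := isCyclic_of_prime_card (hp := ⟨Nat.prime_two⟩) hcard
  refine Cfsg.Lib.Schur.hasCyclicSchurMultiplier_of 2
    ⟨_, inferInstance, inferInstance, q, ⟨hq, hker.le, hperf ▸ le_top⟩, inferInstance, hcard⟩
    fun Γ _ _ σ hσ => ?_
  obtain ⟨f, hf⟩ := Cfsg.Lib.Schur.exists_surj_of_trivial_cover q hq hperf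
    (fun Δ _ _ τ hτ => Cfsg.Lib.Schur.ker_eq_bot_of_hasCyclicSchurMultiplier_one
      (Cfsg.Agent.S2117.result (by rw [h7]; norm_num) (by rw [h7]; norm_num)) hτ) σ hσ
  exact ⟨isCyclic_of_surjective f hf, hcard ▸ Subgroup.card_dvd_of_surjective f hf⟩

end Cfsg.Lib.Schur
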