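import Cfsg.Agent.Schur.LThreeFourCoverCheck

/-! Checks on the coset tables and the transfer sums. -/

set_option autoImplicit false
set_option maxRecDepth 20000
set_option Elab.async false

namespace Cfsg.Lib.Schur.LThreeFour.Cover

open Matrix Cfsg.Lib.Classical.UThreeTwo

/-- A code from a number. -/
def decCode (n : ℕ) : Code := Matrix.of fun i j => Fin.ofNat 4 (bitsAt n 2 (3 * i.val + j.val))

/-- The representatives. -/
def rep (i : Fin 315) : Code := decCode (bitsAt repTab 18 i.val)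

/-- A cross product entry. -/
def crossAt (X : Code) (a b : Fin 3) : Fin 4 := cadd (cmul (X a 0) (X b 1)) (cmul (X b 0) (X a 1))

/-- The key of a coset. -/
def keyOf (X : Code) : ℕ :=
  (X 0 0).val + 4 * (X 1 0).val + 16 * (X 2 0).val + 64 * (crossAt X 1 2).val + 256 * (crossAt X 2 0).val +
    1024 * (crossAt X 0 1).val

/-- The moved coset. -/
def jv (k : Fin 4) (i : Fin 315) : Fin 315 := Fin.ofNat 315 (bitsAt (jTab k) 9 i.val)

/-- The unipotent part. -/
def bv (k : Fin 4) (i : Fin 315) : Fin 64 := Fin.ofNat 64 (bitsAt (bTab k) 6 i.val)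

/-- The scalar. -/
def sv (k : Fin 4) (i : Fin 315) : Fin 4 := Fin.ofNat 4 (bitsAt (sTab k) 2 i.val)

/-- A transfer sum, antisymmetrised. -/
def corSum (k : Bool) (p q : Fin 4) : ℕ :=
  ((List.finRange 315).map fun i =>
    fc k (bv p (jv q i)) (bv q i) + 4 - fc k (bv q (jv p i)) (bv p i)).sum % 4

theorem rep_det : ∀ i, cdet (rep i) = 1 := by decide +kernel

theorem rep_lead : ∀ i, rep i 0 0 = 1 ∨
    (rep i 0 0 = 0 ∧ (rep i 1 0 = 1 ∨ (rep i 1 0 = 0 ∧ rep i 2 0 = 1))) := by decide +kernel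

theorem rep_lab : ∀ i, bitsAt labTab 9 (keyOf (rep i)) = i.val := by decide +kernel

theorem act_code : ∀ k i, mmul (ucode (elts k)) (rep i) = mmul (scal (sv k i)) (mmul (rep (jv k i)) (ucode (bv k i))) ∧
    sv k i ≠ 0 := by decide +kernel

theorem elts_comm : um (elts 0) (elts 1) = um (elts 1) (elts 0) ∧
    um (elts 2) (elts 3) = um (elts 3) (elts 2) := by decide +kernel

theorem sum_values : corSum false 0 1 = 0 ∧ corSum true 0 1 = 3 ∧ corSum false 2 3 = 3 ∧
    corSum true 2 3 = 0 := by decide +kernel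

end Cfsg.Lib.Schur.LThreeFour.Cover
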