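import Cfsg.Agent.Schur.LThreeFourBound
import Cfsg.Agent.Schur.LThreeFourCosets
import Cfsg.Agent.Schur.Corestriction
import Cfsg.Agent.Schur.FibreProduct

/-!
The Schur multiplier of `PSL(3, 4)`: corestriction of two cocycles on the unipotent subgroup gives
a cover with kernel `4 × 4`, and `SL(3, 4)` the part of order three.
-/

set_option autoImplicit false
set_option linter.style.haveILetI false
set_option Elab.async false

open scoped commutatorElement

namespace Cfsg.Lib.Schur.LThreeFour.Cover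

open Matrix Cfsg.Lib.Classical.UThreeTwo
open Cfsg.Lib.Schur.Corestriction (Datum cor beta Ext)

universe u

theorem mono (k : Bool) (x y : Fin 64) (i : Fin 4) : pv k (um x y) i = pv k x (pv k y i) ∧
    (fc k x y + hv k (um x y) i) % 4 = (hv k x (pv k y i) + hv k y i) % 4 := by
  cases k
  · exact mono_false x y i
  · exact mono_true x y i

theorem hv_cast (k : Bool) (x y : Fin 64) (i : Fin 4) :
    (fc k x y : ZMod 4) = (hv k x (pv k y i) : ZMod 4) + (hv k y i : ZMod 4) - (hv k (um x y) i : ZMod 4) := by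
  have h := (ZMod.natCast_eq_natCast_iff' _ _ 4).mpr (mono k x y i).2
  push_cast at h
  exact eq_sub_of_add_eq h

theorem fc_zero : ∀ k x, fc k 0 x = 0 ∧ fc k x 0 = 0 := by decide +kernel

theorem keyOf_split (X Y : Code) (h : keyOf X = keyOf Y) : X 0 0 = Y 0 0 ∧ X 1 0 = Y 1 0 ∧ X 2 0 = Y 2 0 ∧
    crossAt X 1 2 = crossAt Y 1 2 ∧ crossAt X 2 0 = crossAt Y 2 0 ∧ crossAt X 0 1 = crossAt Y 0 1 := by
  unfold keyOf at h
  refine ⟨?_, ?_, ?_, ?_, ?_, ?_⟩ <;> apply Fin.ext <;> omega

variable {F : Type u} [Field F] [Fintype F] [CharP F 2] {ω : F} (hω : ω * ω = ω + 1)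

/-- The representatives in the group. -/
noncomputable def repQ (i : Fin 315) : ProjectiveSpecialLinearGroup (Fin 3) F := proj3 hω (rep i) (rep_det i)

theorem ucode_det : ∀ x, cdet (ucode x) = 1 := by decide +kernel

omit [Fintype F] in
theorem phi_proj3 (x : Fin 64) : phi hω x = proj3 hω (ucode x) (ucode_det x) := by
  have e : wordVal (T hω) (uword x) = slOf hω (ucode x) (ucode_det x) := Subtype.ext (by
    rw [T_word, uword_code]
    rfl)
  rw [phi_eq]
  unfold proj3
  rw [e]

include hω in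
theorem rep_separated {i j : Fin 315} (h : (repQ hω i)⁻¹ * repQ hω j ∈ unip hω) : i = j := by
  obtain ⟨x, hx⟩ := h
  have he : repQ hω i * phi hω x = repQ hω j := by rw [hx, mul_inv_cancel_left]
  rw [phi_proj3] at he
  unfold repQ proj3 at he
  rw [← map_mul] at he
  obtain ⟨z, hz, hz'⟩ := (QuotientGroup.mk'_eq_mk' _).mp he
  obtain ⟨r, -, hr⟩ := Matrix.SpecialLinearGroup.mem_center_iff.1 hz
  let v := fun a b : Fin 4 => Cfsg.Lib.Classical.UThreeTwo.ev ω (cadd a b)
  have he2 : (rep i).map (Cfsg.Lib.Classical.UThreeTwo.ev ω) * (ucode x).map (Cfsg.Lib.Classical.UThreeTwo.ev ω) *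
      z.1 = (rep j).map (Cfsg.Lib.Classical.UThreeTwo.ev ω) := congrArg Subtype.val hz'
  rw [← hr, Matrix.scalar_apply] at he2
  have ent : ∀ a b, (((rep i).map (Cfsg.Lib.Classical.UThreeTwo.ev ω) *
      (ucode x).map (Cfsg.Lib.Classical.UThreeTwo.ev ω)) a b) * r = Cfsg.Lib.Classical.UThreeTwo.ev ω (rep j a b) := by
    intro a b
    have := congrFun (congrFun he2 a) b
    rwa [Matrix.mul_diagonal, Matrix.map_apply] at this
  have e0 : Cfsg.Lib.Classical.UThreeTwo.ev ω (0 : Fin 4) = 0 := rfl
  have e1 : Cfsg.Lib.Classical.UThreeTwo.ev ω (1 : Fin 4) = 1 := rfl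
  have col0 : ∀ a, Cfsg.Lib.Classical.UThreeTwo.ev ω (rep j a 0) =
      Cfsg.Lib.Classical.UThreeTwo.ev ω (rep i a 0) * r := by
    intro a
    rw [← ent a 0]
    simp [Matrix.mul_apply, Fin.sum_univ_three, ucode, e0, e1]
  have col1 : ∀ a, Cfsg.Lib.Classical.UThreeTwo.ev ω (rep j a 1) =
      (Cfsg.Lib.Classical.UThreeTwo.ev ω (rep i a 0) * Cfsg.Lib.Classical.UThreeTwo.ev ω (ua x) +
        Cfsg.Lib.Classical.UThreeTwo.ev ω (rep i a 1)) * r := by
    intro a
    rw [← ent a 1]
    simp [Matrix.mul_apply, Fin.sum_univ_three, ucode, e0, e1]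
  have hinj := Cfsg.Lib.Classical.UThreeTwo.ev_injective hω
  have h0 : r ≠ 0 := by
    intro hr0
    rcases rep_lead j with h | ⟨-, h | ⟨-, h⟩⟩
    · exact one_ne_zero (α := F) (by rw [← e1, ← h, col0, hr0, mul_zero])
    · exact one_ne_zero (α := F) (by rw [← e1, ← h, col0, hr0, mul_zero])
    · exact one_ne_zero (α := F) (by rw [← e1, ← h, col0, hr0, mul_zero])
  have zero_iff : ∀ a, rep i a 0 = 0 ↔ rep j a 0 = 0 := fun a => by
    constructor
    · intro h; exact hinj (by rw [col0, h, e0, zero_mul])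
    · intro h
      refine hinj ?_
      have h' := col0 a
      rw [h, e0] at h'
      rw [e0]
      exact (mul_eq_zero.mp h'.symm).resolve_right h0
  have hr1 : r = 1 := by
    have key : ∀ a, rep i a 0 = 1 → rep j a 0 = 1 → r = 1 := fun a ha hb => by
      have := col0 a
      rw [ha, hb, e1, one_mul] at this
      exact this.symm
    rcases rep_lead i with hi | ⟨hi0, hi | ⟨hi1, hi⟩⟩
    · refine key 0 hi ?_
      rcases rep_lead j with hj | ⟨hj0, -⟩
      · exact hj
      · exact absurd ((zero_iff 0).mpr hj0) (by rw [hi]; decide)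
    · refine key 1 hi ?_
      rcases rep_lead j with hj | ⟨-, hj | ⟨hj1, -⟩⟩
      · exact absurd ((zero_iff 0).mp hi0) (by rw [hj]; decide)
      · exact hj
      · exact absurd ((zero_iff 1).mpr hj1) (by rw [hi]; decide)
    · refine key 2 hi ?_
      rcases rep_lead j with hj | ⟨-, hj | ⟨-, hj⟩⟩
      · exact absurd ((zero_iff 0).mp hi0) (by rw [hj]; decide)
      · exact absurd ((zero_iff 1).mp hi1) (by rw [hj]; decide)
      · exact hj
  subst hr1
  simp only [mul_one] at col0 col1
  have hv0 : ∀ a, rep j a 0 = rep i a 0 := fun a => hinj (col0 a)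
  have hcr : ∀ a b, crossAt (rep j) a b = crossAt (rep i) a b := fun a b => by
    refine hinj ?_
    unfold crossAt
    rw [ev_add hω, ev_mul hω, ev_mul hω, ev_add hω, ev_mul hω, ev_mul hω, col0, col0, col1, col1]
    have h2 : (2 : F) = 0 := CharTwo.two_eq_zero
    linear_combination (Cfsg.Lib.Classical.UThreeTwo.ev ω (rep i a 0) * Cfsg.Lib.Classical.UThreeTwo.ev ω (rep i b 0) *
      Cfsg.Lib.Classical.UThreeTwo.ev ω (ua x)) * h2
  have hk : keyOf (rep i) = keyOf (rep j) := by
    unfold keyOf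
    rw [hv0, hv0, hv0, hcr, hcr, hcr]
  exact Fin.ext (by rw [← rep_lab i, ← rep_lab j, hk])

include hω in
theorem repQ_bijective (hF : Fintype.card F = 4) :
    Function.Bijective fun i => (repQ hω i : ProjectiveSpecialLinearGroup (Fin 3) F ⧸ unip hω) := by
  haveI : Fintype (ProjectiveSpecialLinearGroup (Fin 3) F ⧸ unip hω) := Fintype.ofFinite _
  refine (Fintype.bijective_iff_injective_and_card _).mpr
    ⟨fun i j h => rep_separated hω (QuotientGroup.eq.mp h), ?_⟩
  have h := Subgroup.card_eq_card_quotient_mul_card_subgroup (unip hω)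
  rw [card_unip, card_psl hF, Nat.card_eq_fintype_card] at h
  rw [Fintype.card_fin]
  omega

include hω in
theorem exists_two_cover (hF : Fintype.card F = 4) :
    ∃ (Γ : Type u) (_ : Group Γ) (_ : Finite Γ) (σ : Γ →* ProjectiveSpecialLinearGroup (Fin 3) F),
      Cfsg.IsStemExtension σ ∧ Nat.card σ.ker = 16 := by
  classical
  let G := ProjectiveSpecialLinearGroup (Fin 3) F
  haveI : Fintype (G ⧸ unip hω) := Fintype.ofFinite _
  let e : Fin 315 ≃ G ⧸ unip hω := Equiv.ofBijective _ (repQ_bijective hω hF)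
  let num : unip hω → Fin 64 := fun y => y.2.choose
  have hnum : ∀ y : unip hω, phi hω (num y) = y := fun y => y.2.choose_spec
  have hnum_mul : ∀ y z, num (y * z) = um (num y) (num z) := fun y z => phi_injective hω (by
    rw [hnum, ← phi_mul, hnum, hnum, Subgroup.coe_mul])
  have hnum_one : num 1 = 0 := phi_injective hω (by rw [hnum, phi_zero, Subgroup.coe_one])
  let D : Datum (unip hω) (ZMod 4 × ZMod 4) :=
    { f := fun y z => ((fc false (num y) (num z) : ZMod 4), (fc true (num y) (num z) : ZMod 4))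
      cocycle := fun x y z => by
        have key : ∀ k a b c, um a (um b c) = um (um a b) c →
            (fc k b c : ZMod 4) + (fc k a (um b c) : ZMod 4) = (fc k (um a b) c : ZMod 4) + (fc k a b : ZMod 4) := by
          intro k a b c hass
          rw [hv_cast k b c 0, hv_cast k a (um b c) 0, hv_cast k (um a b) c 0, hv_cast k a b (pv k c 0),
            (mono k b c 0).1, hass]
          abel
        have hass : um (num x) (um (num y) (num z)) = um (um (num x) (num y)) (num z) := by
          rw [← hnum_mul, ← hnum_mul, ← hnum_mul, ← hnum_mul, mul_assoc]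
        simp only [hnum_mul, Prod.mk_add_mk]
        exact Prod.ext (key false _ _ _ hass) (key true _ _ _ hass)
      left := fun x => by simp [hnum_one, (fc_zero _ _).1]
      right := fun x => by simp [hnum_one, (fc_zero _ _).2]
      s := fun q => repQ hω (e.symm q)
      hs := fun q => e.apply_symm_apply q }
  have hbeta : ∀ k i, phi hω (elts k) • e i = e (jv k i) ∧
      num (beta D (phi hω (elts k)) (e i)) = bv k i := by
    intro k i
    obtain ⟨hc, hs⟩ := act_code k i
    have hd1 : cdet (mmul (ucode (elts k)) (rep i)) = 1 := by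
      refine Cfsg.Lib.Classical.UThreeTwo.ev_injective hω ?_
      rw [← det_map hω, map_mmul hω, Matrix.det_mul, det_map hω, det_map hω, ucode_det, rep_det]
      exact mul_one _
    have hd2 : cdet (mmul (rep (jv k i)) (ucode (bv k i))) = 1 := by
      refine Cfsg.Lib.Classical.UThreeTwo.ev_injective hω ?_
      rw [← det_map hω, map_mmul hω, Matrix.det_mul, det_map hω, det_map hω, ucode_det, rep_det]
      exact mul_one _
    have hq : phi hω (elts k) * repQ hω i = repQ hω (jv k i) * phi hω (bv k i) := by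
      rw [phi_proj3, phi_proj3]
      unfold repQ
      rw [proj3_mul hω _ _ hd1 rfl, proj3_mul hω _ _ hd2 rfl]
      exact proj3_eq hω hd1 hd2 hc
    have hact : phi hω (elts k) • e i = e (jv k i) := by
      show ((phi hω (elts k) * repQ hω i : G) : G ⧸ unip hω) = (repQ hω (jv k i) : G ⧸ unip hω)
      rw [hq]
      exact QuotientGroup.eq.mpr (by rw [_root_.mul_inv_rev, inv_mul_cancel_right]; exact inv_mem ⟨_, rfl⟩)
    refine ⟨hact, phi_injective hω ?_⟩
    rw [hnum]
    show (D.s (phi hω (elts k) • e i))⁻¹ * (phi hω (elts k) * D.s (e i)) = _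
    rw [hact]
    show (repQ hω (e.symm (e (jv k i))))⁻¹ * (phi hω (elts k) * repQ hω (e.symm (e i))) = _
    rw [e.symm_apply_apply, e.symm_apply_apply, hq, inv_mul_cancel_left]
  have hval : ∀ p q : Fin 4, um (elts p) (elts q) = um (elts q) (elts p) →
      phi hω (elts p) * phi hω (elts q) = phi hω (elts q) * phi hω (elts p) ∧
      cor D (phi hω (elts p)) (phi hω (elts q)) - cor D (phi hω (elts q)) (phi hω (elts p)) =
        ((corSum false p q : ZMod 4), (corSum true p q : ZMod 4)) := by
    intro p q hpq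
    refine ⟨by rw [phi_mul, phi_mul, hpq], ?_⟩
    have key : ∀ k, (corSum k p q : ZMod 4) =
        ∑ i : Fin 315, ((fc k (bv p (jv q i)) (bv q i) : ZMod 4) - (fc k (bv q (jv p i)) (bv p i) : ZMod 4)) := by
      intro k
      rw [corSum, ZMod.natCast_mod, Nat.cast_list_sum, List.map_map, Fin.sum_univ_def]
      congr 1
      refine List.map_congr_left fun i _ => ?_
      have hlt : fc k (bv q (jv p i)) (bv p i) ≤ fc k (bv p (jv q i)) (bv q i) + 4 := by
        have : fc k (bv q (jv p i)) (bv p i) < 4 := Nat.mod_lt _ (by norm_num)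
        omega
      simp only [Function.comp_apply]
      rw [Nat.cast_sub hlt, Nat.cast_add, show ((4 : ℕ) : ZMod 4) = 0 from ZMod.natCast_self 4, add_zero]
    rw [cor, cor, ← Finset.sum_sub_distrib, ← Equiv.sum_comp e]
    have hterm : ∀ i, D.f (beta D (phi hω (elts p)) (phi hω (elts q) • e i)) (beta D (phi hω (elts q)) (e i)) -
        D.f (beta D (phi hω (elts q)) (phi hω (elts p) • e i)) (beta D (phi hω (elts p)) (e i)) =
        (((fc false (bv p (jv q i)) (bv q i) : ZMod 4) - (fc false (bv q (jv p i)) (bv p i) : ZMod 4)),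
          ((fc true (bv p (jv q i)) (bv q i) : ZMod 4) - (fc true (bv q (jv p i)) (bv p i) : ZMod 4))) := by
      intro i
      rw [(hbeta q i).1, (hbeta p i).1]
      show ((fc false (num _) (num _) : ZMod 4), (fc true (num _) (num _) : ZMod 4)) -
        ((fc false (num _) (num _) : ZMod 4), (fc true (num _) (num _) : ZMod 4)) = _
      rw [(hbeta p (jv q i)).2, (hbeta q i).2, (hbeta q (jv p i)).2, (hbeta p i).2]
      rfl
    rw [Finset.sum_congr rfl fun i _ => hterm i]
    exact Prod.ext (by rw [Prod.fst_sum]; exact (key false).symm) (by rw [Prod.snd_sum]; exact (key true).symm)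
  obtain ⟨v1, v2, v3, v4⟩ := sum_values
  obtain ⟨hc1, e1⟩ := hval 0 1 elts_comm.1
  obtain ⟨hc2, e2⟩ := hval 2 3 elts_comm.2
  rw [v1, v2] at e1
  rw [v3, v4] at e2
  let π := Cfsg.Lib.Schur.Corestriction.proj D
  refine ⟨Ext D, inferInstance, inferInstance, π, ⟨fun g => ⟨⟨0, g⟩, rfl⟩,
    Cfsg.Lib.Schur.Corestriction.ker_le_center D, fun w hw => ?_⟩, ?_⟩
  · have hmem : ∀ g k : G, g * k = k * g → (Ext.mk (D := D) (cor D g k - cor D k g) 1) ∈ commutator (Ext D) := by
      intro g k hgk
      rw [← Cfsg.Lib.Schur.Corestriction.commutator_lifts D hgk]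
      exact Subgroup.commutator_mem_commutator (Subgroup.mem_top _) (Subgroup.mem_top _)
    have hA := hmem _ _ hc1
    have hB := hmem _ _ hc2
    rw [e1] at hA
    rw [e2] at hB
    have hw' : w.g = 1 := hw
    let kE := Cfsg.Lib.Schur.Corestriction.kerEquiv D
    let J : Subgroup (Multiplicative (ZMod 4 × ZMod 4)) :=
      (commutator (Ext D)).comap ((π.ker.subtype).comp kE.toMonoidHom)
    have hall : ∀ z : ZMod 4 × ZMod 4, Multiplicative.ofAdd z ∈ J := by
      intro z
      have hA' : Multiplicative.ofAdd (((0 : ℕ) : ZMod 4), ((3 : ℕ) : ZMod 4)) ∈ J := hA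
      have hB' : Multiplicative.ofAdd (((3 : ℕ) : ZMod 4), ((0 : ℕ) : ZMod 4)) ∈ J := hB
      have dec : ∀ y : ZMod 4 × ZMod 4, ∃ m n : Fin 4, m.val • (((0 : ℕ) : ZMod 4), ((3 : ℕ) : ZMod 4)) +
          n.val • (((3 : ℕ) : ZMod 4), ((0 : ℕ) : ZMod 4)) = y := by decide +kernel
      obtain ⟨m, n, rfl⟩ := dec z
      rw [ofAdd_add, ofAdd_nsmul, ofAdd_nsmul]
      exact mul_mem (pow_mem hA' _) (pow_mem hB' _)
    have h := hall w.z
    rwa [show w = Ext.mk (D := D) w.z 1 from
      Cfsg.Lib.Schur.Corestriction.Ext.ext rfl hw']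
  · rw [← Nat.card_congr (Cfsg.Lib.Schur.Corestriction.kerEquiv D).toEquiv,
      Nat.card_congr Multiplicative.toAdd, Nat.card_prod, Nat.card_zmod]

include hω in
theorem multiplier (hF : Fintype.card F = 4) :
    Cfsg.HasSchurMultiplier (ProjectiveSpecialLinearGroup (Fin 3) F)
      (Multiplicative (ZMod 3 × ZMod 4 × ZMod 4)) := by
  classical
  refine ⟨?_, fun Γ _ _ σ hσ => kernel_image hω hF hσ⟩
  obtain ⟨Γ, _, _, σ, hσ, hcard⟩ := exists_two_cover hω hF
  let p : SpecialLinearGroup (Fin 3) F →* ProjectiveSpecialLinearGroup (Fin 3) F :=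
    QuotientGroup.mk' (Subgroup.center (SpecialLinearGroup (Fin 3) F))
  have hk : p.ker = Subgroup.center (SpecialLinearGroup (Fin 3) F) := QuotientGroup.ker_mk' _
  have hperf : commutator (SpecialLinearGroup (Fin 3) F) = ⊤ :=
    Cfsg.Lib.Classical.SL_commutator_eq_top (by rw [Fintype.card_fin])
  have hp : Cfsg.IsStemExtension p := ⟨QuotientGroup.mk'_surjective _, hk.le, hperf ▸ le_top⟩
  have hp3 : Nat.card p.ker = 3 := by
    rw [hk, Cfsg.Lib.Classical.card_center_SL, Nat.card_eq_fintype_card (α := F), hF, Fintype.card_fin]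
    rfl
  obtain ⟨Δ, π, -, hst, -, h48⟩ := exists_fibre_stem σ p hσ hp (by rw [hcard, hp3]; norm_num)
  refine ⟨↥Δ, inferInstance, inferInstance, σ.comp π, hst, ?_⟩
  obtain ⟨f, hf⟩ := kernel_image hω hF hst
  have hb : Function.Bijective f := (Nat.bijective_iff_surjective_and_card f).mpr ⟨hf, by
    rw [h48, hcard, hp3, Nat.card_congr Multiplicative.toAdd, Nat.card_prod, Nat.card_prod, Nat.card_zmod,
      Nat.card_zmod]⟩
  exact ⟨(MulEquiv.ofBijective f hb).symm⟩

end Cfsg.Lib.Schur.LThreeFour.Cover
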