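import Cfsg.Agent.Schur.Criteria

set_option autoImplicit false

namespace Cfsg.Lib.Schur

open scoped commutatorElement

variable (M n : ℕ) (u : (ZMod M)ˣ) (t : ℤ)

/-- Multiplication by a unit, as an automorphism of `Multiplicative (ZMod M)`. -/
def mulUnitAut : MulAut (Multiplicative (ZMod M)) where
  toFun x := Multiplicative.ofAdd ((u : ZMod M) * x.toAdd)
  invFun x := Multiplicative.ofAdd (((u⁻¹ : (ZMod M)ˣ) : ZMod M) * x.toAdd)
  left_inv x := by simp
  right_inv x := by simp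
  map_mul' x y := by simp [mul_add]

/-- The split metacyclic group covering the model. -/
abbrev MetaPre : Type :=
  Multiplicative (ZMod M) ⋊[(zpowersHom (MulAut (Multiplicative (ZMod M))) (mulUnitAut M u))]
    Multiplicative ℤ

def metaRel : MetaPre M u :=
  ⟨Multiplicative.ofAdd (-(t : ZMod M)), Multiplicative.ofAdd (n : ℤ)⟩

theorem mulUnitAut_pow (j : ℕ) (x : Multiplicative (ZMod M)) :
    (mulUnitAut M u ^ j) x = Multiplicative.ofAdd ((u : ZMod M) ^ j * x.toAdd) := by
  induction j generalizing x with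
  | zero => simp
  | succ j ih =>
    rw [pow_succ, MulAut.mul_apply, ih, pow_succ]
    simp [mulUnitAut, mul_assoc]

variable {M n u t}

theorem metaRel_center (hu : u ^ n = 1) (ht : (u : ZMod M) * (t : ZMod M) = (t : ZMod M)) :
    metaRel M n u t ∈ Subgroup.center (MetaPre M u) := by
  have hn : mulUnitAut M u ^ n = 1 := by
    refine MulEquiv.ext fun x => ?_
    rw [mulUnitAut_pow, ← Units.val_pow_eq_pow_val, hu]; simp
  have hfix : mulUnitAut M u (Multiplicative.ofAdd (-(t : ZMod M))) =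
      Multiplicative.ofAdd (-(t : ZMod M)) := by
    simp [mulUnitAut, ht]
  have hfix' : ∀ j : ℤ, (mulUnitAut M u ^ j) (Multiplicative.ofAdd (-(t : ZMod M))) =
      Multiplicative.ofAdd (-(t : ZMod M)) := by
    intro j
    induction j using Int.induction_on with
    | zero => simp
    | succ j ih => rw [zpow_add_one, MulAut.mul_apply, hfix, ih]
    | pred j ih =>
      rw [zpow_sub_one, MulAut.mul_apply,
        show (mulUnitAut M u)⁻¹ (Multiplicative.ofAdd (-(t : ZMod M))) =
          Multiplicative.ofAdd (-(t : ZMod M)) from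
        (MulEquiv.symm_apply_eq _).mpr hfix.symm, ih]
  rw [Subgroup.mem_center_iff]
  rintro ⟨x, j⟩
  ext1
  · simp only [SemidirectProduct.mul_left, metaRel, zpowersHom_apply]
    rw [hfix']
    simp [hn, mul_comm]
  · exact mul_comm _ _

variable (M n u t)

/-- The metacyclic group `⟨a, b | a^M = 1, b a b⁻¹ = a^u, b^n = a^t⟩`. -/
abbrev MetaGrp : Type := MetaPre M u ⧸ Subgroup.normalClosure {metaRel M n u t}

def mA : MetaGrp M n u t :=
  QuotientGroup.mk' _ (SemidirectProduct.inl (Multiplicative.ofAdd 1))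

def mB : MetaGrp M n u t :=
  QuotientGroup.mk' _ (SemidirectProduct.inr (Multiplicative.ofAdd 1))

theorem inl_zpow (i : ℤ) :
    (SemidirectProduct.inl (Multiplicative.ofAdd (1 : ZMod M)) : MetaPre M u) ^ i =
      SemidirectProduct.inl (Multiplicative.ofAdd (i : ZMod M)) := by
  rw [← map_zpow, ← ofAdd_zsmul, zsmul_one]

theorem inr_zpow (i : ℤ) :
    (SemidirectProduct.inr (Multiplicative.ofAdd (1 : ℤ)) : MetaPre M u) ^ i =
      SemidirectProduct.inr (Multiplicative.ofAdd i) := by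
  rw [← map_zpow, ← ofAdd_zsmul, zsmul_one, Int.cast_id]

variable {M n u t}

theorem mem_normalClosure_metaRel (hu : u ^ n = 1)
    (ht : (u : ZMod M) * (t : ZMod M) = (t : ZMod M)) {x : MetaPre M u}
    (hx : x ∈ Subgroup.normalClosure {metaRel M n u t}) :
    x ∈ Subgroup.zpowers (metaRel M n u t) := by
  have := normal_of_le_center ((Subgroup.zpowers_le).mpr (metaRel_center hu ht))
  exact Subgroup.normalClosure_le_normal
    (Set.singleton_subset_iff.mpr (Subgroup.mem_zpowers _)) hx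

theorem mA_pow : mA M n u t ^ M = 1 := by
  rw [mA, ← map_pow, ← map_pow, ← ofAdd_nsmul]
  simp

theorem mB_mA : mB M n u t * mA M n u t * (mB M n u t)⁻¹ =
    QuotientGroup.mk' _ (SemidirectProduct.inl (Multiplicative.ofAdd (u : ZMod M))) := by
  rw [mA, mB, ← map_inv, ← map_mul, ← map_mul, ← map_inv, ← SemidirectProduct.inl_aut]
  simp [mulUnitAut]
  rfl

theorem mA_zpow (i : ℤ) : mA M n u t ^ i =
    QuotientGroup.mk' _ (SemidirectProduct.inl (Multiplicative.ofAdd (i : ZMod M))) := by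
  rw [mA, ← map_zpow, inl_zpow]

theorem mB_pow : mB M n u t ^ n = mA M n u t ^ t := by
  have h : QuotientGroup.mk' (Subgroup.normalClosure {metaRel M n u t}) (metaRel M n u t) = 1 :=
    (QuotientGroup.eq_one_iff _).mpr (Subgroup.subset_normalClosure rfl)
  have e : SemidirectProduct.inr (Multiplicative.ofAdd (n : ℤ)) =
      SemidirectProduct.inl (Multiplicative.ofAdd (t : ZMod M)) * metaRel M n u t := by
    ext1 <;> simp [metaRel]
  rw [mA_zpow, mB, ← map_pow, ← zpow_natCast, inr_zpow, e, map_mul, h, mul_one]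

theorem mA_mB_sep (hu : u ^ n = 1) (ht : (u : ZMod M) * (t : ZMod M) = (t : ZMod M))
    (i : ℤ) (j : ℕ) (hj : j < n) (h : mA M n u t ^ i * mB M n u t ^ j = 1) :
    (M : ℤ) ∣ i ∧ j = 0 := by
  rw [mA_zpow, mB, ← map_pow, ← map_mul, ← zpow_natCast, inr_zpow, QuotientGroup.mk'_apply,
    QuotientGroup.eq_one_iff] at h
  obtain ⟨l, hl⟩ := Subgroup.mem_zpowers_iff.mp (mem_normalClosure_metaRel hu ht h)
  have h2 := congrArg SemidirectProduct.rightHom hl
  rw [map_zpow, map_mul, SemidirectProduct.rightHom_inl, SemidirectProduct.rightHom_inr, one_mul,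
    show SemidirectProduct.rightHom (metaRel M n u t) = Multiplicative.ofAdd (n : ℤ) from rfl,
    ← ofAdd_zsmul, smul_eq_mul] at h2
  replace h2 : l * (n : ℤ) = (j : ℤ) := Multiplicative.ofAdd.injective h2
  have hl0 : l = 0 := by
    by_contra hne
    have : (n : ℤ) ≤ |l| * n := le_mul_of_one_le_left (by positivity) (Int.one_le_abs hne)
    have h3 : |l| * (n : ℤ) = (j : ℤ) := by
      rw [← abs_of_nonneg (Int.natCast_nonneg n), ← abs_mul, h2]
      exact abs_of_nonneg (Int.natCast_nonneg j)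
    omega
  subst hl0
  rw [zpow_zero] at hl
  have h1 := congrArg SemidirectProduct.left hl
  simp at h1
  refine ⟨(ZMod.intCast_zmod_eq_zero_iff_dvd i M).mp (by simpa using h1.symm), ?_⟩
  simpa using h2.symm

theorem exists_rep (hn : 0 < n) (g : MetaGrp M n u t) :
    ∃ (i : ℤ) (j : ℕ), j < n ∧ g = mA M n u t ^ i * mB M n u t ^ j := by
  obtain ⟨x, rfl⟩ := QuotientGroup.mk'_surjective _ g
  obtain ⟨a, b⟩ := x
  obtain ⟨a', ha⟩ := ZMod.intCast_surjective a.toAdd
  have h : QuotientGroup.mk' (Subgroup.normalClosure {metaRel M n u t}) (⟨a, b⟩ : MetaPre M u) =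
      mA M n u t ^ a' * mB M n u t ^ b.toAdd := by
    rw [mA_zpow, mB, ← map_zpow, inr_zpow, ← map_mul, ha, ofAdd_toAdd, ofAdd_toAdd,
      ← SemidirectProduct.mk_eq_inl_mul_inr]
  refine ⟨a' + t * (b.toAdd / n), (b.toAdd % n).toNat, ?_, ?_⟩
  · have := Int.emod_lt_of_pos b.toAdd (by exact_mod_cast hn : (0 : ℤ) < n)
    omega
  · rw [h, zpow_add, mul_assoc, ← zpow_natCast (mB M n u t) (b.toAdd % n).toNat,
      Int.toNat_of_nonneg (Int.emod_nonneg _ (by omega)), zpow_mul, ← mB_pow,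
      ← zpow_natCast (mB M n u t) n, ← zpow_mul, ← zpow_add, Int.mul_ediv_add_emod]

theorem closure_mA_mB (hn : 0 < n) :
    Subgroup.closure ({mA M n u t, mB M n u t} : Set (MetaGrp M n u t)) = ⊤ := by
  refine eq_top_iff.mpr fun g _ => ?_
  obtain ⟨i, j, -, rfl⟩ := exists_rep hn g
  have h1 : mA M n u t ∈ Subgroup.closure ({mA M n u t, mB M n u t} : Set (MetaGrp M n u t)) :=
    Subgroup.subset_closure (Set.mem_insert _ _)
  have h2 : mB M n u t ∈ Subgroup.closure ({mA M n u t, mB M n u t} : Set (MetaGrp M n u t)) :=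
    Subgroup.subset_closure (Set.mem_insert_of_mem _ rfl)
  exact Subgroup.mul_mem _ (Subgroup.zpow_mem _ h1 i) (Subgroup.pow_mem _ h2 j)

theorem finite_metaGrp [NeZero M] (hn : 0 < n) : Finite (MetaGrp M n u t) := by
  refine Finite.of_surjective (fun p : ZMod M × Fin n =>
    mA M n u t ^ (p.1.val : ℤ) * mB M n u t ^ (p.2 : ℕ)) fun g => ?_
  obtain ⟨i, j, hj, rfl⟩ := exists_rep hn g
  refine ⟨((i : ZMod M), ⟨j, hj⟩), ?_⟩
  simp only
  congr 1
  rw [mA_zpow, mA_zpow]
  simp

theorem compat_zpow {N G : Type*} [Group N] [Group G] (f : N →* G) (b : G) (φ : MulAut N)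
    (key : f.comp φ.toMonoidHom = (MulAut.conj b).toMonoidHom.comp f) (j : Multiplicative ℤ) :
    f.comp ((zpowersHom (MulAut N) φ) j).toMonoidHom =
      (MulAut.conj (zpowersHom G b j)).toMonoidHom.comp f := by
  have k1 : ∀ y, f (φ y) = b * f y * b⁻¹ := fun y => DFunLike.congr_fun key y
  obtain ⟨j, rfl⟩ := Multiplicative.ofAdd.surjective j
  refine MonoidHom.ext fun x => ?_
  show f ((φ ^ j) x) = b ^ j * f x * (b ^ j)⁻¹
  induction j using Int.induction_on generalizing x with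
  | zero => simp
  | succ j ih =>
    rw [zpow_add_one, MulAut.mul_apply, ih, k1, zpow_add_one]
    group
  | pred j ih =>
    rw [zpow_sub_one, MulAut.mul_apply, ih]
    have h := k1 (φ⁻¹ x)
    rw [MulAut.apply_inv_self] at h
    rw [h, zpow_sub_one]
    group

set_option maxHeartbeats 1600000 in
/-- Universal property of the metacyclic model. -/
theorem exists_metaGrp_hom {G : Type*} [Group G] (a b : G) (ha : a ^ M = 1)
    (r : ℤ) (hr : (r : ZMod M) = (u : ZMod M)) (hab : b * a * b⁻¹ = a ^ r)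
    (hb : b ^ n = a ^ t) :
    ∃ f : MetaGrp M n u t →* G, f (mA M n u t) = a ∧ f (mB M n u t) = b := by
  let fA : Multiplicative (ZMod M) →* G :=
    AddMonoidHom.toMultiplicativeLeft (ZMod.lift M ⟨zmultiplesHom _ (Additive.ofMul a), by
      simp [← ofMul_pow, ha]⟩)
  have fA_apply : ∀ i : ℤ, fA (Multiplicative.ofAdd (i : ZMod M)) = a ^ i := fun i => by
    simp [fA, ← ofMul_zpow]
  have fA_one : fA (Multiplicative.ofAdd 1) = a := by simpa using fA_apply 1
  have key : fA.comp (mulUnitAut M u).toMonoidHom = (MulAut.conj b).toMonoidHom.comp fA := by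
    refine MonoidHom.ext fun x => ?_
    obtain ⟨i, hi⟩ := ZMod.intCast_surjective x.toAdd
    have hx : x = Multiplicative.ofAdd (i : ZMod M) := by rw [hi]; rfl
    subst hx
    simp only [MonoidHom.comp_apply, MulEquiv.coe_toMonoidHom, fA_apply, MulAut.conj_apply,
      ← conj_zpow, hab, ← zpow_mul]
    rw [show mulUnitAut M u (Multiplicative.ofAdd (i : ZMod M)) =
      Multiplicative.ofAdd ((r * i : ℤ) : ZMod M) by simp [mulUnitAut, hr], fA_apply]
  let f : MetaPre M u →* G :=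
    SemidirectProduct.lift fA (zpowersHom G b) (compat_zpow fA b (mulUnitAut M u) key)
  have hle : Subgroup.normalClosure {metaRel M n u t} ≤ f.ker := by
    refine Subgroup.normalClosure_le_normal (Set.singleton_subset_iff.mpr ?_)
    rw [SetLike.mem_coe, MonoidHom.mem_ker, metaRel, SemidirectProduct.mk_eq_inl_mul_inr, map_mul,
      SemidirectProduct.lift_inl, SemidirectProduct.lift_inr, ← Int.cast_neg, fA_apply,
      zpowersHom_apply, toAdd_ofAdd, zpow_natCast, hb, ← zpow_add, neg_add_cancel, zpow_zero]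
  refine ⟨QuotientGroup.lift _ f hle, ?_, ?_⟩
  · show f (SemidirectProduct.inl (Multiplicative.ofAdd 1)) = a
    simp only [f, SemidirectProduct.lift_inl, fA_one]
  · show f (SemidirectProduct.inr (Multiplicative.ofAdd 1)) = b
    simp [f]

end Cfsg.Lib.Schur

namespace Cfsg.Lib.Schur

open scoped commutatorElement

/-- The multiplier of a metacyclic group, given a lift `r'` of the twisting parameter. -/
theorem metacyclic_multiplier {Q : Type} [Group Q] [Finite Q] (a b : Q) (m n k g d : ℕ) (r r' : ℤ)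
    (t : ℕ) (hm0 : 0 < m) (hd0 : 0 < d) (hn0 : 0 < n)
    (hgen : Subgroup.closure ({a, b} : Set Q) = ⊤) (hm : a ^ m = 1) (hb : b * a * b⁻¹ = a ^ r)
    (hn : b ^ n = a ^ t)
    (hsep : ∀ (i : ℤ) (j : ℕ), j < n → a ^ i * b ^ j = 1 → (m : ℤ) ∣ i ∧ j = 0)
    (hrr : (m : ℤ) ∣ r' - r) (hpow : ((m * d : ℕ) : ℤ) ∣ r' ^ n - 1)
    (hfix : ((m * d : ℕ) : ℤ) ∣ (r' - 1) * t) (hdr : (d : ℤ) ∣ r' - 1)
    (hg : ∃ x : ℤ, ((m * d : ℕ) : ℤ) ∣ (r' - 1) * x - g) (hgm : g ∣ m)
    (hk : ∀ i : ℤ, (m : ℤ) ∣ (r - 1) * i → (k : ℤ) ∣ i)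
    (hd : Nat.gcd m (Nat.gcd (∑ i ∈ Finset.range n, r ^ i).natAbs t) ∣ k * d) :
    Cfsg.HasCyclicSchurMultiplier Q d := by
  have : NeZero (m * d) := ⟨by positivity⟩
  have hu : (r' : ZMod (m * d)) ^ n = 1 := by
    have h := (ZMod.intCast_zmod_eq_zero_iff_dvd _ _).mpr hpow
    push_cast at h
    exact sub_eq_zero.mp h
  let u : (ZMod (m * d))ˣ := Units.ofPowEqOne _ n hu hn0.ne'
  have huval : ((r' : ℤ) : ZMod (m * d)) = (u : ZMod (m * d)) := rfl
  have hun : u ^ n = 1 := Units.ext (by rw [Units.val_pow_eq_pow_val]; exact hu)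
  have hfix' : (u : ZMod (m * d)) * ((t : ℤ) : ZMod (m * d)) = ((t : ℤ) : ZMod (m * d)) := by
    have h := (ZMod.intCast_zmod_eq_zero_iff_dvd _ _).mpr hfix
    rw [← huval]
    push_cast at h ⊢
    linear_combination h
  set Γ := MetaGrp (m * d) n u (t : ℤ)
  have : Finite Γ := finite_metaGrp hn0
  have hab' : b * a * b⁻¹ = a ^ r' := by
    rw [hb]
    obtain ⟨c, hc⟩ := hrr
    rw [show r' = r + (m : ℤ) * c by rw [← hc]; ring, zpow_add, zpow_mul, zpow_natCast, hm, one_zpow,
      mul_one]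
  have hmd : a ^ (m * d) = 1 := by rw [pow_mul, hm, one_pow]
  obtain ⟨σ, hσA, hσB⟩ := exists_metaGrp_hom (M := m * d) (n := n) (u := u) (t := (t : ℤ)) a b hmd r'
    huval hab' (by rw [hn, zpow_natCast])
  set A := mA (m * d) n u (t : ℤ)
  set B := mB (m * d) n u (t : ℤ)
  have hsurj : Function.Surjective σ := by
    rw [← MonoidHom.range_eq_top, eq_top_iff, ← hgen, Subgroup.closure_le]
    rintro x (rfl | rfl)
    exacts [⟨A, hσA⟩, ⟨B, hσB⟩]
  have hconjA : B * A * B⁻¹ = A ^ r' := by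
    rw [mB_mA, mA_zpow]; rfl
  have hA : A ^ (m * d) = 1 := mA_pow
  have hker : σ.ker = Subgroup.zpowers (A ^ m) := by
    refine le_antisymm (fun x hx => ?_) ((Subgroup.zpowers_le).mpr ?_)
    · obtain ⟨i, j, hj, rfl⟩ := exists_rep hn0 x
      rw [MonoidHom.mem_ker, map_mul, map_zpow, map_pow, hσA, hσB] at hx
      obtain ⟨⟨c, rfl⟩, rfl⟩ := hsep i j hj hx
      rw [pow_zero, mul_one, zpow_mul, zpow_natCast]
      exact zpow_mem (Subgroup.mem_zpowers _) c
    · rw [MonoidHom.mem_ker, map_pow, hσA, hm]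
  have hAz : ∀ z : ℤ, A ^ z = 1 ↔ ((m * d : ℕ) : ℤ) ∣ z := by
    intro z
    refine ⟨fun h => (mA_mB_sep hun hfix' z 0 hn0 (by rw [pow_zero, mul_one]; exact h)).1, ?_⟩
    rintro ⟨c, rfl⟩
    rw [zpow_mul, zpow_natCast, hA, one_zpow]
  have hcen : A ^ m ∈ Subgroup.center Γ := by
    rw [← Subgroup.centralizer_univ, ← Subgroup.coe_top, ← closure_mA_mB hn0,
      Subgroup.centralizer_closure]
    rintro x (rfl | rfl)
    · exact ((Commute.refl A).pow_right m).eq
    · show B * A ^ m = A ^ m * B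
      rw [← mul_inv_eq_iff_eq_mul, ← conj_pow, hconjA, ← zpow_natCast, ← zpow_mul,
        ← zpow_natCast A m, ← mul_inv_eq_one, ← zpow_neg, ← zpow_add, hAz]
      rw [show r' * (m : ℤ) + -(m : ℤ) = (m : ℤ) * (r' - 1) by ring]
      push_cast
      exact mul_dvd_mul_left _ hdr
  have hcomm : A ^ m ∈ commutator Γ := by
    have h1 : A ^ (r' - 1) ∈ commutator Γ := by
      have : A ^ (r' - 1) = ⁅B, A⁆ := by
        rw [commutatorElement_def, hconjA, zpow_sub_one]
      rw [this]
      exact Subgroup.commutator_mem_commutator (Subgroup.mem_top _) (Subgroup.mem_top _)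
    obtain ⟨x, hx⟩ := hg
    obtain ⟨q, rfl⟩ := hgm
    have : A ^ (g * q) = (A ^ (r' - 1)) ^ (x * q) := by
      rw [← zpow_mul, ← zpow_natCast, ← mul_inv_eq_one, ← zpow_neg, ← zpow_add, hAz]
      refine (dvd_mul_of_dvd_left hx (-(q : ℤ))).trans (dvd_of_eq ?_)
      push_cast
      ring
    rw [this]
    exact zpow_mem h1 _
  have hord : orderOf (A ^ m) = d := by
    have : orderOf A = m * d := by
      refine Nat.dvd_antisymm (orderOf_dvd_of_pow_eq_one hA) ?_
      exact Int.natCast_dvd_natCast.mp ((hAz _).mp (by rw [zpow_natCast, pow_orderOf_eq_one]))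
    rw [orderOf_pow' A hm0.ne', this, Nat.gcd_mul_right_left, Nat.mul_div_cancel_left d hm0]
  refine hasCyclicSchurMultiplier_of d ⟨Γ, inferInstance, inferInstance, σ,
    ⟨hsurj, by rw [hker]; exact Subgroup.zpowers_le.mpr hcen,
      by rw [hker]; exact Subgroup.zpowers_le.mpr hcomm⟩, ?_, ?_⟩ fun Δ _ _ τ hτ => ?_
  · rw [hker]; infer_instance
  · rw [hker, Nat.card_zpowers, hord]
  · refine metacyclic_bound a b r m n t k d hn0 hgen hm hb hn (fun i hi => hk i ?_) hd hτ
    exact (hsep _ 0 hn0 (by rw [pow_zero, mul_one]; exact hi)).1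

end Cfsg.Lib.Schur
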