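import Cfsg.Agent.Schur.Projective

set_option autoImplicit false

namespace Cfsg.Lib.Schur

open scoped commutatorElement

universe u v

/-- A quotient of a finite abelian group is isomorphic to a subgroup. -/
theorem exists_embed_of_surjective {X : Type u} {Y : Type v} [CommGroup X] [CommGroup Y] [Finite X]
    (f : X →* Y) (hf : Function.Surjective f) : ∃ g : Y →* X, Function.Injective g := by
  have : Finite Y := Finite.of_surjective f hf
  obtain ⟨eX⟩ := CommGroup.monoidHom_mulEquiv_of_hasEnoughRootsOfUnity X ℂ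
  obtain ⟨eY⟩ := CommGroup.monoidHom_mulEquiv_of_hasEnoughRootsOfUnity Y ℂ
  let c : (Y →* ℂˣ) →* (X →* ℂˣ) :=
    MonoidHom.mk' (fun χ => χ.comp f) fun a b => MonoidHom.ext fun x => rfl
  exact ⟨(eX.toMonoidHom.comp c).comp eY.symm.toMonoidHom,
    eX.injective.comp (Function.Injective.comp (fun a b h => (MonoidHom.cancel_right hf).mp h)
      eY.symm.injective)⟩

variable {G : Type u} [Group G] (U : Subgroup G)

/-- Left translation of functions on cosets, as automorphisms. -/
def cosetAut (N : Type v) [Group N] : G →* MulAut (G ⧸ U → N) :=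
  MonoidHom.mk'
    (fun g =>
      { toFun := fun f t => f (g⁻¹ • t)
        invFun := fun f t => f (g • t)
        left_inv := fun f => funext fun t => congrArg f (inv_smul_smul g t)
        right_inv := fun f => funext fun t => congrArg f (smul_inv_smul g t)
        map_mul' := fun a b => rfl })
    fun g h => MulEquiv.ext fun f => funext fun t => congrArg f (by rw [mul_inv_rev, mul_smul])

@[simp] theorem cosetAut_apply {N : Type v} [Group N] (g : G) (f : G ⧸ U → N) (t : G ⧸ U) :
    cosetAut U N g f t = f (g⁻¹ • t) := rfl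

theorem step_mem (g : G) (t : G ⧸ U) : t.out⁻¹ * g * (g⁻¹ • t).out ∈ U := by
  rw [mul_assoc, ← QuotientGroup.eq]
  show (t.out : G ⧸ U) = g • ((g⁻¹ • t).out : G ⧸ U)
  rw [QuotientGroup.out_eq', QuotientGroup.out_eq', smul_inv_smul]

variable [Finite G]

/-- Corestriction and restriction between the multipliers of a subgroup and of the group. -/
theorem exists_cor_res :
    ∃ (cor : M (canon U) →* M (canon G)) (res : M (canon G) →* M (canon U)),
      ∀ x, cor (res x) = x ^ U.index := by
  classical
  have := Fintype.ofFinite (G ⧸ U)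
  let π := canon G
  let EU := E (canon U)
  let pU : EU →* U := proj (canon U)
  have hpU : Function.Surjective pU := proj_surjective _ (canon_surjective U)
  choose sec hsec using proj_surjective π (canon_surjective G)
  choose secU hsecU using hpU
  -- a lift of the inclusion of `U`
  let EU' : Subgroup (E π) := U.comap (proj π)
  let σU : EU' →* U := ((proj π).comp EU'.subtype).codRestrict U fun x => x.2
  have hσs : Function.Surjective σU := fun u => ⟨⟨sec u, by
    show proj π (sec u) ∈ U
    rw [hsec]; exact u.2⟩, Subtype.ext (hsec u)⟩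
  have hσc : σU.ker ≤ Subgroup.center EU' := fun x hx => by
    rw [Subgroup.mem_center_iff]
    exact fun y => Subtype.ext (Subgroup.mem_center_iff.mp
      (ker_proj_le_center π (show proj π x.1 = 1 from congrArg Subtype.val hx)) y.1)
  obtain ⟨ψ₀, hψ₀⟩ := exists_lift (canon U) σU hσs hσc
  let ψ : EU →* E π := EU'.subtype.comp ψ₀
  have hψ : ∀ x, proj π (ψ x) = (pU x : G) := fun x =>
    congrArg Subtype.val (DFunLike.congr_fun hψ₀ x)
  have hψM : ∀ m : M (canon U), ψ m ∈ M π := fun m => by
    refine ⟨?_, ?_⟩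
    · show proj π (ψ m) = 1
      rw [hψ, show pU m = 1 from m.2.1]; rfl
    · have h : (commutator EU).map ψ ≤ commutator (E π) := by
        rw [commutator_def, commutator_def, Subgroup.map_commutator]
        exact Subgroup.commutator_mono le_top le_top
      exact h (Subgroup.mem_map_of_mem _ m.2.2)
  let cor : M (canon U) →* M π := (ψ.comp (M (canon U)).subtype).codRestrict _ hψM
  -- the monomial embedding
  let W := (G ⧸ U → EU) ⋊[cosetAut U EU] G
  let gen : G → W := fun g => ⟨fun t => secU ⟨_, step_mem U g t⟩, g⟩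
  let Φ : FreeGroup G →* W := FreeGroup.lift gen
  have hright : ∀ f, (Φ f).right = π f := fun f =>
    DFunLike.congr_fun (FreeGroup.ext_hom (SemidirectProduct.rightHom.comp Φ) π
      (fun g => by simp [Φ, gen, π])) f
  have hmul : ∀ a b t, (Φ (a * b)).left t = (Φ a).left t * (Φ b).left ((π a)⁻¹ • t) := fun a b t => by
    rw [map_mul, SemidirectProduct.mul_left, hright]
    rfl
  have hone : ∀ t, (Φ 1).left t = 1 := fun t => by rw [map_one]; rfl
  have hinv : ∀ a t, (Φ a⁻¹).left t = ((Φ a).left (π a • t))⁻¹ := fun a t => by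
    have h := hmul a a⁻¹ (π a • t)
    rw [mul_inv_cancel, inv_smul_smul, hone] at h
    exact eq_inv_of_mul_eq_one_right h.symm
  have hleft : ∀ f t, (pU ((Φ f).left t) : G) = t.out⁻¹ * π f * ((π f)⁻¹ • t).out := by
    intro f
    induction f using FreeGroup.induction_on with
    | C1 => intro t; simp [hone]
    | of g =>
      intro t
      have : (Φ (FreeGroup.of g)).left t = secU ⟨_, step_mem U g t⟩ := by simp [Φ, gen]
      rw [this, hsecU]
      simp [π]
    | inv_of g ih =>
      intro t
      rw [hinv, map_inv, Subgroup.coe_inv, ih]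
      simp [mul_assoc]
    | mul a b ha hb =>
      intro t
      rw [hmul, map_mul pU, Subgroup.coe_mul, ha, hb, map_mul π, mul_inv_rev, mul_smul]
      group
  let P0 : Subgroup (FreeGroup G) := (M π).comap (QuotientGroup.mk' (relComm π))
  have hP0ker : ∀ x ∈ P0, π x = 1 := fun x hx => hx.1
  have hP0com : ∀ x ∈ P0, x ∈ commutator (FreeGroup G) := by
    intro x hx
    have h : (QuotientGroup.mk' (relComm π) x) ∈ (ab π).ker := by rw [ker_ab]; exact hx.2
    rw [← ker_ab0]; exact h
  have hcenU : ∀ {x : EU}, pU x = 1 → x ∈ Subgroup.center EU := fun {x} hx =>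
    ker_proj_le_center (canon U) hx
  have hker : ∀ x, π x = 1 → ∀ t, pU ((Φ x).left t) = 1 := by
    intro x hx t
    refine Subtype.ext ?_
    rw [hleft, hx, inv_one, one_smul, mul_one, inv_mul_cancel, Subgroup.coe_one]
  let : CommGroup (proj (canon U)).ker :=
    { (inferInstance : Group (proj (canon U)).ker) with
      mul_comm := mul_comm_of_le_center (ker_proj_le_center (canon U)) }
  let N : π.ker →* (proj (canon U)).ker := MonoidHom.mk'
    (fun x => ∏ t : G ⧸ U, ⟨(Φ x.1).left t, hker x.1 x.2 t⟩) fun a b => by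
      rw [← Finset.prod_mul_distrib]
      refine Finset.prod_congr rfl fun t _ => Subtype.ext ?_
      show (Φ (a.1 * b.1)).left t = (Φ a.1).left t * (Φ b.1).left t
      rw [hmul, show π a.1 = 1 from a.2, inv_one, one_smul]
  -- the abelianised transfer
  let T : FreeGroup G →* Abelianization EU := MonoidHom.mk'
    (fun f => ∏ t : G ⧸ U, Abelianization.of ((Φ f).left t)) fun a b => by
      simp only [hmul, map_mul Abelianization.of, Finset.prod_mul_distrib]
      congr 1
      exact (Equiv.prod_comp (MulAction.toPerm (π a)⁻¹)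
        fun t => Abelianization.of ((Φ b).left t))
  have hNcom : ∀ x : π.ker, x.1 ∈ commutator (FreeGroup G) →
      (N x).1 ∈ commutator EU := by
    intro x hx
    have h : T x.1 = 1 := Abelianization.commutator_subset_ker T hx
    rw [← Abelianization.ker_of, MonoidHom.mem_ker]
    refine Eq.trans ?_ h
    show Abelianization.of (((proj (canon U)).ker.subtype) (∏ t : G ⧸ U, _)) = _
    rw [← MonoidHom.comp_apply, map_prod]
    rfl
  let incl : P0 →* π.ker := Subgroup.inclusion (fun x hx => hP0ker x hx)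
  let toM : P0 →* M (canon U) :=
    (((proj (canon U)).ker.subtype.comp N).comp incl).codRestrict _ fun x =>
        ⟨(N _).2, hNcom _ (hP0com x.1 x.2)⟩
  let q : P0 →* M π :=
    ((QuotientGroup.mk' (relComm π)).comp P0.subtype).codRestrict _ fun x => x.2
  have hq : Function.Surjective q := by
    rintro ⟨y, hy⟩
    obtain ⟨x, rfl⟩ := QuotientGroup.mk'_surjective (relComm π) y
    exact ⟨⟨x, hy⟩, rfl⟩
  have hkill : q.ker ≤ toM.ker := by
    intro x hx
    have hx' : x.1 ∈ relComm π := (QuotientGroup.eq_one_iff _).mp (congrArg Subtype.val hx)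
    have hle : relComm π ≤ N.ker.map π.ker.subtype := by
      rw [Subgroup.commutator_le]
      intro r hr f _
      have hmem : ⁅r, f⁆ ∈ π.ker := relComm_le_ker π
        (Subgroup.commutator_mem_commutator hr (Subgroup.mem_top _))
      refine ⟨⟨_, hmem⟩, ?_, rfl⟩
      show N ⟨_, hmem⟩ = 1
      have e : (⟨_, hmem⟩ : π.ker) = ⟨r, hr⟩ *
          ⟨f * r⁻¹ * f⁻¹, Normal_conj_mem_aux π f r⁻¹ (inv_mem hr)⟩ :=
        Subtype.ext (by simp [commutatorElement_def, mul_assoc])
      rw [e, map_mul, mul_eq_one_iff_eq_inv', ← map_inv]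
      refine ((Equiv.prod_comp (MulAction.toPerm (π f)⁻¹) fun t =>
        (⟨(Φ r⁻¹).left t, hker _ (inv_mem hr) t⟩ : (proj (canon U)).ker)).symm.trans
          (Finset.prod_congr rfl fun t _ => Subtype.ext ?_)).symm
      show (Φ r⁻¹).left ((π f)⁻¹ • t) = (Φ (f * r⁻¹ * f⁻¹)).left t
      have hc := hcenU (hker r⁻¹ (inv_mem hr) ((π f)⁻¹ • t))
      rw [hmul, hmul, hinv f, map_mul π, show π r⁻¹ = 1 from inv_mem hr, mul_one, smul_inv_smul,
        Subgroup.mem_center_iff.mp hc, mul_inv_cancel_right]
    obtain ⟨y, hy, e⟩ := hle hx'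
    refine Subtype.ext ?_
    show (N (incl x)).1 = 1
    rw [show incl x = y from Subtype.ext e.symm, show N y = 1 from hy]
    rfl
  let res : M π →* M (canon U) := q.liftOfSurjective hq ⟨toM, hkill⟩
  refine ⟨cor, res, fun x => ?_⟩
  obtain ⟨x, rfl⟩ := hq x
  rw [show res (q x) = toM x from MonoidHom.liftOfRightInverse_comp_apply _ _ _ _ _]
  refine Subtype.ext ?_
  show ψ ((N _).1) = ((q x).1) ^ U.index
  -- compare with the monomial embedding of `E π`
  let bar := QuotientGroup.mk' (relComm π)
  let S : G ⧸ U → E π := fun t => sec t.out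
  let can : FreeGroup G → (G ⧸ U) → E π := fun f t => (S t)⁻¹ * bar f * S ((π f)⁻¹ • t)
  have hδ : ∀ f t, (ψ ((Φ f).left t))⁻¹ * can f t ∈ (proj π).ker := fun f t => by
    rw [MonoidHom.mem_ker, map_mul, map_inv, hψ, hleft]
    simp only [can, S, bar, map_mul, map_inv, proj_mk, hsec]
    group
  let : CommGroup (proj π).ker :=
    { (inferInstance : Group (proj π).ker) with
      mul_comm := mul_comm_of_le_center (ker_proj_le_center π) }
  let D : FreeGroup G →* (proj π).ker := MonoidHom.mk'
    (fun f => ∏ t : G ⧸ U, ⟨_, hδ f t⟩) fun a b => by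
      have hb := (Equiv.prod_comp (MulAction.toPerm (π a)⁻¹)
        fun t => (⟨_, hδ b t⟩ : (proj π).ker))
      rw [← hb, ← Finset.prod_mul_distrib]
      refine Finset.prod_congr rfl fun t _ => Subtype.ext ?_
      show (ψ ((Φ (a * b)).left t))⁻¹ * can (a * b) t =
        ((ψ ((Φ a).left t))⁻¹ * can a t) *
          ((ψ ((Φ b).left ((π a)⁻¹ • t)))⁻¹ * can b ((π a)⁻¹ • t))
      have hc := Subgroup.mem_center_iff.mp (ker_proj_le_center π (hδ a t))
        ((ψ ((Φ b).left ((π a)⁻¹ • t)))⁻¹)
      rw [← mul_assoc _ _ (can b _), ← hc]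
      simp only [hmul, map_mul ψ, map_mul bar, map_mul π, mul_inv_rev, mul_smul, can]
      group
  have hD : D x.1 = 1 := Abelianization.commutator_subset_ker D (hP0com x.1 x.2)
  have hx1 : π x.1 = 1 := hP0ker x.1 x.2
  have hK : ∀ t, ψ ((Φ x.1).left t) ∈ (proj π).ker := fun t => by
    rw [MonoidHom.mem_ker, hψ, hker x.1 hx1 t, Subgroup.coe_one]
  let ψK : (proj (canon U)).ker →* (proj π).ker :=
    (ψ.comp (proj (canon U)).ker.subtype).codRestrict _ fun z => by
      show proj π (ψ z.1) = 1
      rw [hψ, show pU z.1 = 1 from z.2, Subgroup.coe_one]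
  have hbK : bar x.1 ∈ (proj π).ker := x.2.1
  have key : ψK (∏ t : G ⧸ U, ⟨(Φ x.1).left t, hker x.1 hx1 t⟩) =
      (⟨bar x.1, hbK⟩ : (proj π).ker) ^ U.index := by
    have e : ∀ t, (⟨_, hδ x.1 t⟩ : (proj π).ker) =
        (ψK ⟨(Φ x.1).left t, hker x.1 hx1 t⟩)⁻¹ * ⟨bar x.1, hbK⟩ := fun t => Subtype.ext (by
      show (ψ ((Φ x.1).left t))⁻¹ * ((S t)⁻¹ * bar x.1 * S ((π x.1)⁻¹ • t)) = _
      rw [hx1, inv_one, one_smul, mul_assoc (S t)⁻¹, ← Subgroup.mem_center_iff.mp
        (ker_proj_le_center π hbK) (S t), inv_mul_cancel_left]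
      rfl)
    have h2 : (∏ t : G ⧸ U, (ψK ⟨(Φ x.1).left t, hker x.1 hx1 t⟩)⁻¹ * ⟨bar x.1, hbK⟩) = 1 := by
      rw [← hD]
      exact (Finset.prod_congr rfl fun t _ => (e t).symm)
    rw [Finset.prod_mul_distrib, Finset.prod_inv_distrib, inv_mul_eq_one, Finset.prod_const,
      ← map_prod] at h2
    rw [h2, Finset.card_univ, ← Nat.card_eq_fintype_card]
    rfl
  exact congrArg Subtype.val key
where
  Normal_conj_mem_aux {G : Type u} [Group G] (π : FreeGroup G →* G) (f r : FreeGroup G)
      (hr : r ∈ π.ker) : f * r * f⁻¹ ∈ π.ker :=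
    (MonoidHom.normal_ker π).conj_mem r hr f

end Cfsg.Lib.Schur
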