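import Cfsg.Agent.Schur.Projective

set_option autoImplicit false

namespace Cfsg.Lib.Schur

open scoped commutatorElement TensorProduct

universe u v w

/-- A bilinear twist of a product of three groups. -/
@[ext] structure Twist {G₁ G₂ T : Type*} [Group G₁] [Group G₂] [CommGroup T]
    (β : G₁ →* G₂ →* T) where
  fst : G₁
  snd : G₂
  val : T

section Twist

variable {G₁ G₂ T : Type*} [Group G₁] [Group G₂] [CommGroup T] {β : G₁ →* G₂ →* T}

instance : Mul (Twist β) := ⟨fun a b => ⟨a.fst * b.fst, a.snd * b.snd, a.val * b.val * β a.fst b.snd⟩⟩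
instance : One (Twist β) := ⟨⟨1, 1, 1⟩⟩
instance : Inv (Twist β) := ⟨fun a => ⟨a.fst⁻¹, a.snd⁻¹, a.val⁻¹ * β a.fst a.snd⟩⟩

@[simp] theorem Twist.mul_fst (a b : Twist β) : (a * b).fst = a.fst * b.fst := rfl
@[simp] theorem Twist.mul_snd (a b : Twist β) : (a * b).snd = a.snd * b.snd := rfl
@[simp] theorem Twist.mul_val (a b : Twist β) :
    (a * b).val = a.val * b.val * β a.fst b.snd := rfl
@[simp] theorem Twist.one_fst : (1 : Twist β).fst = 1 := rfl
@[simp] theorem Twist.one_snd : (1 : Twist β).snd = 1 := rfl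
@[simp] theorem Twist.one_val : (1 : Twist β).val = 1 := rfl
@[simp] theorem Twist.inv_fst (a : Twist β) : a⁻¹.fst = a.fst⁻¹ := rfl
@[simp] theorem Twist.inv_snd (a : Twist β) : a⁻¹.snd = a.snd⁻¹ := rfl
@[simp] theorem Twist.inv_val (a : Twist β) : a⁻¹.val = a.val⁻¹ * β a.fst a.snd := rfl

instance : Group (Twist β) :=
  Group.ofLeftAxioms
    (fun a b c => by
      ext <;> simp [mul_assoc]
      simp [mul_left_comm, mul_comm])
    (fun a => by ext <;> simp)
    (fun a => by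
      ext <;> simp)

/-- The projection of a twist along homomorphisms of its two factors. -/
def Twist.map {Q₁ Q₂ : Type*} [Group Q₁] [Group Q₂] (f₁ : G₁ →* Q₁) (f₂ : G₂ →* Q₂) :
    Twist β →* Q₁ × Q₂ :=
  MonoidHom.mk' (fun a => (f₁ a.fst, f₂ a.snd)) fun a b => by simp

def Twist.inl : G₁ →* Twist β := MonoidHom.mk' (fun g => ⟨g, 1, 1⟩) fun a b => by ext <;> simp
def Twist.inr : G₂ →* Twist β := MonoidHom.mk' (fun g => ⟨1, g, 1⟩) fun a b => by ext <;> simp
def Twist.inz : T →* Twist β := MonoidHom.mk' (fun g => ⟨1, 1, g⟩) fun a b => by ext <;> simp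

theorem Twist.inz_pair (g : G₁) (h : G₂) :
    Twist.inz (β := β) (β g h) = ⁅Twist.inl (β := β) g, Twist.inr (β := β) h⁆ := by
  rw [commutatorElement_def, eq_mul_inv_iff_mul_eq, eq_mul_inv_iff_mul_eq]
  ext <;> simp [Twist.inl, Twist.inr, Twist.inz]

theorem Twist.eq_prod (a : Twist β) :
    a = Twist.inr a.snd * Twist.inl a.fst * Twist.inz a.val := by
  ext <;> simp [Twist.inl, Twist.inr, Twist.inz]

end Twist

variable {Q₁ : Type u} {Q₂ : Type v} [Group Q₁] [Group Q₂]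

/-- The tensor product of the abelianizations. -/
abbrev AbTensor (Q₁ : Type u) (Q₂ : Type v) [Group Q₁] [Group Q₂] : Type (max u v) :=
  Multiplicative (TensorProduct ℤ (Additive (Abelianization Q₁)) (Additive (Abelianization Q₂)))

variable (Q₁ Q₂) in
/-- The universal pairing. -/
def abPair : Q₁ →* Q₂ →* AbTensor Q₁ Q₂ :=
  MonoidHom.mk'
    (fun q => MonoidHom.mk'
      (fun q' => Multiplicative.ofAdd
        (Additive.ofMul (Abelianization.of q) ⊗ₜ[ℤ] Additive.ofMul (Abelianization.of q')))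
      fun a b => by rw [map_mul, ofMul_mul, TensorProduct.tmul_add, ofAdd_add])
    fun a b => MonoidHom.ext fun q' =>
      (congrArg Multiplicative.ofAdd (by rw [map_mul, ofMul_mul, TensorProduct.add_tmul])).trans
        (ofAdd_add _ _)

theorem abPair_induction {P : AbTensor Q₁ Q₂ → Prop} (one : P 1)
    (pair : ∀ g h, P (abPair Q₁ Q₂ g h)) (mul : ∀ x y, P x → P y → P (x * y)) (x : AbTensor Q₁ Q₂) :
    P x := by
  obtain ⟨x, rfl⟩ := Multiplicative.ofAdd.surjective x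
  induction x using TensorProduct.induction_on with
  | zero => exact one
  | tmul a b =>
    obtain ⟨g, hg⟩ := Quotient.exists_rep (Additive.toMul a)
    obtain ⟨h, hh⟩ := Quotient.exists_rep (Additive.toMul b)
    have hg' : Abelianization.of g = Additive.toMul a := hg
    have hh' : Abelianization.of h = Additive.toMul b := hh
    have : Multiplicative.ofAdd (a ⊗ₜ[ℤ] b) = abPair Q₁ Q₂ g h := by
      simp [abPair, hg', hh']
    rw [this]; exact pair g h
  | add a b ha hb => exact mul _ _ ha hb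

/-- Descending a pairing to the tensor product of the abelianizations. -/
theorem exists_abPair_lift {K : Type w} [CommGroup K] (c : Q₁ →* Q₂ →* K) :
    ∃ μ : AbTensor Q₁ Q₂ →* K, ∀ g h, μ (abPair Q₁ Q₂ g h) = c g h := by
  let c₂ : Q₁ →* (Abelianization Q₂ →* K) :=
    MonoidHom.mk' (fun q => Abelianization.lift (c q)) fun a b => by
      refine Abelianization.hom_ext _ _ (MonoidHom.ext fun x => ?_)
      simp
  let c₁ : Abelianization Q₁ →* (Abelianization Q₂ →* K) := Abelianization.lift c₂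
  let F : Additive (Abelianization Q₁) →+ (Additive (Abelianization Q₂) →+ Additive K) :=
    { toFun := fun a => MonoidHom.toAdditive (c₁ a.toMul)
      map_zero' := by ext; simp
      map_add' := fun a b => by ext; simp }
  let L := TensorProduct.liftAddHom (R := ℤ) F fun r a b => by simp [map_zsmul]
  refine ⟨AddMonoidHom.toMultiplicativeLeft L, fun g h => ?_⟩
  simp [abPair, L, F, c₁, c₂]

variable [Finite Q₁] [Finite Q₂]

/-- The cover of a direct product. -/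
theorem exists_product_cover :
    ∃ (Γ : Type (max u v)) (_ : Group Γ) (_ : Finite Γ) (σ : Γ →* Q₁ × Q₂),
      Cfsg.IsStemExtension σ ∧
        Nonempty (σ.ker ≃* M (canon Q₁) × M (canon Q₂) × AbTensor Q₁ Q₂) := by
  obtain ⟨Γ₁, _, _, σ₁, h₁, ⟨e₁⟩⟩ := exists_cover (canon Q₁) (canon_surjective Q₁)
  obtain ⟨Γ₂, _, _, σ₂, h₂, ⟨e₂⟩⟩ := exists_cover (canon Q₂) (canon_surjective Q₂)
  let β : Γ₁ →* Γ₂ →* AbTensor Q₁ Q₂ :=
    MonoidHom.mk' (fun g => (abPair Q₁ Q₂ (σ₁ g)).comp σ₂) fun a b => MonoidHom.ext fun x => by simp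
  let σ : Twist β →* Q₁ × Q₂ := Twist.map σ₁ σ₂
  have hmem : ∀ a : Twist β, a ∈ σ.ker ↔ σ₁ a.fst = 1 ∧ σ₂ a.snd = 1 := fun a => by
    show (σ₁ a.fst, σ₂ a.snd) = (1, 1) ↔ _
    rw [Prod.mk.injEq]
  let e : σ.ker ≃* σ₁.ker × σ₂.ker × AbTensor Q₁ Q₂ :=
    { toFun := fun a => (⟨a.1.fst, ((hmem a.1).mp a.2).1⟩, ⟨a.1.snd, ((hmem a.1).mp a.2).2⟩, a.1.val)
      invFun := fun p => ⟨⟨p.1.1, p.2.1.1, p.2.2⟩, (hmem _).mpr ⟨p.1.2, p.2.1.2⟩⟩
      left_inv := fun a => rfl
      right_inv := fun p => rfl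
      map_mul' := fun a b => by
        have ha := ((hmem a.1).mp a.2).1
        refine Prod.ext rfl (Prod.ext rfl ?_)
        show a.1.val * b.1.val * β a.1.fst b.1.snd = a.1.val * b.1.val
        have : β a.1.fst b.1.snd = 1 := by
          show abPair Q₁ Q₂ (σ₁ a.1.fst) (σ₂ b.1.snd) = 1
          rw [ha, map_one, MonoidHom.one_apply]
        rw [this, mul_one] }
  have hsurj : Function.Surjective σ := fun q => by
    obtain ⟨a, ha⟩ := h₁.1 q.1
    obtain ⟨b, hb⟩ := h₂.1 q.2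
    exact ⟨⟨a, b, 1⟩, Prod.ext ha hb⟩
  have hcen : σ.ker ≤ Subgroup.center (Twist β) := by
    intro k hk
    obtain ⟨k1, k2⟩ := (hmem k).mp hk
    rw [Subgroup.mem_center_iff]
    intro g
    refine Twist.ext (Subgroup.mem_center_iff.mp (h₁.2.1 k1) g.fst)
      (Subgroup.mem_center_iff.mp (h₂.2.1 k2) g.snd) ?_
    show g.val * k.val * abPair Q₁ Q₂ (σ₁ g.fst) (σ₂ k.snd) =
      k.val * g.val * abPair Q₁ Q₂ (σ₁ k.fst) (σ₂ g.snd)
    rw [k1, k2, map_one, map_one, MonoidHom.one_apply, mul_comm g.val]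
  have hstem : σ.ker ≤ commutator (Twist β) := by
    intro k hk
    obtain ⟨k1, k2⟩ := (hmem k).mp hk
    rw [Twist.eq_prod k]
    refine Subgroup.mul_mem _ (Subgroup.mul_mem _ ?_ ?_) ?_
    · have h : (commutator Γ₂).map (Twist.inr (β := β)) ≤ commutator (Twist β) := by
        rw [commutator_def, commutator_def, Subgroup.map_commutator]
        exact Subgroup.commutator_mono le_top le_top
      exact h (Subgroup.mem_map_of_mem _ (h₂.2.2 k2))
    · have h : (commutator Γ₁).map (Twist.inl (β := β)) ≤ commutator (Twist β) := by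
        rw [commutator_def, commutator_def, Subgroup.map_commutator]
        exact Subgroup.commutator_mono le_top le_top
      exact h (Subgroup.mem_map_of_mem _ (h₁.2.2 k1))
    · induction k.val using abPair_induction with
      | one => rw [map_one]; exact Subgroup.one_mem _
      | pair g h =>
        obtain ⟨a, rfl⟩ := h₁.1 g
        obtain ⟨b, rfl⟩ := h₂.1 h
        show Twist.inz (β a b) ∈ _
        rw [Twist.inz_pair]
        exact Subgroup.commutator_mem_commutator (Subgroup.mem_top _) (Subgroup.mem_top _)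
      | mul x y hx hy => rw [map_mul]; exact Subgroup.mul_mem _ hx hy
  have hσ : Cfsg.IsStemExtension σ := ⟨hsurj, hcen, hstem⟩
  have : Finite σ.ker := by
    obtain ⟨f, hf⟩ := exists_surj hσ (canon_surjective (Q₁ × Q₂))
    have := finite_M (canon (Q₁ × Q₂)) (canon_surjective _)
    exact Finite.of_surjective f hf
  have : Finite (Twist β) := by
    have : Finite (Twist β ⧸ σ.ker) :=
      Finite.of_equiv _ (QuotientGroup.quotientKerEquivOfSurjective σ hsurj).symm.toEquiv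
    exact Finite.of_subgroup_quotient σ.ker
  exact ⟨Twist β, inferInstance, this, σ, hσ,
    ⟨e.trans (MulEquiv.prodCongr e₁ (MulEquiv.prodCongr e₂ (MulEquiv.refl _)))⟩⟩

/-- The kernel of a stem extension of a product is an image of `M₁ × M₂ × T`. -/
theorem exists_surj_product {Δ : Type w} [Group Δ] {τ : Δ →* Q₁ × Q₂}
    (hτ : Cfsg.IsStemExtension τ) :
    ∃ f : M (canon Q₁) × M (canon Q₂) × AbTensor Q₁ Q₂ →* τ.ker, Function.Surjective f := by
  obtain ⟨hs, hc, hd⟩ := hτ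
  let : CommGroup τ.ker :=
    { (inferInstance : Group τ.ker) with mul_comm := mul_comm_of_le_center hc }
  obtain ⟨ψ₁, hψ₁⟩ := exists_lift_over (π := canon Q₁) τ hs hc (MonoidHom.inl Q₁ Q₂)
  obtain ⟨ψ₂, hψ₂⟩ := exists_lift_over (π := canon Q₂) τ hs hc (MonoidHom.inr Q₁ Q₂)
  have e₁ : ∀ x, τ (ψ₁ x) = (proj (canon Q₁) x, 1) := fun x => DFunLike.congr_fun hψ₁ x
  have e₂ : ∀ x, τ (ψ₂ x) = (1, proj (canon Q₂) x) := fun x => DFunLike.congr_fun hψ₂ x
  choose a ha using proj_surjective (canon Q₁) (canon_surjective Q₁)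
  choose b hb using proj_surjective (canon Q₂) (canon_surjective Q₂)
  have hcK : ∀ x y, ⁅ψ₁ x, ψ₂ y⁆ ∈ τ.ker := fun x y => by
    rw [MonoidHom.mem_ker, map_commutatorElement, e₁, e₂, commutatorElement_eq_one_iff_mul_comm]
    simp
  let cc : Q₁ → Q₂ → τ.ker := fun p q => ⟨_, hcK (a p) (b q)⟩
  have hcc : ∀ x y, ((cc (proj (canon Q₁) x) (proj (canon Q₂) y) : τ.ker) : Δ) = ⁅ψ₁ x, ψ₂ y⁆ :=
    fun x y => comm_congr τ hc (by rw [e₁, e₁, ha]) (by rw [e₂, e₂, hb])
  let c : Q₁ →* Q₂ →* τ.ker := MonoidHom.mk'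
    (fun p => MonoidHom.mk' (cc p) fun q q' => Subtype.ext (by
      have h := hcc (a p) (b q * b q')
      rw [map_mul, ha, hb, hb] at h
      rw [h, Subgroup.coe_mul, map_mul]
      show _ = ⁅ψ₁ (a p), ψ₂ (b q)⁆ * ⁅ψ₁ (a p), ψ₂ (b q')⁆
      rw [commutatorElement_mul_right_eq_aux _ _ _ (hc (hcK (a p) (b q')))]))
    fun p p' => MonoidHom.ext fun q => Subtype.ext (by
      have h := hcc (a p * a p') (b q)
      rw [map_mul, ha, ha, hb] at h
      show (cc (p * p') q : Δ) = ⁅ψ₁ (a p), ψ₂ (b q)⁆ * ⁅ψ₁ (a p'), ψ₂ (b q)⁆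
      rw [h, map_mul]
      rw [commutatorElement_mul_left_eq_aux _ _ _ (hc (hcK (a p') (b q)))])
  obtain ⟨μ, hμ⟩ := exists_abPair_lift c
  let β : E (canon Q₁) →* E (canon Q₂) →* AbTensor Q₁ Q₂ :=
    MonoidHom.mk' (fun g => (abPair Q₁ Q₂ (proj (canon Q₁) g)).comp (proj (canon Q₂)))
      fun a b => MonoidHom.ext fun x => by simp
  have hβ : ∀ x y, ((μ (β x y) : τ.ker) : Δ) = ⁅ψ₁ x, ψ₂ y⁆ := fun x y =>
    (congrArg Subtype.val (hμ _ _)).trans (hcc x y)
  let Φ : Twist β →* Δ :=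
    MonoidHom.mk' (fun x => ψ₂ x.snd * ψ₁ x.fst * (μ x.val : Δ)) fun x y => by
      have c1 := Subgroup.mem_center_iff.mp (hc (μ x.val).2)
      have c3 := Subgroup.mem_center_iff.mp (hc (μ (β x.fst y.snd)).2)
      simp only [Twist.mul_fst, Twist.mul_snd, Twist.mul_val, map_mul, Subgroup.coe_mul]
      have e : ψ₁ x.fst * ψ₂ y.snd = ψ₂ y.snd * ψ₁ x.fst * (μ (β x.fst y.snd) : Δ) := by
        rw [c3 (ψ₂ y.snd * ψ₁ x.fst), hβ, commutatorElement_def]; group
      calc ψ₂ x.snd * ψ₂ y.snd * (ψ₁ x.fst * ψ₁ y.fst) *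
            ((μ x.val : Δ) * μ y.val * μ (β x.fst y.snd))
          = ψ₂ x.snd * (ψ₂ y.snd * ψ₁ x.fst * (ψ₁ y.fst * (μ x.val : Δ)) *
              ((μ y.val : Δ) * μ (β x.fst y.snd))) := by group
        _ = ψ₂ x.snd * (ψ₂ y.snd * ψ₁ x.fst * ((μ x.val : Δ) * ψ₁ y.fst) *
              ((μ (β x.fst y.snd) : Δ) * μ y.val)) := by rw [c1 (ψ₁ y.fst), c3 (μ y.val : Δ)]
        _ = ψ₂ x.snd * (ψ₂ y.snd * ψ₁ x.fst * (((μ x.val : Δ) * ψ₁ y.fst) * μ (β x.fst y.snd)) *
              μ y.val) := by group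
        _ = ψ₂ x.snd * (ψ₂ y.snd * ψ₁ x.fst * μ (β x.fst y.snd) * (μ x.val : Δ) * ψ₁ y.fst *
              μ y.val) := by rw [c3 ((μ x.val : Δ) * ψ₁ y.fst)]; group
        _ = ψ₂ x.snd * (ψ₁ x.fst * ψ₂ y.snd * (μ x.val : Δ) * ψ₁ y.fst * μ y.val) := by rw [e]
        _ = ψ₂ x.snd * (ψ₁ x.fst * ((μ x.val : Δ) * ψ₂ y.snd) * ψ₁ y.fst * μ y.val) := by
            rw [← c1 (ψ₂ y.snd)]; group
        _ = _ := by group
  have hΦ : ∀ x, τ (Φ x) = Twist.map (proj (canon Q₁)) (proj (canon Q₂)) x := fun x => by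
    show τ (ψ₂ x.snd * ψ₁ x.fst * (μ x.val : Δ)) = _
    rw [map_mul, map_mul, e₁, e₂, show τ (μ x.val : Δ) = 1 from (μ x.val).2, mul_one]
    simp [Twist.map]
  have hsurj : Function.Surjective (Twist.map (β := β) (proj (canon Q₁)) (proj (canon Q₂))) :=
    fun q => ⟨⟨a q.1, b q.2, 1⟩, Prod.ext (ha q.1) (hb q.2)⟩
  have hle : commutator Δ ≤ (commutator (Twist β)).map Φ := by
    rw [commutator_def, commutator_def, Subgroup.commutator_le]
    intro g _ h _
    obtain ⟨x, hx⟩ := hsurj (τ g)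
    obtain ⟨y, hy⟩ := hsurj (τ h)
    rw [comm_congr τ hc (g' := Φ x) (h' := Φ y) (by rw [hΦ, hx]) (by rw [hΦ, hy]),
      ← map_commutatorElement]
    exact Subgroup.mem_map_of_mem _ (Subgroup.commutator_mem_commutator (Subgroup.mem_top _)
      (Subgroup.mem_top _))
  let f₁ : M (canon Q₁) →* τ.ker := (ψ₁.comp (M (canon Q₁)).subtype).codRestrict _ fun m => by
    show τ (ψ₁ m) = 1
    rw [e₁, show proj (canon Q₁) m = 1 from m.2.1]; rfl
  let f₂ : M (canon Q₂) →* τ.ker := (ψ₂.comp (M (canon Q₂)).subtype).codRestrict _ fun m => by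
    show τ (ψ₂ m) = 1
    rw [e₂, show proj (canon Q₂) m = 1 from m.2.1]; rfl
  refine ⟨f₁.coprod (f₂.coprod μ), fun k => ?_⟩
  obtain ⟨x, hx, hxk⟩ := hle (hd k.2)
  have hp : proj (canon Q₁) x.fst = 1 ∧ proj (canon Q₂) x.snd = 1 := by
    have h := hΦ x
    rw [hxk, show τ (k : Δ) = 1 from k.2] at h
    exact ⟨(congrArg Prod.fst h).symm, (congrArg Prod.snd h).symm⟩
  have h1 : x.fst ∈ commutator (E (canon Q₁)) := by
    have h : (commutator (Twist β)).map
        (MonoidHom.mk' (Twist.fst (β := β)) fun _ _ => rfl) ≤ commutator (E (canon Q₁)) := by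
      rw [commutator_def, commutator_def, Subgroup.map_commutator]
      exact Subgroup.commutator_mono le_top le_top
    exact h (Subgroup.mem_map_of_mem _ hx)
  have h2 : x.snd ∈ commutator (E (canon Q₂)) := by
    have h : (commutator (Twist β)).map
        (MonoidHom.mk' (Twist.snd (β := β)) fun _ _ => rfl) ≤ commutator (E (canon Q₂)) := by
      rw [commutator_def, commutator_def, Subgroup.map_commutator]
      exact Subgroup.commutator_mono le_top le_top
    exact h (Subgroup.mem_map_of_mem _ hx)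
  refine ⟨(⟨x.fst, hp.1, h1⟩, ⟨x.snd, hp.2, h2⟩, x.val), Subtype.ext ?_⟩
  rw [← hxk]
  show ψ₁ x.fst * (ψ₂ x.snd * (μ x.val : Δ)) = ψ₂ x.snd * ψ₁ x.fst * (μ x.val : Δ)
  rw [← mul_assoc]
  congr 1
  exact Subgroup.mem_center_iff.mp (hc (f₂ ⟨x.snd, hp.2, h2⟩).2) _
where
  commutatorElement_mul_right_eq_aux {G : Type w} [Group G] (x y z : G)
      (h : ⁅x, z⁆ ∈ Subgroup.center G) : ⁅x, y * z⁆ = ⁅x, y⁆ * ⁅x, z⁆ := by
    have h' := Subgroup.mem_center_iff.mp h
    calc ⁅x, y * z⁆ = ⁅x, y⁆ * (y * ⁅x, z⁆ * y⁻¹) := by simp only [commutatorElement_def]; group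
      _ = _ := by rw [h' y, mul_inv_cancel_right]
  commutatorElement_mul_left_eq_aux {G : Type w} [Group G] (x y z : G)
      (h : ⁅y, z⁆ ∈ Subgroup.center G) : ⁅x * y, z⁆ = ⁅x, z⁆ * ⁅y, z⁆ := by
    have h' := Subgroup.mem_center_iff.mp h
    calc ⁅x * y, z⁆ = x * ⁅y, z⁆ * x⁻¹ * ⁅x, z⁆ := by simp only [commutatorElement_def]; group
      _ = _ := by rw [h' x, mul_inv_cancel_right, ← h' ⁅x, z⁆]

/-- The multiplier of a direct product. -/
theorem hasSchurMultiplier_prod {A B : Type w} [CommGroup A] [CommGroup B]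
    (hA : Cfsg.HasSchurMultiplier Q₁ A) (hB : Cfsg.HasSchurMultiplier Q₂ B) :
    Cfsg.HasSchurMultiplier (Q₁ × Q₂) (A × B × AbTensor Q₁ Q₂) := by
  obtain ⟨eA⟩ := (hasSchurMultiplier_iff (canon_surjective Q₁)).mp hA
  obtain ⟨eB⟩ := (hasSchurMultiplier_iff (canon_surjective Q₂)).mp hB
  let e := MulEquiv.prodCongr eA (MulEquiv.prodCongr eB (MulEquiv.refl (AbTensor Q₁ Q₂)))
  obtain ⟨Γ, hG, hF, σ, hσ, ⟨f⟩⟩ := exists_product_cover (Q₁ := Q₁) (Q₂ := Q₂)
  refine ⟨⟨Γ, hG, hF, σ, hσ, ⟨f.trans e.symm⟩⟩, fun Δ _ _ τ hτ => ?_⟩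
  obtain ⟨p, hp⟩ := exists_surj_product hτ
  exact ⟨p.comp e.toMonoidHom, hp.comp e.surjective⟩

end Cfsg.Lib.Schur

namespace Cfsg.Lib.Schur

universe u v w x

theorem hasSchurMultiplier_congr {Q : Type u} [Group Q] {A : Type v} {B : Type w} [CommGroup A]
    [CommGroup B] (e : A ≃* B) (h : Cfsg.HasSchurMultiplier Q A) : Cfsg.HasSchurMultiplier Q B := by
  obtain ⟨⟨Γ, hG, hF, σ, hσ, ⟨f⟩⟩, hall⟩ := h
  refine ⟨⟨Γ, hG, hF, σ, hσ, ⟨f.trans e⟩⟩, fun Δ _ _ τ hτ => ?_⟩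
  obtain ⟨p, hp⟩ := hall Δ τ hτ
  exact ⟨p.comp e.symm.toMonoidHom, hp.comp e.symm.surjective⟩

theorem subsingleton_abTensor_of_coprime {Q₁ : Type u} {Q₂ : Type v} [Group Q₁] [Group Q₂]
    (h : Nat.Coprime (Nat.card (Abelianization Q₁)) (Nat.card (Abelianization Q₂))) :
    Subsingleton (AbTensor Q₁ Q₂) := by
  refine subsingleton_of_forall_eq 1 fun t => ?_
  induction t using abPair_induction with
  | one => rfl
  | mul a b ha hb => rw [ha, hb, mul_one]
  | pair g k =>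
    have h1 : abPair Q₁ Q₂ g k ^ Nat.card (Abelianization Q₁) = 1 := by
      simp [abPair, ← ofAdd_nsmul, TensorProduct.smul_tmul', ← ofMul_pow, pow_card_eq_one']
    have h2 : abPair Q₁ Q₂ g k ^ Nat.card (Abelianization Q₂) = 1 := by
      simp [abPair, ← ofAdd_nsmul, ← TensorProduct.tmul_smul, ← ofMul_pow, pow_card_eq_one']
    exact orderOf_eq_one_iff.mp (Nat.eq_one_of_dvd_coprimes h (orderOf_dvd_of_pow_eq_one h1)
      (orderOf_dvd_of_pow_eq_one h2))

end Cfsg.Lib.Schur
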