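import Cfsg.Agent.Schur.Criteria

set_option autoImplicit false

namespace Cfsg.Lib.Schur

open scoped commutatorElement

theorem closure_dihedral (n : ℕ) :
    Subgroup.closure ({DihedralGroup.r 1, DihedralGroup.sr 0} : Set (DihedralGroup n)) = ⊤ := by
  rw [eq_top_iff]
  rintro x -
  have hr : ∀ i : ZMod n, DihedralGroup.r i ∈
      Subgroup.closure ({DihedralGroup.r 1, DihedralGroup.sr 0} : Set (DihedralGroup n)) := by
    intro i
    obtain ⟨j, rfl⟩ := ZMod.intCast_surjective i
    rw [← DihedralGroup.r_one_zpow]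
    exact zpow_mem (Subgroup.subset_closure (Set.mem_insert _ _)) j
  cases x with
  | r i => exact hr i
  | sr i =>
    have : DihedralGroup.sr i = DihedralGroup.sr 0 * DihedralGroup.r i := by simp
    rw [this]
    exact mul_mem (Subgroup.subset_closure (Set.mem_insert_of_mem _ rfl)) (hr i)

theorem dihedral_bound (n k d : ℕ) (hk : ∀ i : ℤ, (n : ℤ) ∣ 2 * i → (k : ℤ) ∣ i) (hd : n ∣ k * d)
    {Γ : Type} [Group Γ] {σ : Γ →* DihedralGroup n} (hσ : Cfsg.IsStemExtension σ) :
    IsCyclic σ.ker ∧ Nat.card σ.ker ∣ d := by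
  refine metacyclic_bound (DihedralGroup.r 1) (DihedralGroup.sr 0) (-1) n 2 0 k d (by norm_num)
    (closure_dihedral n) (by simp) (by simp [DihedralGroup.inv_sr, DihedralGroup.inv_r])
    (by rw [sq, DihedralGroup.sr_mul_self, pow_zero]) (fun i hi => hk i ?_) ?_ hσ
  · rw [← orderOf_dvd_iff_zpow_eq_one, DihedralGroup.orderOf_r_one] at hi
    rw [show ((-1 : ℤ) - 1) * i = -(2 * i) by ring] at hi
    exact dvd_neg.mp hi
  · norm_num [Finset.sum_range_succ]; exact hd

theorem closure_quaternion (n : ℕ) :
    Subgroup.closure ({QuaternionGroup.a 1, QuaternionGroup.xa 0} : Set (QuaternionGroup n)) = ⊤ := by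
  rw [eq_top_iff]
  rintro x -
  have hr : ∀ i : ZMod (2 * n), QuaternionGroup.a i ∈
      Subgroup.closure ({QuaternionGroup.a 1, QuaternionGroup.xa 0} : Set (QuaternionGroup n)) := by
    intro i
    obtain ⟨j, rfl⟩ := ZMod.intCast_surjective i
    have : QuaternionGroup.a (j : ZMod (2 * n)) = (QuaternionGroup.a 1) ^ j := by
      induction j using Int.induction_on with
      | zero => simp
      | succ j ih => rw [zpow_add_one, ← ih, QuaternionGroup.a_mul_a]; simp
      | pred j ih =>
        rw [zpow_sub_one, ← ih, eq_mul_inv_iff_mul_eq, QuaternionGroup.a_mul_a]; simp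
    rw [this]
    exact zpow_mem (Subgroup.subset_closure (Set.mem_insert _ _)) j
  cases x with
  | a i => exact hr i
  | xa i =>
    have : QuaternionGroup.xa i = QuaternionGroup.xa 0 * QuaternionGroup.a i := by simp
    rw [this]
    exact mul_mem (Subgroup.subset_closure (Set.mem_insert_of_mem _ rfl)) (hr i)

theorem quaternion_bound (n : ℕ) [NeZero n] {Γ : Type} [Group Γ] {σ : Γ →* QuaternionGroup n}
    (hσ : Cfsg.IsStemExtension σ) : IsCyclic σ.ker ∧ Nat.card σ.ker ∣ 1 := by
  refine metacyclic_bound (QuaternionGroup.a 1) (QuaternionGroup.xa 0) (-1) (2 * n) 2 n n 1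
    (by norm_num) (closure_quaternion n) QuaternionGroup.a_one_pow_n ?_ ?_ ?_ ?_ hσ
  · rw [mul_inv_eq_iff_eq_mul, zpow_neg_one, eq_inv_mul_iff_mul_eq]
    simp
  · rw [QuaternionGroup.xa_sq, QuaternionGroup.a_one_pow]
  · intro i hi
    rw [← orderOf_dvd_iff_zpow_eq_one, QuaternionGroup.orderOf_a_one] at hi
    rw [show ((-1 : ℤ) - 1) * i = -(2 * i) by ring] at hi
    push_cast at hi
    exact (mul_dvd_mul_iff_left (two_ne_zero : (2 : ℤ) ≠ 0)).mp (dvd_neg.mp hi)
  · norm_num [Finset.sum_range_succ]

/-- The double cover of an even dihedral group by a quaternion group. -/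
def quatToDihedral (n : ℕ) : QuaternionGroup n →* DihedralGroup n :=
  MonoidHom.mk'
    (fun x => match x with
      | QuaternionGroup.a i => DihedralGroup.r (ZMod.castHom (dvd_mul_left n 2) (ZMod n) i)
      | QuaternionGroup.xa i => DihedralGroup.sr (ZMod.castHom (dvd_mul_left n 2) (ZMod n) i))
    (by
      rintro (i | i) (j | j) <;> simp [map_add, map_sub, map_natCast])

theorem quatToDihedral_stem (n : ℕ) [NeZero n] (hn : Even n) :
    Cfsg.IsStemExtension (quatToDihedral n) ∧ Nat.card (quatToDihedral n).ker = 2 := by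
  have hs : Function.Surjective (quatToDihedral n) := by
    rintro (i | i)
    · obtain ⟨j, rfl⟩ := ZMod.intCast_surjective i
      exact ⟨QuaternionGroup.a (j : ZMod (2 * n)), by simp [quatToDihedral]⟩
    · obtain ⟨j, rfl⟩ := ZMod.intCast_surjective i
      exact ⟨QuaternionGroup.xa (j : ZMod (2 * n)), by simp [quatToDihedral]⟩
  have hcard : Nat.card (quatToDihedral n).ker = 2 := by
    have h := Subgroup.card_mul_index (quatToDihedral n).ker
    rw [Subgroup.index_ker, MonoidHom.range_eq_top.mpr hs, Subgroup.card_top,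
      DihedralGroup.nat_card, Nat.card_eq_fintype_card (α := QuaternionGroup n),
      QuaternionGroup.card] at h
    have : 0 < n := NeZero.pos n
    nlinarith
  have hcen : (quatToDihedral n).ker ≤ Subgroup.center (QuaternionGroup n) := by
    intro x hx
    have hnor : (quatToDihedral n).ker.Normal := inferInstance
    -- a normal subgroup of order two is central
    rw [Subgroup.mem_center_iff]
    intro g
    have hgx : g * x * g⁻¹ ∈ (quatToDihedral n).ker := hnor.conj_mem x hx g
    have : Finite (quatToDihedral n).ker := Nat.finite_of_card_ne_zero (by omega)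
    by_cases h1 : x = 1
    · simp [h1]
    · obtain ⟨y, z, hyz, hu⟩ := Nat.card_eq_two_iff.mp hcard
      have tri : ∀ u v : (quatToDihedral n).ker, u ≠ 1 → v ≠ 1 → u = v := by
        intro u v hu' hv'
        have h := fun w : (quatToDihedral n).ker => (hu.symm.subset (Set.mem_univ w))
        simp only [Set.mem_insert_iff, Set.mem_singleton_iff] at h
        rcases h u with rfl | rfl <;> rcases h v with rfl | rfl <;> rcases h 1 with h' | h' <;>
          simp_all
      have := tri ⟨_, hgx⟩ ⟨x, hx⟩ (fun h => h1 (by simpa using congrArg Subtype.val h))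
        (fun h => h1 (congrArg Subtype.val h))
      have e : g * x * g⁻¹ = x := congrArg Subtype.val this
      exact mul_inv_eq_iff_eq_mul.mp e
  refine ⟨⟨hs, hcen, ?_⟩, hcard⟩
  intro x hx
  obtain ⟨h, rfl⟩ := hn
  cases x with
  | a i =>
    have hi : ZMod.castHom (dvd_mul_left (h + h) 2) (ZMod (h + h)) i = 0 := by
      rw [MonoidHom.mem_ker, DihedralGroup.one_def] at hx
      exact DihedralGroup.r.inj hx
    obtain ⟨j, rfl⟩ := ZMod.intCast_surjective i
    rw [map_intCast, ZMod.intCast_zmod_eq_zero_iff_dvd] at hi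
    obtain ⟨l, rfl⟩ := hi
    have : QuaternionGroup.a (((h + h : ℕ) : ℤ) * l : ℤ) =
        ⁅(QuaternionGroup.xa 0 : QuaternionGroup (h + h)), QuaternionGroup.a (-(h : ZMod (2 * (h + h))) * (l : ZMod (2 * (h + h))))⁆ := by
      rw [commutatorElement_def, eq_mul_inv_iff_mul_eq, eq_mul_inv_iff_mul_eq]
      simp only [QuaternionGroup.a_mul_a, QuaternionGroup.a_mul_xa, QuaternionGroup.xa_mul_a,
        QuaternionGroup.xa.injEq]
      push_cast
      ring
    rw [this]
    exact Subgroup.commutator_mem_commutator (Subgroup.mem_top _) (Subgroup.mem_top _)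
  | xa i =>
    rw [MonoidHom.mem_ker, DihedralGroup.one_def] at hx
    exact DihedralGroup.noConfusion rfl (heq_of_eq hx)

end Cfsg.Lib.Schur
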