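import Cfsg.Agent.Schur.LThreeFourCoverData

/-! Checks on the tables for the covers of `PSL(3, 4)`. -/

set_option autoImplicit false
set_option maxRecDepth 20000
set_option Elab.async false

namespace Cfsg.Lib.Schur.LThreeFour.Cover

open Matrix Cfsg.Lib.Classical.UThreeTwo

/-- A field of bits. -/
def bitsAt (T w i : ℕ) : ℕ := (T >>> (w * i)) % 2 ^ w

/-- The first coordinate. -/
def ua (u : Fin 64) : Fin 4 := Fin.ofNat 4 u.val

/-- The second coordinate. -/
def uc (u : Fin 64) : Fin 4 := Fin.ofNat 4 (u.val / 4)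

/-- The central coordinate. -/
def ub (u : Fin 64) : Fin 4 := Fin.ofNat 4 (u.val / 16)

/-- The number of a triple. -/
def mk64 (a c b : Fin 4) : Fin 64 := Fin.ofNat 64 (a.val + 4 * c.val + 16 * b.val)

/-- The product of unipotent elements. -/
def um (u v : Fin 64) : Fin 64 :=
  mk64 (cadd (ua u) (ua v)) (cadd (uc u) (uc v)) (cadd (cadd (ub u) (ub v)) (cmul (ua u) (uc v)))

/-- The inverse. -/
def uinv (u : Fin 64) : Fin 64 := mk64 (ua u) (uc u) (cadd (ub u) (cmul (ua u) (uc u)))

/-- The code of a unipotent element. -/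
def ucode (u : Fin 64) : Code := !![1, ua u, ub u; 0, 1, uc u; 0, 0, 1]

/-- The word of a unipotent element. -/
def uword (u : Fin 64) : List ℕ := wordTab.getD u.val []

/-- A value of a monomial cocycle. -/
def hv (k : Bool) (u : Fin 64) (i : Fin 4) : ℕ := bitsAt (hTab k) 2 (4 * u.val + i.val)

/-- The action on four points. -/
def pv (k : Bool) (u : Fin 64) (i : Fin 4) : Fin 4 := Fin.ofNat 4 (bitsAt (piTab k) 2 (4 * u.val + i.val))

/-- The cocycle. -/
def fc (k : Bool) (u v : Fin 64) : ℕ := (hv k u (pv k v 0) + hv k v 0 + 4 - hv k (um u v) 0) % 4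

/-- The point condition. -/
def monoAt (k : Bool) (u v : Fin 64) (i : Fin 4) : Prop :=
  pv k (um u v) i = pv k u (pv k v i) ∧
    (fc k u v + hv k (um u v) i) % 4 = (hv k u (pv k v i) + hv k v i) % 4

theorem uword_code : ∀ u, codeWord (uword u) = ucode u := by decide +kernel

theorem uword_lt : ∀ u, (uword u).all (fun k => Nat.blt k 6) = true := by decide +kernel

theorem ucode_triple : ∀ u, mk64 (ua u) (uc u) (ub u) = u := by decide +kernel

theorem um_basic : ∀ u, um 0 u = u ∧ um u 0 = u ∧ um (uinv u) u = 0 := by decide +kernel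

theorem mono_false : ∀ u v, ∀ i : Fin 4, pv false (um u v) i = pv false u (pv false v i) ∧
    (fc false u v + hv false (um u v) i) % 4 = (hv false u (pv false v i) + hv false v i) % 4 := by
  decide +kernel

theorem mono_true : ∀ u v, ∀ i : Fin 4, pv true (um u v) i = pv true u (pv true v i) ∧
    (fc true u v + hv true (um u v) i) % 4 = (hv true u (pv true v i) + hv true v i) % 4 := by
  decide +kernel

theorem ucode_mul : ∀ u v, mmul (ucode u) (ucode v) = ucode (um u v) := by decide +kernel

end Cfsg.Lib.Schur.LThreeFour.Cover
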