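import Cfsg.Agent.Schur.LThreeFour
import Cfsg.Agent.Schur.LThreeFourCoverCheck
import Cfsg.Agent.Schur.Exponent
import Cfsg.Agent.Schur.KernelRank

/-!
Kernels of stem extensions of `PSL(3, 4)` are images of `C₃ × C₄ × C₄`.
-/

set_option autoImplicit false
set_option linter.style.haveILetI false
set_option Elab.async false

open scoped commutatorElement

namespace Cfsg.Lib.Schur.LThreeFour.Cover

open Matrix Cfsg.Lib.Classical.UThreeTwo

universe u v

/-- Root elements commute with the commutators of root elements, which have order at most two. -/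
theorem comm_code : ∀ i j k : Fin 6,
    codeWord [i.val, j.val, i.val, j.val, k.val] = codeWord [k.val, i.val, j.val, i.val, j.val] ∧
    codeWord [i.val, j.val, i.val, j.val, i.val, j.val, i.val, j.val] = scal 1 := by decide +kernel

theorem gen_sq_code : ∀ k : Fin 6, codeWord [k.val, k.val] = scal 1 := by decide +kernel

theorem cent_code : ∀ i j k l : Fin 6, codeWord ([i.val, j.val, i.val, j.val] ++ [k.val, l.val, k.val, l.val]) =
    codeWord ([k.val, l.val, k.val, l.val] ++ [i.val, j.val, i.val, j.val]) := by decide +kernel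

theorem ucode_inj : ∀ u v, ucode u = ucode v → u = v := by
  intro u v h
  rw [← ucode_triple u, ← ucode_triple v, show ua u = ua v from congrFun (congrFun h 0) 1,
    show uc u = uc v from congrFun (congrFun h 1) 2, show ub u = ub v from congrFun (congrFun h 0) 2]

theorem uword_top : ∀ u, codeWord (uword u) 0 0 = 1 := by decide +kernel

/-- The code of `diag(1, ω, ω²)`. -/
def dCode : Code := !![1, 0, 0; 0, 2, 0; 0, 0, 3]

/-- The code of the cyclic permutation. -/
def cCode : Code := !![0, 0, 1; 1, 0, 0; 0, 1, 0]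

/-- Products of powers of the two elements of order three. -/
def nCode (x : Fin 3 × Fin 3) : Code := mmul (cpow dCode x.1.val) (cpow cCode x.2.val)

theorem threes_code : cdet dCode = 1 ∧ cdet cCode = 1 ∧ cpow dCode 3 = scal 1 ∧ cpow cCode 3 = scal 1 ∧
    mmul dCode cCode = mmul (scal 2) (mmul cCode dCode) := by decide +kernel

theorem nCode_sep : ∀ x y, ∀ s : Fin 4, s ≠ 0 → mmul (scal s) (nCode x) = nCode y → x = y := by decide +kernel

variable {F : Type u} [Field F] [CharP F 2] {ω : F} (hω : ω * ω = ω + 1)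

/-- The image of a unipotent element. -/
noncomputable def phi (x : Fin 64) : ProjectiveSpecialLinearGroup (Fin 3) F := wordVal (xq hω) (uword x)

theorem phi_eq (x : Fin 64) :
    phi hω x = QuotientGroup.mk' _ (wordVal (T hω) (uword x)) := xq_word hω _

theorem phi_mul (x y : Fin 64) : phi hω x * phi hω y = phi hω (um x y) := by
  rw [phi_eq, phi_eq, phi_eq, ← map_mul, ← wordVal_append]
  congr 1
  refine Subtype.ext ?_
  rw [wordVal_append, Matrix.SpecialLinearGroup.coe_mul, T_word, T_word, T_word, uword_code, uword_code,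
    uword_code, ← map_mmul hω, ucode_mul]

theorem phi_injective : Function.Injective (phi hω) := fun x y h =>
  ucode_inj x y (by rw [← uword_code, ← uword_code]; exact code_eq_of_xq hω (uword_top x) (uword_top y) h)

theorem phi_zero : phi hω 0 = 1 := by
  have h := phi_mul hω 0 0
  rw [(um_basic 0).1] at h
  exact mul_eq_left.mp h

theorem phi_mem_closure (x : Fin 64) : phi hω x ∈ Subgroup.closure (xq hω '' {k | k < 6}) := by
  refine Subgroup.list_prod_mem _ fun z hz => ?_
  obtain ⟨k, hk, rfl⟩ := List.mem_map.mp hz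
  have h := List.all_eq_true.mp (uword_lt x) k hk
  rw [Nat.blt_eq] at h
  exact Subgroup.subset_closure ⟨k, h, rfl⟩

/-- The unipotent subgroup. -/
noncomputable def unip : Subgroup (ProjectiveSpecialLinearGroup (Fin 3) F) where
  carrier := Set.range (phi hω)
  one_mem' := ⟨0, phi_zero hω⟩
  mul_mem' := by rintro _ _ ⟨x, rfl⟩ ⟨y, rfl⟩; exact ⟨um x y, (phi_mul hω x y).symm⟩
  inv_mem' := by
    rintro _ ⟨x, rfl⟩
    exact ⟨uinv x, eq_inv_of_mul_eq_one_left (by rw [phi_mul, (um_basic x).2.2, phi_zero])⟩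

theorem card_unip : Nat.card (unip hω) = 64 := by
  rw [show Nat.card (unip hω) = Nat.card (Set.range (phi hω)) from rfl,
    Nat.card_range_of_injective (phi_injective hω), Nat.card_eq_fintype_card, Fintype.card_fin]

/-- The special linear element of a code of determinant one. -/
noncomputable def slOf (X : Code) (h : cdet X = 1) : SpecialLinearGroup (Fin 3) F :=
  ⟨X.map (Cfsg.Lib.Classical.UThreeTwo.ev ω), by rw [det_map hω, h]; rfl⟩

/-- The image of a code of determinant one. -/
noncomputable def proj3 (X : Code) (h : cdet X = 1) : ProjectiveSpecialLinearGroup (Fin 3) F :=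
  QuotientGroup.mk' (Subgroup.center (SpecialLinearGroup (Fin 3) F)) (slOf hω X h)

theorem proj3_mul {X Y Z : Code} (hX : cdet X = 1) (hY : cdet Y = 1) (hZ : cdet Z = 1) (h : mmul X Y = Z) :
    proj3 hω X hX * proj3 hω Y hY = proj3 hω Z hZ := by
  have e : slOf hω X hX * slOf hω Y hY = slOf hω Z hZ := by
    refine Subtype.ext ?_
    show X.map (Cfsg.Lib.Classical.UThreeTwo.ev ω) * Y.map (Cfsg.Lib.Classical.UThreeTwo.ev ω) =
      Z.map (Cfsg.Lib.Classical.UThreeTwo.ev ω)
    rw [← map_mmul hω, h]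
  unfold proj3
  rw [← e]
  exact (map_mul _ _ _).symm

theorem proj3_one (h : cdet (scal 1) = 1) : proj3 hω (scal 1) h = 1 := by
  have e : slOf hω (scal 1) h = 1 := Subtype.ext (map_scal_one hω)
  unfold proj3
  rw [e]
  exact map_one _

theorem proj3_eq {X Y : Code} (hX : cdet X = 1) (hY : cdet Y = 1) {s : Fin 4}
    (h : X = mmul (scal s) Y) : proj3 hω X hX = proj3 hω Y hY := by
  have e : (slOf hω X hX).1 = scalar (Fin 3) (Cfsg.Lib.Classical.UThreeTwo.ev ω s) * (slOf hω Y hY).1 := by
    show X.map (Cfsg.Lib.Classical.UThreeTwo.ev ω) = _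
    rw [h, map_mmul hω, map_scal hω]
    rfl
  have hdet : Cfsg.Lib.Classical.UThreeTwo.ev ω s ^ 3 = 1 := by
    have hd := congrArg Matrix.det e
    rw [det_mul, (slOf hω X hX).2, (slOf hω Y hY).2, mul_one, scalar_apply, det_diagonal, Finset.prod_const,
      Finset.card_univ, Fintype.card_fin] at hd
    exact hd.symm
  let S : SpecialLinearGroup (Fin 3) F := ⟨scalar (Fin 3) (Cfsg.Lib.Classical.UThreeTwo.ev ω s), by
    rw [scalar_apply, det_diagonal, Finset.prod_const, Finset.card_univ, Fintype.card_fin, hdet]⟩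
  have hS : S ∈ Subgroup.center (SpecialLinearGroup (Fin 3) F) :=
    Matrix.SpecialLinearGroup.mem_center_iff.mpr
      ⟨Cfsg.Lib.Classical.UThreeTwo.ev ω s, by rw [Fintype.card_fin]; exact hdet, rfl⟩
  have e' : slOf hω X hX = S * slOf hω Y hY := Subtype.ext e
  unfold proj3
  refine (QuotientGroup.mk'_eq_mk' _).mpr ⟨S⁻¹, inv_mem hS, ?_⟩
  rw [e', ← Subgroup.mem_center_iff.mp hS, mul_inv_cancel_right]

include hω in
theorem cdet_cpow {X : Code} (h0 : cdet X = 1) : ∀ n, cdet (cpow X n) = 1
  | 0 => by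
    show cdet (scal 1) = 1
    decide +kernel
  | n + 1 => by
    refine Cfsg.Lib.Classical.UThreeTwo.ev_injective hω ?_
    rw [← det_map hω, show cpow X (n + 1) = mmul (cpow X n) X from rfl, map_mmul hω, Matrix.det_mul,
      det_map hω, det_map hω, cdet_cpow h0 n, h0]
    exact mul_one _

theorem proj3_pow {X : Code} (h0 : cdet X = 1) : ∀ n, ∀ h : cdet (cpow X n) = 1,
    proj3 hω X h0 ^ n = proj3 hω (cpow X n) h
  | 0, h => (pow_zero _).trans (proj3_one hω h).symm
  | n + 1, h => by
    rw [pow_succ, proj3_pow h0 n (cdet_cpow hω h0 n)]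
    exact proj3_mul hω _ _ _ rfl

theorem xq_pair {v w : List ℕ} (h : codeWord v = codeWord w) : wordVal (xq hω) v = wordVal (xq hω) w := by
  rw [xq_word, xq_word, eq_of_code hω h]

theorem xq_sq (k : Fin 6) : xq hω k * xq hω k = 1 := by
  have h := xq_pair hω (v := [k.val, k.val]) (w := []) (by rw [gen_sq_code k]; rfl)
  simpa [wordVal] using h

variable [Fintype F]

theorem factor_two (hF : Fintype.card F = 4) :
    (Nat.card (ProjectiveSpecialLinearGroup (Fin 3) F)).factorization 2 = 6 ∧
      (Nat.card (ProjectiveSpecialLinearGroup (Fin 3) F)).factorization 3 = 2 := by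
  rw [card_psl hF]
  constructor
  · rw [show (20160 : ℕ) = 2 ^ 6 * 315 by norm_num, Nat.factorization_mul (by norm_num) (by norm_num),
      Finsupp.add_apply, Nat.factorization_pow, Finsupp.smul_apply, Nat.Prime.factorization_self Nat.prime_two,
      Nat.factorization_eq_zero_of_not_dvd (by norm_num : ¬ (2 ∣ 315))]
    rfl
  · rw [show (20160 : ℕ) = 3 ^ 2 * 2240 by norm_num, Nat.factorization_mul (by norm_num) (by norm_num),
      Finsupp.add_apply, Nat.factorization_pow, Finsupp.smul_apply, Nat.Prime.factorization_self Nat.prime_three,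
      Nat.factorization_eq_zero_of_not_dvd (by norm_num : ¬ (3 ∣ 2240))]
    rfl

variable {Γ : Type v} [Group Γ] [Finite Γ]

include hω in
/-- Kernel elements of two-power order have order at most four. -/
theorem pow_four (hF : Fintype.card F = 4) {σ : Γ →* ProjectiveSpecialLinearGroup (Fin 3) F}
    (hσ : Cfsg.IsStemExtension σ) {z : Γ} (hz : z ∈ σ.ker) {k : ℕ} (hzk : z ^ 2 ^ k = 1) : z ^ 4 = 1 := by
  classical
  haveI : Fact (Nat.Prime 2) := ⟨Nat.prime_two⟩
  letI : CommGroup σ.ker := { (inferInstance : Group σ.ker) with mul_comm := mul_comm_of_le_center hσ.2.1 }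
  let K2 : Subgroup Γ :=
    { carrier := {w | w ∈ σ.ker ∧ w * w = 1}
      one_mem' := ⟨one_mem _, one_mul 1⟩
      mul_mem' := fun {a b} ha hb => ⟨mul_mem ha.1 hb.1, by
        rw [(show Commute b a from (Subgroup.mem_center_iff.mp (hσ.2.1 ha.1) b)).mul_mul_mul_comm, ha.2, hb.2, one_mul]⟩
      inv_mem' := fun {a} ha => ⟨inv_mem ha.1, by rw [← _root_.mul_inv_rev, ha.2, inv_one]⟩ }
  have hK2 : K2 ≤ σ.ker := fun w hw => hw.1
  haveI : K2.Normal := normal_of_le_center (hK2.trans hσ.2.1)
  obtain ⟨hτ, -⟩ := stem_quotient hσ K2 hK2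
  set τ := QuotientGroup.lift K2 σ hK2 with hτd
  have hcenτ : ∀ w, τ w = 1 → ∀ g, g * w = w * g := fun w hw => Subgroup.mem_center_iff.mp (hτ.2.1 hw)
  -- lifts of commuting involutions commute
  have invc : ∀ a b : Γ ⧸ K2, τ a * τ a = 1 → τ b * τ b = 1 → τ a * τ b = τ b * τ a → a * b = b * a := by
    intro a b ha hb hab
    obtain ⟨a', rfl⟩ := QuotientGroup.mk'_surjective K2 a
    obtain ⟨b', rfl⟩ := QuotientGroup.mk'_surjective K2 b
    change σ a' * σ a' = 1 at ha
    change σ b' * σ b' = 1 at hb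
    change σ a' * σ b' = σ b' * σ a' at hab
    refine commutatorElement_eq_one_iff_mul_comm.mp ?_
    rw [← map_commutatorElement]
    refine (QuotientGroup.eq_one_iff _).mpr ?_
    have hk : ⁅a', b'⁆ ∈ σ.ker := by
      rw [MonoidHom.mem_ker, map_commutatorElement]
      exact commutatorElement_eq_one_iff_mul_comm.mpr hab
    refine ⟨hk, ?_⟩
    have hc := Subgroup.mem_center_iff.mp (hσ.2.1 hk)
    have hsq : ⁅a' * a', b'⁆ = 1 := commutatorElement_eq_one_iff_mul_comm.mpr
      (Subgroup.mem_center_iff.mp (hσ.2.1 (show a' * a' ∈ σ.ker by rw [MonoidHom.mem_ker, map_mul, ha])) b').symm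
    rw [show ⁅a' * a', b'⁆ = a' * ⁅a', b'⁆ * a'⁻¹ * ⁅a', b'⁆ by simp only [commutatorElement_def]; group,
      hc a', mul_inv_cancel_right] at hsq
    exact hsq
  choose L hL using hτ.1
  let t : Fin 6 → Γ ⧸ K2 := fun k => L (xq hω k)
  have ht : ∀ k, τ (t k) * τ (t k) = 1 := fun k => by rw [hL]; exact xq_sq hω k
  have hτc : ∀ i j : Fin 6, τ ⁅t i, t j⁆ = wordVal (xq hω) [i.val, j.val, i.val, j.val] := fun i j => by
    rw [map_commutatorElement, hL, hL, commutatorElement_def, inv_eq_of_mul_eq_one_right (xq_sq hω i),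
      inv_eq_of_mul_eq_one_right (xq_sq hω j)]
    simp [wordVal, mul_assoc]
  have hcsq : ∀ i j, τ ⁅t i, t j⁆ * τ ⁅t i, t j⁆ = 1 := fun i j => by
    rw [hτc, ← wordVal_append]
    exact (xq_pair hω (w := []) (by rw [List.cons_append, List.cons_append, List.cons_append, List.cons_append,
      List.nil_append, (comm_code i j i).2]; rfl)).trans rfl
  have hct : ∀ i j k, t k * ⁅t i, t j⁆ = ⁅t i, t j⁆ * t k := fun i j k => by
    refine (invc _ _ (hcsq i j) (ht k) ?_).symm
    rw [hτc, hL, show xq hω k = wordVal (xq hω) [k.val] by simp [wordVal], ← wordVal_append, ← wordVal_append]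
    exact xq_pair hω (comm_code i j k).1
  have hcc : ∀ i j k l, ⁅t i, t j⁆ * ⁅t k, t l⁆ = ⁅t k, t l⁆ * ⁅t i, t j⁆ := fun i j k l => by
    refine invc _ _ (hcsq i j) (hcsq k l) ?_
    rw [hτc, hτc, ← wordVal_append, ← wordVal_append]
    exact xq_pair hω (cent_code i j k l)
  have hc2 : ∀ i j, ⁅t i, t j⁆ * ⁅t i, t j⁆ = 1 := fun i j => by
    have hsq : ⁅t i * t i, t j⁆ = 1 := commutatorElement_eq_one_iff_mul_comm.mpr
      (hcenτ _ (by rw [map_mul]; exact ht i) (t j)).symm
    rwa [show ⁅t i * t i, t j⁆ = t i * ⁅t i, t j⁆ * (t i)⁻¹ * ⁅t i, t j⁆ by simp only [commutatorElement_def]; group,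
      hct i j i, mul_inv_cancel_right] at hsq
  set C0 : Set (Γ ⧸ K2) := Set.range fun ij : Fin 6 × Fin 6 => ⁅t ij.1, t ij.2⁆
  have hCcomm : ∀ a ∈ Subgroup.closure C0, ∀ b ∈ Subgroup.closure C0, a * b = b * a := by
    intro a ha b hb
    have h1 : Subgroup.closure C0 ≤ Subgroup.centralizer C0 := by
      rw [Subgroup.closure_le]
      rintro _ ⟨⟨i, j⟩, rfl⟩
      exact Subgroup.mem_centralizer_iff.mpr (by rintro _ ⟨⟨k, l⟩, rfl⟩; exact hcc k l i j)
    have h2 : Subgroup.closure C0 ≤ Subgroup.centralizer (Subgroup.closure C0 : Set (Γ ⧸ K2)) := by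
      rw [Subgroup.centralizer_closure]; exact h1
    exact Subgroup.mem_centralizer_iff.mp (h2 hb) a ha
  have hN2 : ∀ w ∈ Subgroup.closure C0, w * w = 1 := by
    intro w hw
    induction hw using Subgroup.closure_induction with
    | mem x hx => obtain ⟨⟨i, j⟩, rfl⟩ := hx; exact hc2 i j
    | one => exact one_mul 1
    | mul a b ha hb iha ihb =>
      rw [(show Commute b a from hCcomm b hb a ha).mul_mul_mul_comm, iha, ihb, one_mul]
    | inv a _ iha => rw [← _root_.mul_inv_rev, iha, inv_one]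
  obtain ⟨S, hS⟩ := exists_sylow_map_le (p := 2) hσ.1 (unip hω) (by rw [card_unip, (factor_two hF).1]; norm_num)
  have hmap : ((S : Subgroup Γ).map (QuotientGroup.mk' K2)).map τ ≤ Subgroup.closure (τ '' Set.range t) := by
    rintro _ ⟨_, ⟨g, hg, rfl⟩, rfl⟩
    obtain ⟨x, hx⟩ := hS ⟨g, hg, rfl⟩
    show σ g ∈ _
    rw [← hx]
    refine Subgroup.closure_mono ?_ (phi_mem_closure hω x)
    rintro _ ⟨k, hk, rfl⟩
    exact ⟨t ⟨k, hk⟩, ⟨_, rfl⟩, hL _⟩
  have hcl := (Subgroup.commutator_mono (le_closure_union_ker hmap) (le_closure_union_ker hmap)).trans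
    (commutator_closure_le (N := Subgroup.closure C0) (fun a ha d hd => ?_) fun a ha b hb => ?_)
  · have hzS := mem_commutator_sylow_pow (p := 2) hσ hz hzk S
    have hzimg : QuotientGroup.mk' K2 z ∈ Subgroup.closure C0 := hcl (by
      rw [← Subgroup.map_commutator]; exact ⟨z, hzS, rfl⟩)
    have h := hN2 _ hzimg
    rw [← map_mul] at h
    have h4 := ((QuotientGroup.eq_one_iff _).mp h).2
    rw [show (4 : ℕ) = 2 + 2 from rfl, pow_add, pow_two]
    exact h4
  · have hcomm : a * d = d * a := by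
      rcases ha with ha | ha
      · obtain ⟨k, rfl⟩ := ha
        induction hd using Subgroup.closure_induction with
        | mem x hx => obtain ⟨⟨i, j⟩, rfl⟩ := hx; exact hct i j k
        | one => rw [mul_one, one_mul]
        | mul x y _ _ ihx ihy => exact (show Commute (t k) x from ihx).mul_right ihy
        | inv x _ ihx => exact (show Commute (t k) x from ihx).inv_right
      · exact (hcenτ a ha d).symm
    rw [hcomm, mul_inv_cancel_right]
    exact hd
  · rcases ha with ha | ha
    · rcases hb with hb | hb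
      · obtain ⟨i, rfl⟩ := ha
        obtain ⟨j, rfl⟩ := hb
        exact Subgroup.subset_closure ⟨(i, j), rfl⟩
      · rw [commutatorElement_eq_one_iff_mul_comm.mpr (hcenτ b hb a)]
        exact one_mem _
    · rw [commutatorElement_eq_one_iff_mul_comm.mpr (hcenτ a ha b).symm]
      exact one_mem _

include hω in
/-- The kernel modulo cubes is small. -/
theorem card_three (hF : Fintype.card F = 4) {σ : Γ →* ProjectiveSpecialLinearGroup (Fin 3) F}
    (hσ : Cfsg.IsStemExtension σ) (h3 : ∀ z ∈ σ.ker, z ^ 3 = 1) : Nat.card σ.ker ≤ 3 := by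
  classical
  haveI : Fact (Nat.Prime 3) := ⟨Nat.prime_three⟩
  obtain ⟨hdd, hdc, hd3, hc3, hdcc⟩ := threes_code
  have hdet : ∀ x, cdet (nCode x) = 1 := by decide +kernel
  set d := proj3 hω dCode hdd
  set c := proj3 hω cCode hdc
  have hdc' : d * c = c * d := by
    have h1 : cdet (mmul dCode cCode) = 1 := by decide +kernel
    have h2 : cdet (mmul cCode dCode) = 1 := by decide +kernel
    rw [proj3_mul hω hdd hdc h1 rfl, proj3_mul hω hdc hdd h2 rfl]
    exact proj3_eq hω h1 h2 hdcc
  have hinj : Function.Injective fun x : Fin 3 × Fin 3 => d ^ x.1.val * c ^ x.2.val := by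
    intro x y hxy
    have hd' : ∀ n : Fin 3, cdet (cpow dCode n.val) = 1 ∧ cdet (cpow cCode n.val) = 1 := by decide +kernel
    simp only [d, c, proj3_pow hω hdd _ (hd' x.1).1, proj3_pow hω hdc _ (hd' x.2).2,
      proj3_pow hω hdd _ (hd' y.1).1, proj3_pow hω hdc _ (hd' y.2).2,
      proj3_mul hω _ _ (hdet x) (rfl : _ = nCode x), proj3_mul hω _ _ (hdet y) (rfl : _ = nCode y)] at hxy
    obtain ⟨z, hz, he⟩ := (QuotientGroup.mk'_eq_mk' _).mp hxy
    obtain ⟨r, hr3, hr⟩ := Matrix.SpecialLinearGroup.mem_center_iff.1 hz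
    have e : (nCode x).map (Cfsg.Lib.Classical.UThreeTwo.ev ω) * z.1 = (nCode y).map (Cfsg.Lib.Classical.UThreeTwo.ev ω) := congrArg Subtype.val he
    rw [← hr] at e
    rw [Fintype.card_fin] at hr3
    have hr0 : r ≠ 0 := fun h => by rw [h] at hr3; norm_num at hr3
    obtain ⟨s, hs⟩ : ∃ s, Cfsg.Lib.Classical.UThreeTwo.ev ω s = r :=
      ((Fintype.bijective_iff_injective_and_card (Cfsg.Lib.Classical.UThreeTwo.ev ω)).mpr ⟨Cfsg.Lib.Classical.UThreeTwo.ev_injective hω, by
        rw [Fintype.card_fin, hF]⟩).2 r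
    refine nCode_sep x y s (fun h => hr0 (by rw [← hs, h]; rfl)) (Matrix.map_injective (Cfsg.Lib.Classical.UThreeTwo.ev_injective hω) ?_)
    show (mmul (scal s) (nCode x)).map _ = (nCode y).map _
    rw [map_mmul hω, map_scal hω, hs, ← e]
    exact Matrix.scalar_commute r (fun _ => Commute.all _ _) _
  have h1det : cdet (scal 1) = 1 := by decide +kernel
  have hd31 : d ^ 3 = 1 := by
    refine (proj3_pow hω hdd 3 (cdet_cpow hω hdd 3)).trans ?_
    simp only [hd3]
    exact proj3_one hω h1det
  have hc31 : c ^ 3 = 1 := by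
    refine (proj3_pow hω hdc 3 (cdet_cpow hω hdc 3)).trans ?_
    simp only [hc3]
    exact proj3_one hω h1det
  have hmod : ∀ (x : ProjectiveSpecialLinearGroup (Fin 3) F) (n : ℕ), x ^ 3 = 1 →
      x ^ (n % 3) = x ^ n := fun x n hx => by
    conv_rhs => rw [← Nat.div_add_mod n 3, pow_add, pow_mul, hx, one_pow, one_mul]
  let P : Subgroup (ProjectiveSpecialLinearGroup (Fin 3) F) :=
    { carrier := Set.range fun x : Fin 3 × Fin 3 => d ^ x.1.val * c ^ x.2.val
      one_mem' := ⟨(0, 0), by simp⟩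
      mul_mem' := by
        rintro _ _ ⟨x, rfl⟩ ⟨y, rfl⟩
        refine ⟨(x.1 + y.1, x.2 + y.2), ?_⟩
        simp only [Fin.val_add]
        rw [hmod d _ hd31, hmod c _ hc31, pow_add, pow_add]
        exact ((show Commute d c from hdc').pow_pow _ _).mul_mul_mul_comm _ _
      inv_mem' := by
        rintro _ ⟨x, rfl⟩
        refine ⟨(-x.1, -x.2), eq_inv_of_mul_eq_one_left ?_⟩
        have h : ∀ n : Fin 3, ((-n).val + n.val) % 3 = 0 := by decide
        simp only []
        rw [((show Commute c d from hdc'.symm).pow_pow _ _).mul_mul_mul_comm, ← pow_add, ← pow_add,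
          ← hmod d _ hd31, ← hmod c _ hc31, h, h, pow_zero, pow_zero, mul_one] }
  have hP : Nat.card P = 3 ^ (Nat.card (ProjectiveSpecialLinearGroup (Fin 3) F)).factorization 3 := by
    rw [(factor_two hF).2, show Nat.card P = Nat.card (Set.range fun x : Fin 3 × Fin 3 =>
      d ^ x.1.val * c ^ x.2.val) from rfl, Nat.card_range_of_injective hinj, Nat.card_eq_fintype_card]
    simp
  obtain ⟨S, hS⟩ := exists_sylow_map_le hσ.1 P hP
  obtain ⟨A, hA⟩ := hσ.1 d
  obtain ⟨B, hB⟩ := hσ.1 c
  have hcen : ∀ w, σ w = 1 → ∀ g, g * w = w * g := fun w hw => Subgroup.mem_center_iff.mp (hσ.2.1 hw)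
  have hAB : ⁅A, B⁆ ∈ σ.ker := by
    rw [MonoidHom.mem_ker, map_commutatorElement, hA, hB]
    exact commutatorElement_eq_one_iff_mul_comm.mpr hdc'
  have hmap : (S : Subgroup Γ).map σ ≤ Subgroup.closure (σ '' {A, B}) := by
    refine hS.trans ?_
    rintro _ ⟨x, rfl⟩
    exact mul_mem (pow_mem (Subgroup.subset_closure (show d ∈ σ '' {A, B} from ⟨A, Or.inl rfl, hA⟩)) _)
      (pow_mem (Subgroup.subset_closure (show c ∈ σ '' {A, B} from ⟨B, Or.inr rfl, hB⟩)) _)
  have hle : σ.ker ≤ Subgroup.zpowers ⁅A, B⁆ := by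
    intro z hz
    refine ((Subgroup.commutator_mono (le_closure_union_ker hmap) (le_closure_union_ker hmap)).trans
      (commutator_closure_le (fun a _ e he => ?_) fun a ha b hb => ?_))
      (mem_commutator_sylow_pow (p := 3) hσ hz (k := 1) (by rw [pow_one]; exact h3 z hz) S)
    · rw [hcen e ((Subgroup.zpowers_le.mpr hAB) he) a, mul_inv_cancel_right]
      exact he
    · rcases ha with ha | ha
      swap
      · rw [commutatorElement_eq_one_iff_mul_comm.mpr (hcen a ha b).symm]; exact one_mem _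
      rcases hb with hb | hb
      swap
      · rw [commutatorElement_eq_one_iff_mul_comm.mpr (hcen b hb a)]; exact one_mem _
      rcases ha with rfl | rfl <;> rcases hb with rfl | rfl
      · rw [commutatorElement_self]; exact one_mem _
      · exact Subgroup.mem_zpowers _
      · exact Subgroup.mem_zpowers_iff.mpr ⟨-1, by rw [_root_.zpow_neg_one, commutatorElement_inv]⟩
      · rw [commutatorElement_self]; exact one_mem _
  refine (Subgroup.card_le_of_le hle).trans ?_
  rw [Nat.card_zpowers]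
  exact Nat.le_of_dvd (by norm_num) (orderOf_dvd_of_pow_eq_one (h3 _ hAB))

include hω in
/-- Every kernel is an image of `C₃ × C₄ × C₄`. -/
theorem kernel_image (hF : Fintype.card F = 4) {σ : Γ →* ProjectiveSpecialLinearGroup (Fin 3) F}
    (hσ : Cfsg.IsStemExtension σ) :
    ∃ π : Multiplicative (ZMod 3 × ZMod 4 × ZMod 4) →* σ.ker, Function.Surjective π := by
  classical
  letI : CommGroup σ.ker := { (inferInstance : Group σ.ker) with mul_comm := mul_comm_of_le_center hσ.2.1 }
  have hidx : σ.ker.index = 20160 := by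
    rw [Subgroup.index_ker, MonoidHom.range_eq_top.mpr hσ.1, Subgroup.card_top, card_psl hF]
  have hexp := exponent_sq_dvd_index σ.ker hσ.2.1 hσ.2.2
  rw [hidx] at hexp
  have h24 : Monoid.exponent σ.ker ∣ 24 := by
    generalize Monoid.exponent σ.ker = e at hexp ⊢
    have he0 : e ≠ 0 := fun h => by subst h; norm_num at hexp
    have hle : e ≤ 141 := by
      by_contra h
      have := Nat.le_of_dvd (by norm_num) hexp
      have : 142 * 142 ≤ e ^ 2 := by rw [pow_two]; exact Nat.mul_le_mul (by omega) (by omega)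
      omega
    have key : ∀ i < 142, i ^ 2 ∣ 20160 → i ∣ 24 := by decide +kernel
    exact key e (by omega) hexp
  have h12 : ∀ z : σ.ker, z ^ 12 = 1 := by
    intro z
    have h : (z : Γ) ^ 24 = 1 := by
      rw [← Subgroup.coe_pow, Monoid.exponent_dvd_iff_forall_pow_eq_one.mp h24 z, Subgroup.coe_one]
    refine Subtype.ext ?_
    rw [Subgroup.coe_pow, Subgroup.coe_one, show (12 : ℕ) = 3 * 4 from rfl, pow_mul]
    exact pow_four hω hF hσ (pow_mem z.2 3) (k := 3) (by rw [← pow_mul]; exact h)
  have hbound : ∀ (n : ℕ), (∀ (Δ : Type v) [Group Δ] [Finite Δ] (τ : Δ →* ProjectiveSpecialLinearGroup (Fin 3) F),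
      Cfsg.IsStemExtension τ → (∀ z ∈ τ.ker, z ^ n = 1) → Nat.card τ.ker ≤ (if n = 2 then 4 else 3)) →
      (powMonoidHom n : σ.ker →* σ.ker).range.index ≤ (if n = 2 then 4 else 3) := by
    intro n hn
    set L := (powMonoidHom n : σ.ker →* σ.ker).range
    set L' : Subgroup Γ := L.map σ.ker.subtype with hL'
    have hle : L' ≤ σ.ker := Subgroup.map_subtype_le L
    haveI : L'.Normal := normal_of_le_center (hle.trans hσ.2.1)
    obtain ⟨hτ, hker⟩ := stem_quotient hσ L' hle
    refine le_trans (le_of_eq ?_) (hn (Γ ⧸ L') _ hτ fun z hz => ?_)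
    · rw [hker, ← Subgroup.relIndex_bot_left (σ.ker.map _), ← Subgroup.map_bot (QuotientGroup.mk' L'),
        Subgroup.relIndex_map_map, QuotientGroup.ker_mk', bot_sup_eq, sup_eq_left.mpr hle, hL',
        Subgroup.relIndex, ← Subgroup.comap_subtype,
        Subgroup.comap_map_eq_self_of_injective (Subgroup.subtype_injective _)]
    · rw [hker] at hz
      obtain ⟨w, hw, rfl⟩ := hz
      rw [← map_pow]
      exact (QuotientGroup.eq_one_iff _).mpr ⟨(⟨w, hw⟩ : σ.ker) ^ n, ⟨⟨w, hw⟩, rfl⟩, rfl⟩
  refine exists_surj_three_four_four h12 ?_ ?_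
  · exact hbound 2 fun Δ _ _ τ hτ h => by
      rw [if_pos rfl]
      exact LThreeFour.card_ker_le hω hF hτ fun z hz => by rw [← pow_two]; exact h z hz
  · exact hbound 3 fun Δ _ _ τ hτ h => by
      rw [if_neg (by norm_num)]
      exact card_three hω hF hτ h

end Cfsg.Lib.Schur.LThreeFour.Cover
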