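import Cfsg.Agent.Schur.CollectBound

/-! The certificate for the exponent-two covers of `PSL(3, 4)`. -/

set_option autoImplicit false

namespace Cfsg.Lib.Schur.LThreeFour

/-- The certificate. -/
def cert : PcCert where
  n := 6
  extra := 0
  tails := [[[], [], [], [], [], []], [[0, 1], [], [], [], [], []], [[0, 2, 4], [1, 2, 5], [], [], [], []], [[0, 3, 5], [1, 3, 4, 5], [2, 3], [], [], []], [[0, 4], [1, 4], [2, 4], [3, 4], [], []], [[0, 5], [1, 5], [2, 5], [3, 5], [4, 5], []]]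
  assoc := [(0, 0, 0), (1, 0, 0), (1, 1, 0), (1, 1, 1), (2, 0, 0), (2, 1, 0), (2, 1, 1), (2, 2, 0), (2, 2, 1), (2, 2, 2), (3, 0, 0), (3, 1, 0), (3, 1, 1), (3, 2, 0), (3, 2, 1), (3, 2, 2), (3, 3, 0), (3, 3, 1), (3, 3, 2), (3, 3, 3), (4, 0, 0), (4, 1, 0), (4, 1, 1), (4, 2, 0), (4, 2, 1), (4, 2, 2), (4, 3, 0), (4, 3, 1), (4, 3, 2), (4, 3, 3), (4, 4, 0), (4, 4, 1), (4, 4, 2), (4, 4, 3), (4, 4, 4), (5, 0, 0), (5, 1, 0), (5, 1, 1), (5, 2, 0), (5, 2, 1), (5, 2, 2), (5, 3, 0), (5, 3, 1), (5, 3, 2), (5, 3, 3), (5, 4, 0), (5, 4, 1), (5, 4, 2), (5, 4, 3), (5, 4, 4), (5, 5, 0), (5, 5, 1), (5, 5, 2), (5, 5, 3), (5, 5, 4), (5, 5, 5)]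
  squares := [([5], false), ([4], false), ([4, 5], false), ([3], false), ([3, 5], false), ([3, 4], false), ([3, 4, 5], false), ([2], false), ([2, 5], false), ([2, 4], false), ([2, 4, 5], false), ([2, 3], false), ([2, 3, 5], false), ([2, 3, 4], false), ([2, 3, 4, 5], false), ([1], false), ([1, 5], false), ([1, 4], false), ([1, 4, 5], false), ([0], false), ([0, 5], false), ([0, 4], false), ([0, 4, 5], false), ([0, 1], false), ([0, 1, 5], false), ([0, 1, 4], false), ([0, 1, 4, 5], false)]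
  fuse := []
  delta := [0, 0, 0, 0, 4096, 8192]
  sels := [[[4, 5, 11, 12, 24, 56, 75], [], [], [], [], []], [[4, 5, 11, 12, 24, 56, 71, 75, 79], [4, 5, 11, 12, 24, 56, 71], [], [], [], []], [[], [], [4, 5, 11, 12, 24, 56, 63], [], [], []], [[83], [84], [4, 5, 11, 12, 24, 56, 59, 63, 67], [4, 5, 11, 12, 24, 56, 59], [], []], [[6, 10, 11, 24], [4, 10, 11, 12], [4, 6, 7, 10, 11, 24], [4, 5, 8, 11, 12, 13], [4, 6, 10, 11, 24], []], [[4, 5, 10, 11, 12, 24], [4, 5, 6, 11, 12, 24], [4, 5, 8, 11, 12, 24], [5, 6, 7, 8, 10, 12, 14, 24], [24], [4, 5, 11, 12, 24]]]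

/-- The designated sums of rules. -/
def des : List (List (ℕ × ℕ)) := [[(2, 1), (3, 0)], [(2, 0), (2, 1), (3, 1)]]

end Cfsg.Lib.Schur.LThreeFour
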